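import Cfsg.Agent.H464.L2Cover
import Cfsg.Agent.H915.LD

/-!
# Low-dimensional hub, row T1, stage 1: cores with socle `PSL₂(q)` in cross characteristic (helper464)

* `l2_rep` : `Core P`, `Soc P ≃* PSL₂(K)`, `|K| ≥ 5`, `|K| ≠ 9` ⟹ `P` is the range of a homomorphism from `SL₂(K)`;
* `l2_dims` : the five possible degrees, `p ∤ |K|`;
* `l2_stage1` : `SD P` or `q ≡ 3 (mod 4)`, `n = (q ± 1) / 2` and `Fr P p` / `Cj P p` according as `p` is a square in `K` or not;
* `l2_stage1_le` : the explicit list for `n ≤ 12`, `l2_degrees` the pairs `(q, n)`.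
-/

set_option autoImplicit false
set_option linter.unusedSectionVars false

namespace Cfsg.Agent.H464.Sl2

open Matrix Module Cfsg Cfsg.Geo Cfsg.Agent.H915.LD

universe u v

variable {ι : Type} [Fintype ι] [DecidableEq ι] {F : Type u} [Field F] {P : Subgroup (GL ι F)}

/-- `P` is an image of `SL₂(K)`. -/
theorem l2_rep (hC : Core P) {K : Type v} [Field K] [Fintype K] (h5 : 5 ≤ Fintype.card K) (h9 : Fintype.card K ≠ 9)
    (e : Soc P ≃* ProjectiveSpecialLinearGroup (Fin 2) K) :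
    ∃ ρ : SpecialLinearGroup (Fin 2) K →* GL ι F, ρ.range = P ∧
      ∀ (g : SpecialLinearGroup (Fin 2) K) (h : ρ g ∈ P), e (toSoc P ⟨ρ g, h⟩) = QuotientGroup.mk g :=
  exists_rep hC.perfect (by omega) (by omega) h9 e

/-- The same on `Fin n`. -/
theorem l2_rep_fin (hC : Core P) {K : Type v} [Field K] [Fintype K] (h5 : 5 ≤ Fintype.card K)
    (h9 : Fintype.card K ≠ 9) (e : Soc P ≃* ProjectiveSpecialLinearGroup (Fin 2) K) :
    ∃ (ρ : SpecialLinearGroup (Fin 2) K →* GL ι F)
      (ρ' : SpecialLinearGroup (Fin 2) K →* GL (Fin (Fintype.card ι)) F), ρ.range = P ∧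
      (∀ g, (ρ' g : Matrix (Fin (Fintype.card ι)) (Fin (Fintype.card ι)) F).trace = tr (ρ g)) ∧ ρ' ≠ 1 ∧
      ActsAbsolutelyIrreducibly (matrixSet ρ'.range) := by
  obtain ⟨ρ, hρ, -⟩ := l2_rep hC h5 h9 e
  let re := reGL (F := F) (Fintype.equivFin ι)
  refine ⟨ρ, re.toMonoidHom.comp ρ, hρ, fun g => trace_reGL (Fintype.equivFin ι) (ρ g), ?_, ?_⟩
  · intro h
    have h1 : ρ = 1 := by
      ext1 g
      apply re.injective
      have h2 := DFunLike.congr_fun h g
      rw [MonoidHom.one_apply, map_one]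
      exact h2
    rw [h1] at hρ
    apply hC.nonabelian
    have h3 : Subsingleton P := by
      constructor
      rintro ⟨a, ha⟩ ⟨b, hb⟩
      rw [← hρ] at ha hb
      obtain ⟨x, rfl⟩ := ha
      obtain ⟨y, rfl⟩ := hb
      rfl
    have h2 : Subsingleton (P ⧸ (scalars ι F).subgroupOf P) := by
      constructor
      intro a b
      induction a using QuotientGroup.induction_on with
      | H a =>
        induction b using QuotientGroup.induction_on with
        | H b => rw [Subsingleton.elim a b]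
    exact ⟨⟨fun a b => Subsingleton.elim _ _⟩⟩
  · have h1 : (re.toMonoidHom.comp ρ).range = P.map re.toMonoidHom := by
      rw [MonoidHom.range_comp, hρ]
    rw [h1]
    exact absIrr_reGL _ hC.absIrred

variable [Finite F] (p : ℕ) [hp : Fact p.Prime] [CharP F p]

theorem card_coprime {K : Type v} [Field K] [Fintype K] (hpK : ¬ p ∣ Fintype.card K) :
    (Fintype.card K : F) ≠ 0 ∧ ((ringChar K : ℕ) : F) ≠ 0 := by
  have h1 : (Fintype.card K : F) ≠ 0 := fun h => hpK ((CharP.cast_eq_zero_iff F p _).1 h)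
  refine ⟨h1, fun h => h1 ?_⟩
  have h2 : ringChar K ∣ Fintype.card K := by rw [← ringChar.spec, Nat.cast_card_eq_zero]
  obtain ⟨m, hm⟩ := h2
  rw [hm, Nat.cast_mul, h, zero_mul]

/-- **Degrees.** -/
theorem l2_dims (hC : Core P) {K : Type v} [Field K] [Fintype K] (h5 : 5 ≤ Fintype.card K)
    (h9 : Fintype.card K ≠ 9) (hpK : ¬ p ∣ Fintype.card K) (e : Soc P ≃* ProjectiveSpecialLinearGroup (Fin 2) K) :
    Fintype.card ι = Fintype.card K - 1 ∨ Fintype.card ι = Fintype.card K ∨ Fintype.card ι = Fintype.card K + 1 ∨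
      (Fintype.card K % 2 = 1 ∧
        (Fintype.card ι = (Fintype.card K - 1) / 2 ∨ Fintype.card ι = (Fintype.card K + 1) / 2)) := by
  obtain ⟨ρ, ρ', -, -, h1, h2⟩ := l2_rep_fin hC h5 h9 e
  exact sl2_dims (r := ringChar K) (CharP.char_is_prime K _) rfl (by omega) (card_coprime p hpK).2 ρ' h1 h2

/-- **Stage 1.** -/
theorem l2_stage1 (hC : Core P) {K : Type v} [Field K] [Fintype K] (h5 : 5 ≤ Fintype.card K)
    (h9 : Fintype.card K ≠ 9) (hpK : ¬ p ∣ Fintype.card K) (e : Soc P ≃* ProjectiveSpecialLinearGroup (Fin 2) K) :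
    SD P ∨ (Fintype.card K % 4 = 3 ∧
      (Fintype.card ι = (Fintype.card K - 1) / 2 ∨ Fintype.card ι = (Fintype.card K + 1) / 2) ∧
      (IsSquare (p : K) → Fr P p) ∧ (¬ IsSquare (p : K) → Cj P p)) := by
  classical
  obtain ⟨ρ, ρ', hρ, htr, h1, h2⟩ := l2_rep_fin hC h5 h9 e
  obtain ⟨hK, hr⟩ := card_coprime (F := F) (K := K) p hpK
  by_cases h : Fintype.card K % 4 ≠ 3 ∨
      (Fintype.card ι ≠ (Fintype.card K - 1) / 2 ∧ Fintype.card ι ≠ (Fintype.card K + 1) / 2)
  · left
    have h3 := sl2_selfdual (r := ringChar K) (CharP.char_is_prime K _) rfl (by omega) hr ρ' h1 h2 h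
    intro g hg
    rw [← hρ] at hg
    obtain ⟨x, rfl⟩ := hg
    rw [← map_inv, ← htr, ← htr, h3]
  · right
    push Not at h
    obtain ⟨h3, h4⟩ := h
    have h4' : Fintype.card ι = (Fintype.card K - 1) / 2 ∨ Fintype.card ι = (Fintype.card K + 1) / 2 := by
      by_cases h6 : Fintype.card ι = (Fintype.card K - 1) / 2
      · exact Or.inl h6
      · exact Or.inr (h4 h6)
    have hchar : ringChar K ≠ 2 := by
      intro h6
      have h7 := FiniteField.even_card_iff_char_two.1 h6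
      omega
    have hw := weil_frob (p := p) ρ' hK h5 hchar (by omega) h1 h2 1
    rw [pow_one, pow_one] at hw
    refine ⟨h3, h4', ?_, ?_⟩
    · intro hs g hg
      rw [← hρ] at hg
      obtain ⟨x, rfl⟩ := hg
      rw [← htr]
      exact hw.1 hs x
    · intro hs g hg
      rw [← hρ] at hg
      obtain ⟨x, rfl⟩ := hg
      rw [← map_inv, ← htr, ← htr]
      refine hw.2 ?_ x
      have h8 : ¬ IsSquare (-1 : K) := by
        rw [FiniteField.isSquare_neg_one_iff, h3]
        simp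
      rw [← quadraticChar_neg_one_iff_not_isSquare] at hs h8
      have h6 : quadraticChar K (-(p : K)) = 1 := by
        rw [← neg_one_mul, map_mul, hs, h8]
        norm_num
      have h7 : (-(p : K)) ≠ 0 := by
        intro h7
        rw [h7, MulChar.map_zero] at h6
        exact zero_ne_one h6
      exact (quadraticChar_one_iff_isSquare h7).1 h6

/-- The pairs `(q, n)` with `n ≤ 12`. -/
theorem l2_degrees (hC : Core P) {K : Type v} [Field K] [Fintype K] (h5 : 5 ≤ Fintype.card K)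
    (h9 : Fintype.card K ≠ 9) (hpK : ¬ p ∣ Fintype.card K) (e : Soc P ≃* ProjectiveSpecialLinearGroup (Fin 2) K)
    (hn : Fintype.card ι ≤ 12) :
    (Fintype.card K = 5 ∧ Fintype.card ι ∈ ({2, 3, 4, 5, 6} : Finset ℕ)) ∨
    (Fintype.card K = 7 ∧ Fintype.card ι ∈ ({3, 4, 6, 7, 8} : Finset ℕ)) ∨
    (Fintype.card K = 8 ∧ Fintype.card ι ∈ ({7, 8, 9} : Finset ℕ)) ∨
    (Fintype.card K = 11 ∧ Fintype.card ι ∈ ({5, 6, 10, 11, 12} : Finset ℕ)) ∨
    (Fintype.card K = 13 ∧ Fintype.card ι ∈ ({6, 7, 12} : Finset ℕ)) ∨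
    (Fintype.card K = 17 ∧ Fintype.card ι ∈ ({8, 9} : Finset ℕ)) ∨
    (Fintype.card K = 19 ∧ Fintype.card ι ∈ ({9, 10} : Finset ℕ)) ∨
    (Fintype.card K = 23 ∧ Fintype.card ι ∈ ({11, 12} : Finset ℕ)) ∨
    (Fintype.card K = 25 ∧ Fintype.card ι = 12) := by
  have h1 := l2_dims p hC h5 h9 hpK e
  obtain ⟨m, hm, hq⟩ := FiniteField.card K (ringChar K)
  have h2 : IsPrimePow (Fintype.card K) := by
    rw [hq]
    exact hm.isPrimePow.pow m.ne_zero
  have h3 : Fintype.card K ≤ 25 := by omega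
  have key : ∀ q : ℕ, IsPrimePow q → 5 ≤ q → q ≤ 25 → q ≠ 9 → q = 5 ∨ q = 7 ∨ q = 8 ∨ q = 11 ∨ q = 13 ∨ q = 16 ∨
      q = 17 ∨ q = 19 ∨ q = 23 ∨ q = 25 := by
    intro q hq h4 h5 h9
    have h6 : ∀ a b : ℕ, Nat.Coprime a b → 1 < a → 1 < b → ¬ IsPrimePow (a * b) := by
      intro a b hab ha hb h
      rcases (hab.isPrimePow_dvd_mul h).1 dvd_rfl with h7 | h7
      · have := Nat.le_of_dvd (by omega) h7
        nlinarith
      · have := Nat.le_of_dvd (by omega) h7
        nlinarith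
    interval_cases q <;> try omega
    · exact absurd hq (h6 2 3 (by norm_num) (by norm_num) (by norm_num))
    · exact absurd hq (h6 2 5 (by norm_num) (by norm_num) (by norm_num))
    · exact absurd hq (h6 4 3 (by norm_num) (by norm_num) (by norm_num))
    · exact absurd hq (h6 2 7 (by norm_num) (by norm_num) (by norm_num))
    · exact absurd hq (h6 3 5 (by norm_num) (by norm_num) (by norm_num))
    · exact absurd hq (h6 2 9 (by norm_num) (by norm_num) (by norm_num))
    · exact absurd hq (h6 4 5 (by norm_num) (by norm_num) (by norm_num))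
    · exact absurd hq (h6 3 7 (by norm_num) (by norm_num) (by norm_num))
    · exact absurd hq (h6 2 11 (by norm_num) (by norm_num) (by norm_num))
    · exact absurd hq (h6 3 8 (by norm_num) (by norm_num) (by norm_num))
  simp only [Finset.mem_insert, Finset.mem_singleton]
  rcases key _ h2 h5 h3 h9 with h | h | h | h | h | h | h | h | h | h <;> rw [h] at h1 ⊢ <;> omega

/-- **Stage 1, `n ≤ 12`.** -/
theorem l2_stage1_le (hC : Core P) {K : Type v} [Field K] [Fintype K] (h5 : 5 ≤ Fintype.card K)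
    (h9 : Fintype.card K ≠ 9) (hpK : ¬ p ∣ Fintype.card K) (e : Soc P ≃* ProjectiveSpecialLinearGroup (Fin 2) K)
    (hn : Fintype.card ι ≤ 12) :
    SD P ∨ (((Fintype.card K = 7 ∧ (Fintype.card ι = 3 ∨ Fintype.card ι = 4)) ∨
      (Fintype.card K = 11 ∧ (Fintype.card ι = 5 ∨ Fintype.card ι = 6)) ∨
      (Fintype.card K = 19 ∧ (Fintype.card ι = 9 ∨ Fintype.card ι = 10)) ∨
      (Fintype.card K = 23 ∧ (Fintype.card ι = 11 ∨ Fintype.card ι = 12))) ∧
      (IsSquare (p : ZMod (Fintype.card K)) → Fr P p) ∧ (¬ IsSquare (p : ZMod (Fintype.card K)) → Cj P p)) := by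
  rcases l2_stage1 p hC h5 h9 hpK e with h | ⟨h1, h2, h3, h4⟩
  · exact Or.inl h
  · right
    have h6 := l2_degrees p hC h5 h9 hpK e hn
    simp only [Finset.mem_insert, Finset.mem_singleton] at h6
    have h7 : (Fintype.card K = 7 ∧ (Fintype.card ι = 3 ∨ Fintype.card ι = 4)) ∨
      (Fintype.card K = 11 ∧ (Fintype.card ι = 5 ∨ Fintype.card ι = 6)) ∨
      (Fintype.card K = 19 ∧ (Fintype.card ι = 9 ∨ Fintype.card ι = 10)) ∨
      (Fintype.card K = 23 ∧ (Fintype.card ι = 11 ∨ Fintype.card ι = 12)) := by omega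
    refine ⟨h7, ?_⟩
    have hprime : (Fintype.card K).Prime := by
      rcases h7 with ⟨h, -⟩ | ⟨h, -⟩ | ⟨h, -⟩ | ⟨h, -⟩ <;> rw [h] <;> norm_num
    let f : ZMod (Fintype.card K) ≃+* K := ZMod.ringEquivOfPrime K hprime rfl
    have hsq : IsSquare (p : ZMod (Fintype.card K)) ↔ IsSquare (p : K) := by
      constructor
      · intro h
        have := h.map f
        rwa [map_natCast] at this
      · intro h
        have := h.map f.symm
        rwa [map_natCast] at this
    rw [hsq]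
    exact ⟨h3, h4⟩

end Cfsg.Agent.H464.Sl2
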