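import Cfsg.Agent.H464.Sl2Weil
import Cfsg.Agent.H95.StemCover
import Cfsg.Agent.H68.SLTwoTriv

/-!
# Linear groups with quotient `PSL₂(q)` modulo scalars are images of `SL₂(q)` (helper464)
-/

set_option autoImplicit false
set_option linter.unusedSectionVars false

namespace Cfsg.Agent.H464.Sl2

open Matrix Module Cfsg Cfsg.Geo

/-! ### Reindexing -/

section Reindex

variable {ι ι' : Type} [Fintype ι] [DecidableEq ι] [Fintype ι'] [DecidableEq ι'] {F : Type*} [Field F]

/-- Reindexing of invertible matrices. -/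
def reGL (e : ι ≃ ι') : GL ι F ≃* GL ι' F := Units.mapEquiv (Matrix.reindexAlgEquiv F F e).toMulEquiv

theorem reGL_coe (e : ι ≃ ι') (g : GL ι F) : (reGL e g : Matrix ι' ι' F) = Matrix.reindexAlgEquiv F F e (g : Matrix ι ι F) := rfl

theorem trace_reGL (e : ι ≃ ι') (g : GL ι F) : (reGL e g : Matrix ι' ι' F).trace = (g : Matrix ι ι F).trace := by
  rw [reGL_coe, Matrix.reindexAlgEquiv_apply, Matrix.reindex_apply]
  unfold Matrix.trace
  exact Equiv.sum_comp e.symm (fun i => (g : Matrix ι ι F) i i)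

theorem absIrr_reGL (e : ι ≃ ι') {P : Subgroup (GL ι F)} (h : ActsAbsolutelyIrreducibly (matrixSet P)) :
    ActsAbsolutelyIrreducibly (matrixSet (P.map (reGL e).toMonoidHom)) := by
  apply Cfsg.Agent.H919.absIrr_of_adjoin_eq_top
  have h1 := Cfsg.Agent.H919.adjoin_eq_top_of_absIrr h
  have h2 : matrixSet (P.map (reGL e).toMonoidHom) =
      (Matrix.reindexAlgEquiv F F e : Matrix ι ι F →ₐ[F] Matrix ι' ι' F) '' matrixSet P := by
    ext M
    constructor
    · rintro ⟨_, ⟨g, hg, rfl⟩, rfl⟩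
      exact ⟨_, ⟨g, hg, rfl⟩, rfl⟩
    · rintro ⟨_, ⟨g, hg, rfl⟩, rfl⟩
      exact ⟨_, ⟨g, hg, rfl⟩, rfl⟩
  rw [h2, ← AlgHom.map_adjoin, h1, Algebra.map_top, AlgHom.range_eq_top]
  exact (Matrix.reindexAlgEquiv F F e).surjective

end Reindex

section Cover

variable {ι : Type} [Fintype ι] [DecidableEq ι] {F : Type*} [Field F] {P : Subgroup (GL ι F)}

theorem hom_eq_one {K : Type*} [Field K] [Fintype K] (h4 : 4 ≤ Fintype.card K) {A : Type*} [CommGroup A]
    (f : SpecialLinearGroup (Fin 2) K →* A) : f = 1 := by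
  classical
  obtain ⟨a, ha⟩ : ∃ a : Kˣ, (a : K) ^ 2 ≠ 1 := by
    by_contra hcon
    push Not at hcon
    have h1 : (Finset.univ : Finset K) ⊆ {0, 1, -1} := by
      intro x _
      by_cases hx : x = 0
      · simp [hx]
      · have h2 := hcon (Units.mk0 x hx)
        rw [Units.val_mk0, sq, mul_self_eq_one_iff] at h2
        rcases h2 with h2 | h2 <;> simp [h2]
    have h2 := Finset.card_le_card h1
    rw [Finset.card_univ] at h2
    have h3 : ({0, 1, -1} : Finset K).card ≤ 3 := Finset.card_le_three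
    omega
  have hu : ∀ x, f (u x) = 1 := by
    intro x
    have h1 : (a : K) ^ 2 - 1 ≠ 0 := sub_ne_zero.2 ha
    have h2 : u x = (t a * u (x / ((a : K) ^ 2 - 1)) * (t a)⁻¹) * (u (x / ((a : K) ^ 2 - 1)))⁻¹ := by
      rw [t_mul_u, mul_inv_cancel_right, eq_mul_inv_iff_mul_eq, ← u_add]
      congr 1
      field_simp
      ring
    rw [h2, map_mul, map_mul, map_mul, map_inv, map_inv, mul_comm (f (t a)), mul_inv_cancel_right, mul_inv_cancel]
  have hw : ∀ c : Kˣ, f (w c) = 1 := by
    intro c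
    have h1 : w c = u (-((c⁻¹ : Kˣ) : K)) * (w 1 * u (-(c : K)) * w (-1)) * u (-((c⁻¹ : Kˣ) : K)) := by
      apply Subtype.ext
      ext i j
      fin_cases i <;> fin_cases j <;> simp
    have h2 : w (1 : Kˣ) * w (-1) = (1 : SpecialLinearGroup (Fin 2) K) := by
      rw [w_mul_w]
      simp [t_one]
    rw [h1, map_mul, map_mul, map_mul, map_mul, hu, hu, one_mul, mul_one, mul_one, ← map_mul, h2, map_one]
  have ht : ∀ a : Kˣ, f (t a) = 1 := by
    intro a
    have h1 : t a = (w 1)⁻¹ * w a := by rw [← w_one_mul_t a, inv_mul_cancel_left]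
    rw [h1, map_mul, map_inv, hw, hw, inv_one, one_mul]
  ext g
  rcases bruhat g with ⟨x, a, rfl⟩ | ⟨x, c, y, rfl⟩
  · rw [map_mul, hu, ht, one_mul, MonoidHom.one_apply]
  · rw [map_mul, map_mul, hu, hu, hw, one_mul, one_mul, MonoidHom.one_apply]

theorem commutator_sl2 {K : Type*} [Field K] [Fintype K] (h4 : 4 ≤ Fintype.card K) :
    commutator (SpecialLinearGroup (Fin 2) K) = ⊤ := by
  have h := hom_eq_one h4 (Abelianization.of (G := SpecialLinearGroup (Fin 2) K))
  rw [← Abelianization.ker_of, h, MonoidHom.ker_one]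

/-- A perfect linear group with quotient `PSL₂(q)` modulo scalars, `q ≠ 4, 9`, is an image of `SL₂(q)`. -/
theorem exists_rep (hperf : ⁅P, P⁆ = P) {K : Type*} [Field K] [Fintype K] (h4 : 4 ≤ Fintype.card K)
    (h4' : Fintype.card K ≠ 4) (h9 : Fintype.card K ≠ 9)
    (e : (P ⧸ (scalars ι F).subgroupOf P) ≃* ProjectiveSpecialLinearGroup (Fin 2) K) :
    ∃ ρ : SpecialLinearGroup (Fin 2) K →* GL ι F, ρ.range = P ∧
      ∀ (g : SpecialLinearGroup (Fin 2) K) (h : ρ g ∈ P), e (QuotientGroup.mk ⟨ρ g, h⟩) = QuotientGroup.mk g := by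
  have hP : commutator P = ⊤ := by
    apply Subgroup.map_injective P.subtype_injective
    rw [commutator_def, Subgroup.map_commutator, ← MonoidHom.range_eq_map, Subgroup.range_subtype]
    exact hperf
  obtain ⟨φ, hφs, hφ⟩ := Cfsg.Agent.H95.StemCover.exists_cover_of_trivial (commutator_sl2 h4)
    (Cfsg.Agent.H68.SLTwoTriv.main (F := K) h4' h9)
    (QuotientGroup.mk' (Subgroup.center (SpecialLinearGroup (Fin 2) K))) (QuotientGroup.mk'_surjective _)
    (by rw [QuotientGroup.ker_mk']) hP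
    (e.toMonoidHom.comp (QuotientGroup.mk' ((scalars ι F).subgroupOf P)))
    (e.surjective.comp (QuotientGroup.mk'_surjective _)) (by
      intro x hx
      have h1 : e (QuotientGroup.mk x) = 1 := hx
      rw [map_eq_one_iff e e.injective, QuotientGroup.eq_one_iff, Subgroup.mem_subgroupOf, mem_scalars_iff] at h1
      obtain ⟨c, hc⟩ := h1
      rw [Subgroup.mem_center_iff]
      intro y
      apply Subtype.ext
      apply Units.ext
      rw [Subgroup.coe_mul, Subgroup.coe_mul, Units.val_mul, Units.val_mul, hc, mul_smul_comm, smul_mul_assoc,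
        mul_one, one_mul])
  refine ⟨P.subtype.comp φ, ?_, ?_⟩
  · rw [MonoidHom.range_comp, MonoidHom.range_eq_top.2 hφs, ← MonoidHom.range_eq_map, Subgroup.range_subtype]
  · intro g h
    exact hφ g

end Cover

end Cfsg.Agent.H464.Sl2
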