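import Cfsg.Agent.H464.L2Table
import Cfsg.Agent.H920.Trace

/-!
# Row T1: uniqueness of the halves (helper464)

`half_conj` : two cores `P₁, P₂ ≤ GL(ι, F)` with socle `PSL₂(K)` in degree `(q ± 1) / 2` are conjugate in `GL(ι, F)`.
-/

set_option autoImplicit false
set_option linter.unusedSectionVars false

namespace Cfsg.Agent.H464.Sl2

open Matrix Module Cfsg Cfsg.Geo Cfsg.Agent.H915.LD

universe u v

section Dl

variable {K : Type*} [Field K]

/-- The diagonal automorphism. -/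
def dl (ν : Kˣ) : SpecialLinearGroup (Fin 2) K →* SpecialLinearGroup (Fin 2) K where
  toFun g := ⟨!![g.1 0 0, (ν : K) * g.1 0 1; ((ν⁻¹ : Kˣ) : K) * g.1 1 0, g.1 1 1], by
    have h1 : g.1.det = 1 := g.2
    have h3 : (ν : K) * ((ν⁻¹ : Kˣ) : K) = 1 := by rw [← Units.val_mul, mul_inv_cancel, Units.val_one]
    rw [Matrix.det_fin_two] at h1
    rw [Matrix.det_fin_two_of]
    linear_combination h1 - g.1 0 1 * g.1 1 0 * h3⟩
  map_one' := by
    apply Subtype.ext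
    change !![(1 : Matrix (Fin 2) (Fin 2) K) 0 0, (ν : K) * (1 : Matrix (Fin 2) (Fin 2) K) 0 1;
      ((ν⁻¹ : Kˣ) : K) * (1 : Matrix (Fin 2) (Fin 2) K) 1 0, (1 : Matrix (Fin 2) (Fin 2) K) 1 1] = 1
    ext i j
    fin_cases i <;> fin_cases j <;> simp
  map_mul' g h := by
    have h3 : (ν : K) * (ν : K)⁻¹ = 1 := mul_inv_cancel₀ ν.ne_zero
    apply Subtype.ext
    change !![(g.1 * h.1) 0 0, (ν : K) * (g.1 * h.1) 0 1; ((ν⁻¹ : Kˣ) : K) * (g.1 * h.1) 1 0, (g.1 * h.1) 1 1] =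
      !![g.1 0 0, (ν : K) * g.1 0 1; ((ν⁻¹ : Kˣ) : K) * g.1 1 0, g.1 1 1] *
      !![h.1 0 0, (ν : K) * h.1 0 1; ((ν⁻¹ : Kˣ) : K) * h.1 1 0, h.1 1 1]
    ext i j
    fin_cases i <;> fin_cases j
    · simp [Matrix.mul_apply, Fin.sum_univ_two]
      linear_combination (-g.1 0 1 * h.1 1 0) * h3
    · simp [Matrix.mul_apply, Fin.sum_univ_two]
      ring
    · simp [Matrix.mul_apply, Fin.sum_univ_two]
      ring
    · simp [Matrix.mul_apply, Fin.sum_univ_two]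
      linear_combination (-g.1 1 0 * h.1 0 1) * h3

theorem dl_u (ν : Kˣ) (x : K) : dl ν (u x) = u ((ν : K) * x) := by
  apply Subtype.ext
  change !![(1 : K), (ν : K) * x; ((ν⁻¹ : Kˣ) : K) * 0, 1] = !![1, (ν : K) * x; 0, 1]
  rw [mul_zero]

theorem dl_t (ν a : Kˣ) : dl ν (t a) = t a := by
  apply Subtype.ext
  change !![(a : K), (ν : K) * 0; ((ν⁻¹ : Kˣ) : K) * 0, ((a⁻¹ : Kˣ) : K)] = !![(a : K), 0; 0, ((a⁻¹ : Kˣ) : K)]
  rw [mul_zero, mul_zero]

theorem dl_surjective (ν : Kˣ) : Function.Surjective (dl ν) := by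
  intro g
  refine ⟨dl ν⁻¹ g, ?_⟩
  have h3 : (ν : K) * ((ν⁻¹ : Kˣ) : K) = 1 := by rw [← Units.val_mul, mul_inv_cancel, Units.val_one]
  apply Subtype.ext
  change !![g.1 0 0, (ν : K) * (((ν⁻¹ : Kˣ) : K) * g.1 0 1);
    ((ν⁻¹ : Kˣ) : K) * ((((ν⁻¹)⁻¹ : Kˣ) : K) * g.1 1 0), g.1 1 1] = g.1
  rw [inv_inv, ← mul_assoc, ← mul_assoc, h3, mul_comm ((ν⁻¹ : Kˣ) : K), h3, one_mul, one_mul]
  ext i j
  fin_cases i <;> fin_cases j <;> rfl

end Dl

section Rep

variable {K : Type*} [Field K] [Fintype K] [DecidableEq K] {k : Type*} [Field k]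
  {V : Type*} [AddCommGroup V] [Module k V] [FiniteDimensional k V]
  (R : SpecialLinearGroup (Fin 2) K →* Module.End k V) {ψ : AddChar K k}
  (hψ : ψ.IsPrimitive) (hK : (Fintype.card K : k) ≠ 0) (hspan : Submodule.span k (Set.range R) = ⊤)

include hψ hK hspan in
/-- The weights of a half. -/
theorem half_weights {b b' : K} (hb : b ≠ 0) (hE : E R ψ b = 0) (hb' : b' ≠ 0)
    (hE' : finrank k (LinearMap.range (E R ψ b')) = 1) (c : K) (hc : c ≠ 0) :
    finrank k (LinearMap.range (E R ψ c)) = if IsSquare (c * b') then 1 else 0 := by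
  classical
  have hsq : ∀ x y : K, x ≠ 0 → y ≠ 0 → IsSquare (x * y) →
      finrank k (LinearMap.range (E R ψ x)) = finrank k (LinearMap.range (E R ψ y)) := by
    intro x y hx hy hxy
    obtain ⟨r, hr⟩ := hxy
    have hr0 : r ≠ 0 := by
      rintro rfl
      rw [mul_zero] at hr
      exact mul_ne_zero hx hy hr
    rw [← finrank_E_mul_sq R (ψ := ψ) (Units.mk0 r hr0 / Units.mk0 y hy) y]
    have h4 : x = ((Units.mk0 r hr0 / Units.mk0 y hy : Kˣ) : K) ^ 2 * y := by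
      rw [Units.val_div_eq_div_val, Units.val_mk0, Units.val_mk0]
      field_simp
      linear_combination hr
    rw [← h4]
  have hb0 : finrank k (LinearMap.range (E R ψ b)) = 0 := by rw [hE, LinearMap.range_zero, finrank_bot]
  have hbb : ¬ IsSquare (b * b') := by
    intro h
    rw [hsq b b' hb hb' h, hE'] at hb0
    exact one_ne_zero hb0
  by_cases h : IsSquare (c * b')
  · rw [if_pos h, hsq c b' hc hb' h, hE']
  · rw [if_neg h]
    have h1 : IsSquare (c * b) := by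
      rw [← quadraticChar_one_iff_isSquare (mul_ne_zero hc hb)]
      rw [← quadraticChar_neg_one_iff_not_isSquare] at h hbb
      have h2 : quadraticChar K (c * b') * quadraticChar K (b * b') = 1 := by rw [h, hbb]; norm_num
      rw [← map_mul] at h2
      have h3 : c * b' * (b * b') = (c * b) * b' ^ 2 := by ring
      rw [h3, map_mul, quadraticChar_sq_one' hb', mul_one] at h2
      exact h2
    rw [hsq c b hc hb h1, hb0]

end Rep

section Two

variable {K : Type*} [Field K] [Fintype K] [DecidableEq K] {k : Type*} [Field k]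
  {V : Type*} [AddCommGroup V] [Module k V] [FiniteDimensional k V]
  {V' : Type*} [AddCommGroup V'] [Module k V'] [FiniteDimensional k V']
  (R : SpecialLinearGroup (Fin 2) K →* Module.End k V) (R' : SpecialLinearGroup (Fin 2) K →* Module.End k V')
  {ψ : AddChar K k} (hψ : ψ.IsPrimitive) (hK : (Fintype.card K : k) ≠ 0)

include hψ hK in
theorem half_u_cases (h2 : ringChar K ≠ 2)
    (h0 : finrank k (LinearMap.range (E R ψ 0)) = finrank k (LinearMap.range (E R' ψ 0))) {b₁ b₂ : K} (hb₁ : b₁ ≠ 0)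
    (hb₂ : b₂ ≠ 0) (hR : ∀ c : K, c ≠ 0 → finrank k (LinearMap.range (E R ψ c)) = if IsSquare (c * b₁) then 1 else 0)
    (hR' : ∀ c : K, c ≠ 0 → finrank k (LinearMap.range (E R' ψ c)) = if IsSquare (c * b₂) then 1 else 0) :
    ∃ ν : Kˣ, ∀ x, chi R (u x) = chi R' (u ((ν : K) * x)) := by
  obtain ⟨ν₀, hν⟩ := FiniteField.exists_nonsquare h2
  have hν0 : ν₀ ≠ 0 := by
    rintro rfl
    exact hν ⟨0, by simp⟩
  have key : ∃ ν : Kˣ, IsSquare ((ν : K) * (b₁ * b₂)) := by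
    by_cases h : IsSquare (b₁ * b₂)
    · exact ⟨1, by rwa [Units.val_one, one_mul]⟩
    · refine ⟨Units.mk0 ν₀ hν0, ?_⟩
      rw [Units.val_mk0, ← quadraticChar_one_iff_isSquare (mul_ne_zero hν0 (mul_ne_zero hb₁ hb₂)), map_mul,
        quadraticChar_neg_one_iff_not_isSquare.2 h, quadraticChar_neg_one_iff_not_isSquare.2 hν]
      norm_num
  obtain ⟨ν, hsq⟩ := key
  refine ⟨ν, fun x => ?_⟩
  change LinearMap.trace k V (R (u x)) = LinearMap.trace k V' (R' (u ((ν : K) * x)))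
  rw [trace_u R hψ hK, trace_u R' hψ hK, ← Equiv.sum_comp (Units.mulLeft ν)]
  refine Finset.sum_congr rfl fun c _ => ?_
  have h1 : (Units.mulLeft ν c : K) = ν * c := rfl
  rw [h1]
  by_cases hc : c = 0
  · rw [hc, mul_zero, zero_mul, zero_mul, h0]
  · have hνc : (ν : K) * c ≠ 0 := mul_ne_zero ν.ne_zero hc
    have e1 : (ν : K) * c * x = c * (ν * x) := by ring
    rw [hR _ hνc, hR' _ hc, e1]
    congr 2
    have h5 : IsSquare ((ν : K) * c * b₁) ↔ IsSquare (c * b₂) := by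
      have h6 : quadraticChar K ((ν : K) * c * b₁) * quadraticChar K (c * b₂) = 1 := by
        rw [← map_mul]
        have h7 : (ν : K) * c * b₁ * (c * b₂) = ((ν : K) * (b₁ * b₂)) * c ^ 2 := by ring
        rw [h7, map_mul, quadraticChar_sq_one' hc, mul_one]
        exact (quadraticChar_one_iff_isSquare (mul_ne_zero ν.ne_zero (mul_ne_zero hb₁ hb₂))).2 hsq
      rw [← quadraticChar_one_iff_isSquare (mul_ne_zero hνc hb₁), ← quadraticChar_one_iff_isSquare (mul_ne_zero hc hb₂)]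
      constructor
      · intro h
        rwa [h, one_mul] at h6
      · intro h
        rwa [h, mul_one] at h6
    simp only [h5]

end Two

variable {ι : Type} [Fintype ι] [DecidableEq ι] {F : Type u} [Field F] {K : Type v} [Field K] [Fintype K]

/-- `exists_mod` with the same additive character. -/
theorem exists_mod_psi [DecidableEq K] {P : Subgroup (GL ι F)} (hC : Core P) (ρ : SpecialLinearGroup (Fin 2) K →* GL ι F)
    (hρ : ρ.range = P) :
    ∃ (R : SpecialLinearGroup (Fin 2) K →*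
        Module.End (AlgebraicClosure F) (Fin (Fintype.card ι) → AlgebraicClosure F)),
      Submodule.span (AlgebraicClosure F) (Set.range R) = ⊤ ∧ R ≠ 1 ∧
      (∀ g, chi R g = algebraMap F (AlgebraicClosure F) (tr (ρ g))) := by
  obtain ⟨ρ', htr, hρ', habs⟩ := rep_fin hC ρ hρ
  refine ⟨ext ρ' (AlgebraicClosure F), span_ext ρ' _ (span_eq_top ρ' habs), ext_ne_one ρ' _ hρ', ?_⟩
  intro g
  rw [chi, trace_ext, htr]

theorem rep_fin2 {P : Subgroup (GL ι F)} (hC : Core P) (ρ : SpecialLinearGroup (Fin 2) K →* GL ι F)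
    (hρ : ρ.range = P) :
    ∃ ρ' : SpecialLinearGroup (Fin 2) K →* GL (Fin (Fintype.card ι)) F,
      (∀ g, (ρ' g : Matrix (Fin (Fintype.card ι)) (Fin (Fintype.card ι)) F).trace = tr (ρ g)) ∧ ρ' ≠ 1 ∧
      ActsAbsolutelyIrreducibly (matrixSet ρ'.range) ∧
      (∀ g (c : F), (ρ g : Matrix ι ι F) = c • (1 : Matrix ι ι F) →
        (ρ' g : Matrix (Fin (Fintype.card ι)) (Fin (Fintype.card ι)) F) = c • 1) := by
  let re := reGL (F := F) (Fintype.equivFin ι)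
  refine ⟨re.toMonoidHom.comp ρ, fun g => trace_reGL (Fintype.equivFin ι) (ρ g), ?_, ?_, ?_⟩
  · intro h
    have h1 : ρ = 1 := by
      ext1 g
      apply re.injective
      have h2 := DFunLike.congr_fun h g
      rw [MonoidHom.one_apply, map_one]
      exact h2
    rw [h1] at hρ
    apply hC.nonabelian
    have h3 : Subsingleton P := by
      constructor
      rintro ⟨a, ha⟩ ⟨b, hb⟩
      rw [← hρ] at ha hb
      obtain ⟨x, rfl⟩ := ha
      obtain ⟨y, rfl⟩ := hb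
      rfl
    have h2 : Subsingleton (P ⧸ (scalars ι F).subgroupOf P) := by
      constructor
      intro a b
      induction a using QuotientGroup.induction_on with
      | H a =>
        induction b using QuotientGroup.induction_on with
        | H b => rw [Subsingleton.elim a b]
    exact ⟨⟨fun a b => Subsingleton.elim _ _⟩⟩
  · have h1 : (re.toMonoidHom.comp ρ).range = P.map re.toMonoidHom := by
      rw [MonoidHom.range_comp, hρ]
    rw [h1]
    exact absIrr_reGL _ hC.absIrred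
  · intro g c hc
    change Matrix.reindex _ _ (ρ g : Matrix ι ι F) = _
    rw [hc]
    ext i j
    simp [Matrix.one_apply]

theorem adjoin_range {P : Subgroup (GL ι F)} (hC : Core P) {G : Type*} [Group G] (ρ : G →* GL ι F)
    (hρ : ρ.range = P) : Algebra.adjoin F (Set.range fun g => (ρ g : Matrix ι ι F)) = ⊤ := by
  have h1 := H919.adjoin_eq_top_of_absIrr hC.absIrred
  rw [← h1]
  congr 1
  ext M
  constructor
  · rintro ⟨g, rfl⟩
    exact ⟨ρ g, hρ ▸ ⟨g, rfl⟩, rfl⟩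
  · rintro ⟨x, hx, rfl⟩
    rw [← hρ] at hx
    obtain ⟨g, rfl⟩ := hx
    exact ⟨g, rfl⟩

variable [Finite F] (p : ℕ) [hp : Fact p.Prime] [CharP F p]

/-- **Uniqueness of the halves**: two cores with socle `PSL₂(K)` in degree `(q ± 1) / 2` are conjugate. -/
theorem half_conj {P₁ P₂ : Subgroup (GL ι F)} (hC₁ : Core P₁) (hC₂ : Core P₂) (h5 : 5 ≤ Fintype.card K)
    (h9 : Fintype.card K ≠ 9) (hpK : ¬ p ∣ Fintype.card K) (e₁ : Soc P₁ ≃* ProjectiveSpecialLinearGroup (Fin 2) K)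
    (e₂ : Soc P₂ ≃* ProjectiveSpecialLinearGroup (Fin 2) K)
    (hn : 2 * Fintype.card ι + 1 = Fintype.card K ∨ 2 * Fintype.card ι = Fintype.card K + 1) :
    ∃ J : GL ι F, P₂ = P₁.map (MulAut.conj J).toMonoidHom := by
  classical
  obtain ⟨ρ₁, hρ₁, -⟩ := l2_rep hC₁ h5 h9 e₁
  obtain ⟨ρ₂, hρ₂, -⟩ := l2_rep hC₂ h5 h9 e₂
  have hodd : Odd (Fintype.card K) := by
    rw [Nat.odd_iff]
    omega
  have hKF : (Fintype.card K : F) ≠ 0 := card_cast_ne p hpK
  have hK : (Fintype.card K : AlgebraicClosure F) ≠ 0 := by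
    intro h
    apply hKF
    apply (algebraMap F (AlgebraicClosure F)).injective
    rw [map_natCast, h, map_zero]
  obtain ⟨ψ, hψ⟩ := exists_prim (K := K) hK
  obtain ⟨R₁, hs₁, hn₁, hc₁⟩ := exists_mod_psi hC₁ ρ₁ hρ₁
  obtain ⟨R₂, hs₂, hn₂, hc₂⟩ := exists_mod_psi hC₂ ρ₂ hρ₂
  obtain ⟨b₁, b₁', hb₁, hb₁', hE₁, hE₁', h0₁⟩ := half_cases R₁ hψ hK hs₁ hn₁ (by omega)
    (by rw [Module.finrank_fin_fun]; omega)
  obtain ⟨b₂, b₂', hb₂, hb₂', hE₂, hE₂', h0₂⟩ := half_cases R₂ hψ hK hs₂ hn₂ (by omega)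
    (by rw [Module.finrank_fin_fun]; omega)
  obtain ⟨ν, hν⟩ := half_u_cases R₁ R₂ hψ hK (ringChar_ne_of_odd hodd) (by omega) hb₁' hb₂'
    (half_weights R₁ hψ hK hs₁ hb₁ hE₁ hb₁' hE₁') (half_weights R₂ hψ hK hs₂ hb₂ hE₂ hb₂' hE₂')
  -- twist the second one
  set ρ₃ : SpecialLinearGroup (Fin 2) K →* GL ι F := ρ₂.comp (dl ν) with hρ₃def
  have hρ₃ : ρ₃.range = P₂ := by
    rw [hρ₃def, MonoidHom.range_comp, MonoidHom.range_eq_top.2 (dl_surjective ν), ← MonoidHom.range_eq_map, hρ₂]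
  have htru : ∀ x, tr (ρ₁ (u x)) = tr (ρ₃ (u x)) := by
    intro x
    apply (algebraMap F (AlgebraicClosure F)).injective
    rw [hρ₃def, MonoidHom.comp_apply, dl_u, ← hc₁, ← hc₂, hν]
  obtain ⟨ρ₁', htr₁, hne₁, habs₁, hsc₁⟩ := rep_fin2 hC₁ ρ₁ hρ₁
  obtain ⟨ρ₃', htr₃, hne₃, habs₃, hsc₃⟩ := rep_fin2 hC₂ ρ₃ hρ₃
  -- the central characters
  have hz : ∃ c : F, (ρ₁' (t (-1)) : Matrix (Fin (Fintype.card ι)) (Fin (Fintype.card ι)) F) = c • 1 ∧
      (ρ₃' (t (-1)) : Matrix (Fin (Fintype.card ι)) (Fin (Fintype.card ι)) F) = c • 1 := by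
    obtain ⟨c₁, -, hcc₁⟩ := H830.Sl2Form.scalar_t ρ₁ (hρ₁ ▸ hC₁.absIrred)
    obtain ⟨c₃, -, hcc₃⟩ := H830.Sl2Form.scalar_t ρ₃ (hρ₃ ▸ hC₂.absIrred)
    obtain ⟨h1, h2, -⟩ := half_field p hC₁ ρ₁ hρ₁ hpK h5 hn
    obtain ⟨h3, h4, -⟩ := half_field p hC₂ ρ₃ hρ₃ hpK h5 hn
    have hcc : c₁ = c₃ := by
      rcases hn with h | h
      · rw [(h2 h).1 c₁ hcc₁, (h4 h).1 c₃ hcc₃]
      · rw [(h1 h).2.1 c₁ hcc₁, (h3 h).2.1 c₃ hcc₃]
    exact ⟨c₁, hsc₁ _ _ hcc₁, by rw [hcc]; exact hsc₃ _ _ hcc₃⟩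
  have htr : ∀ g, tr (ρ₁ g) = tr (ρ₃ g) := by
    intro g
    rw [← htr₁, ← htr₃]
    exact weil_trace_eq ρ₁' ρ₃' hKF hne₁ hne₃ (span_eq_top ρ₁' habs₁) (span_eq_top ρ₃' habs₃) h5
      (ringChar_ne_of_odd hodd) hn (fun x => by rw [htr₁, htr₃, htru]) hz g
  obtain ⟨J, hJ⟩ := H920.exists_conj_of_trace ρ₁ ρ₃ (adjoin_range hC₁ ρ₁ hρ₁) htr
  refine ⟨J, ?_⟩
  rw [← hρ₃, ← hρ₁]
  ext x
  constructor
  · rintro ⟨g, rfl⟩
    exact ⟨ρ₁ g, ⟨g, rfl⟩, (hJ g).symm⟩
  · rintro ⟨_, ⟨g, rfl⟩, rfl⟩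
    exact ⟨g, hJ g⟩

end Cfsg.Agent.H464.Sl2
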