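import Cfsg.Agent.H464.L2Table

/-!
# Row T1: the numerical table (helper464)

`Core P`, `e : Soc P ≃* PSL₂(K)`, `|K| = q`, `|ι| = n`, `p ∤ q`.
-/

set_option autoImplicit false
set_option linter.unusedSectionVars false

namespace Cfsg.Agent.H464.Sl2

open Matrix Module Cfsg Cfsg.Geo Cfsg.Agent.H915.LD

universe u v

theorem dvd_pm {m P : ℕ} (hP : 0 < P) : (m ∣ P - 1 ∨ m ∣ P + 1) ↔ (P % m = 1 % m ∨ (P + 1) % m = 0) := by
  apply or_congr
  · constructor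
    · rintro ⟨c, hc⟩
      have : P = 1 + m * c := by omega
      rw [this, Nat.add_mul_mod_self_left]
    · intro h
      exact (Nat.modEq_iff_dvd' hP).1 h.symm
  · exact Nat.dvd_iff_mod_eq_zero

/-- the exponent divides `s` when `p ^ s = ± 1` modulo `m` for all `p` prime to `m` -/
theorem field_exp {m p f s : ℕ} (hp : 0 < p) (hf : ∀ e : ℕ, f ∣ e ↔ (m ∣ p ^ e - 1 ∨ m ∣ p ^ e + 1))
    (h : (p % m) ^ s % m = 1 % m ∨ ((p % m) ^ s + 1) % m = 0) : f ∣ s := by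
  rw [hf, dvd_pm (pow_pos hp s)]
  rcases h with h | h
  · left
    rw [Nat.pow_mod, h]
  · right
    rw [Nat.add_mod, Nat.pow_mod, ← Nat.add_mod]
    exact h

theorem field_one {m p f : ℕ} (hp : 0 < p) (hf : ∀ e : ℕ, f ∣ e ↔ (m ∣ p ^ e - 1 ∨ m ∣ p ^ e + 1)) :
    f = 1 ↔ (p % m = 1 % m ∨ (p + 1) % m = 0) := by
  rw [← dvd_pm hp, ← Nat.dvd_one, hf, pow_one]

variable {ι : Type} [Fintype ι] [DecidableEq ι] {F : Type u} [Field F] {P : Subgroup (GL ι F)}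
  {K : Type v} [Field K] [Fintype K] [Fintype F] (p : ℕ) [hp : Fact p.Prime] [CharP F p]

theorem crt6 {p : ℕ} (h2 : p % 2 = 1) (h3 : p % 3 ≠ 0) : p % 6 = 1 ∨ p % 6 = 5 := by
  have h4 := Nat.mod_mod_of_dvd p (show 2 ∣ 6 by norm_num)
  have h5 := Nat.mod_mod_of_dvd p (show 3 ∣ 6 by norm_num)
  have h6 := Nat.mod_lt p (show 0 < 6 by norm_num)
  generalize p % 6 = x at *
  interval_cases x <;> omega

theorem crt12 {p : ℕ} (h2 : p % 2 = 1) (h3 : p % 3 ≠ 0) : p % 12 = 1 ∨ p % 12 = 5 ∨ p % 12 = 7 ∨ p % 12 = 11 := by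
  have h4 := Nat.mod_mod_of_dvd p (show 2 ∣ 12 by norm_num)
  have h5 := Nat.mod_mod_of_dvd p (show 3 ∣ 12 by norm_num)
  have h6 := Nat.mod_lt p (show 0 < 12 by norm_num)
  generalize p % 12 = x at *
  interval_cases x <;> omega

theorem sqcast {r : ℕ} [Fact r.Prime] (hK : Fintype.card K = r) (n : ℕ) :
    IsSquare (n : K) ↔ IsSquare ((n : ℕ) : ZMod r) := by
  let f : ZMod r ≃+* K := ZMod.ringEquivOfPrime K Fact.out hK
  constructor
  · intro h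
    have := h.map f.symm
    rwa [map_natCast] at this
  · intro h
    have := h.map f
    rwa [map_natCast] at this

theorem mod_ne_zero {r : ℕ} (hr : r.Prime) (hpr : p ≠ r) : p % r ≠ 0 := by
  intro h
  exact hpr.symm ((Nat.prime_dvd_prime_iff_eq hr hp.out).1 (Nat.dvd_of_mod_eq_zero h))

theorem not_dvd_card {r s : ℕ} (hr : r.Prime) (hK : Fintype.card K = r ^ s) (hpr : p ≠ r) : ¬ p ∣ Fintype.card K := by
  rw [hK]
  intro h
  exact hpr ((Nat.prime_dvd_prime_iff_eq hp.out hr).1 (hp.out.dvd_of_dvd_pow h))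

/-- `q = 7`, `n = 6`. -/
theorem l2_7_6 (hC : Core P) (hK : Fintype.card K = 7) (hpr : p ≠ 7)
    (e : Soc P ≃* ProjectiveSpecialLinearGroup (Fin 2) K)
    (hn : Fintype.card ι = 6) : p ≠ 2 ∧
      (((scalars ι F).subgroupOf P = ⊥ ∧ Fintype.card F = p) ∨
        ((scalars ι F).subgroupOf P ≠ ⊥ ∧ Fintype.card F = p ∧ (p % 8 = 1 ∨ p % 8 = 7)) ∨
        ((scalars ι F).subgroupOf P ≠ ⊥ ∧ Fintype.card F = p ^ 2 ∧ (p % 8 = 3 ∨ p % 8 = 5))) := by
  have hpK : ¬ p ∣ Fintype.card K := not_dvd_card p (r := 7) (s := 1) (by norm_num) (by rw [hK]; norm_num) hpr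
  have hpp := hp.out.pos
  have hp2 : p % 2 = 1 ∨ p = 2 := by
    rcases hp.out.eq_two_or_odd with h | h
    · exact Or.inr h
    · exact Or.inl h
  obtain ⟨m, f, h1, h2, h3, h4, h5, h6, h6e, h7, h8, h9⟩ := l2_cusp p hC (by omega) (by omega) hpK e (by omega)
  rw [hK] at h1 h4 h5 h6 h6e
  have hm : m ∈ Nat.divisors 8 := Nat.mem_divisors.2 ⟨h1, by norm_num⟩
  have hm' : m = 1 ∨ m = 2 ∨ m = 4 ∨ m = 8 := by
    have : Nat.divisors 8 = {1, 2, 4, 8} := by decide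
    rw [this] at hm
    simpa using hm
  have h6' := h6 (by decide)
  have h5' := h5 (by decide)
  have hne2 : p ≠ 2 := by
    rintro rfl
    rcases hm' with rfl | rfl | rfl | rfl
    · exact h5' rfl rfl
    · exact h3 rfl
    · exact h2 (by norm_num)
    · exact h2 (by norm_num)
  refine ⟨hne2, ?_⟩
  rcases hm' with rfl | rfl | rfl | rfl
  · exfalso
    have := (Nat.prime_dvd_prime_iff_eq hp.out Nat.prime_two).1 (hp.out.dvd_of_dvd_pow (show p ∣ 2 ^ 3 from h4 rfl))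
    exact hne2 this
  · exact absurd rfl h3
  · left
    refine ⟨h6'.2 (by norm_num), ?_⟩
    rw [h8, (field_one hpp h9).2 (by omega), pow_one]
  · right
    have hnb : (scalars ι F).subgroupOf P ≠ ⊥ := by
      rw [Ne, h6']
      norm_num
    have hone := field_one hpp h9
    have hf2 : f ∣ 2 := field_exp hpp h9 (by
      have : p % 8 = 1 ∨ p % 8 = 3 ∨ p % 8 = 5 ∨ p % 8 = 7 := by omega
      rcases this with h | h | h | h <;> rw [h] <;> decide)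
    rcases (Nat.dvd_prime Nat.prime_two).1 hf2 with hf | hf
    · exact Or.inl ⟨hnb, by rw [h8, hf, pow_one], by have := hone.1 hf; omega⟩
    · exact Or.inr ⟨hnb, by rw [h8, hf], by
        have : ¬ (p % 8 = 1 % 8 ∨ (p + 1) % 8 = 0) := fun h => by have := hone.2 h; omega
        omega⟩

/-- `q = 7`, `n = 7`. -/
theorem l2_7_7 (hC : Core P) (hK : Fintype.card K = 7) (hpr : p ≠ 7)
    (e : Soc P ≃* ProjectiveSpecialLinearGroup (Fin 2) K)
    (hn : Fintype.card ι = 7) :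
    p ≠ 2 ∧ (scalars ι F).subgroupOf P = ⊥ ∧ Fintype.card F = p := by
  have hpK : ¬ p ∣ Fintype.card K := not_dvd_card p (r := 7) (s := 1) (by norm_num) (by rw [hK]; norm_num) hpr
  have hpp := hp.out.pos
  have hp2 : p % 2 = 1 ∨ p = 2 := by
    rcases hp.out.eq_two_or_odd with h | h
    · exact Or.inr h
    · exact Or.inl h
  obtain ⟨h1, h2, h3⟩ := l2_stein p hC (by omega) (by omega) hpK e (by omega)
  rw [hK] at h1
  refine ⟨?_, h2, h3⟩
  · rintro rfl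
    exact h1 (by norm_num)

/-- `q = 8`, `n = 8`. -/
theorem l2_8_8 (hC : Core P) (hK : Fintype.card K = 8) (hpr : p ≠ 2)
    (e : Soc P ≃* ProjectiveSpecialLinearGroup (Fin 2) K)
    (hn : Fintype.card ι = 8) :
    p ≠ 3 ∧ (scalars ι F).subgroupOf P = ⊥ ∧ Fintype.card F = p := by
  have hpK : ¬ p ∣ Fintype.card K := not_dvd_card p (r := 2) (s := 3) (by norm_num) (by rw [hK]; norm_num) hpr
  have hpp := hp.out.pos
  have hp2 : p % 2 = 1 ∨ p = 2 := by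
    rcases hp.out.eq_two_or_odd with h | h
    · exact Or.inr h
    · exact Or.inl h
  obtain ⟨h1, h2, h3⟩ := l2_stein p hC (by omega) (by omega) hpK e (by omega)
  rw [hK] at h1
  refine ⟨?_, h2, h3⟩
  · rintro rfl
    exact h1 (by norm_num)

/-- `q = 11`, `n = 11`. -/
theorem l2_11_11 (hC : Core P) (hK : Fintype.card K = 11) (hpr : p ≠ 11)
    (e : Soc P ≃* ProjectiveSpecialLinearGroup (Fin 2) K)
    (hn : Fintype.card ι = 11) :
    p ≠ 2 ∧ p ≠ 3 ∧ (scalars ι F).subgroupOf P = ⊥ ∧ Fintype.card F = p := by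
  have hpK : ¬ p ∣ Fintype.card K := not_dvd_card p (r := 11) (s := 1) (by norm_num) (by rw [hK]; norm_num) hpr
  have hpp := hp.out.pos
  have hp2 : p % 2 = 1 ∨ p = 2 := by
    rcases hp.out.eq_two_or_odd with h | h
    · exact Or.inr h
    · exact Or.inl h
  obtain ⟨h1, h2, h3⟩ := l2_stein p hC (by omega) (by omega) hpK e (by omega)
  rw [hK] at h1
  refine ⟨?_, ?_, h2, h3⟩
  · rintro rfl
    exact h1 (by norm_num)
  · rintro rfl
    exact h1 (by norm_num)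

/-- `q = 7`, `n = 8`. -/
theorem l2_7_8 (hC : Core P) (hK : Fintype.card K = 7) (hpr : p ≠ 7)
    (e : Soc P ≃* ProjectiveSpecialLinearGroup (Fin 2) K)
    (hn : Fintype.card ι = 8) :
    p ≠ 3 ∧ Fintype.card F = p ∧ (p = 2 → (scalars ι F).subgroupOf P = ⊥) := by
  have hpK : ¬ p ∣ Fintype.card K := not_dvd_card p (r := 7) (s := 1) (by norm_num) (by rw [hK]; norm_num) hpr
  have hpp := hp.out.pos
  have hp2 : p % 2 = 1 ∨ p = 2 := by
    rcases hp.out.eq_two_or_odd with h | h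
    · exact Or.inr h
    · exact Or.inl h
  obtain ⟨m, f, h1, h2, h3, h6, h6e, h7, h8, h9⟩ := l2_prin p hC (by omega) (by omega) hpK e (by omega)
  rw [hK] at h1 h6 h6e
  have hm : m ∈ Nat.divisors 6 := Nat.mem_divisors.2 ⟨h1, by norm_num⟩
  have hm' : m = 1 ∨ m = 2 ∨ m = 3 ∨ m = 6 := by
    have : Nat.divisors 6 = {1, 2, 3, 6} := by decide
    rw [this] at hm
    simpa using hm
  have h6' := h6 (by decide)
  rcases hm' with rfl | rfl | rfl | rfl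
  · omega
  · omega
  · have h3' : p ≠ 3 := by
      rintro rfl
      exact h2 (by norm_num)
    have := mod_ne_zero p (r := 3) (by norm_num) h3'
    exact ⟨h3', by rw [h8, (field_one hpp h9).2 (by omega), pow_one], fun _ => h6'.2 (by norm_num)⟩
  · have h3' : p ≠ 3 := by
      rintro rfl
      exact h2 (by norm_num)
    have h2' : p ≠ 2 := by
      rintro rfl
      exact h2 (by norm_num)
    have h10 := crt6 (by omega) (mod_ne_zero p (r := 3) (by norm_num) h3')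
    exact ⟨h3', by rw [h8, (field_one hpp h9).2 (by omega), pow_one], fun h => absurd h h2'⟩

/-- `q = 8`, `n = 7`. -/
theorem l2_8_7 (hC : Core P) (hK : Fintype.card K = 8) (hpr : p ≠ 2)
    (e : Soc P ≃* ProjectiveSpecialLinearGroup (Fin 2) K)
    (hn : Fintype.card ι = 7) :
    (scalars ι F).subgroupOf P = ⊥ ∧ (Fintype.card F = p ∨ (Fintype.card F = p ^ 3 ∧ p ≠ 3 ∧ p % 9 ≠ 1 ∧ p % 9 ≠ 8)) := by
  have hpK : ¬ p ∣ Fintype.card K := not_dvd_card p (r := 2) (s := 3) (by norm_num) (by rw [hK]; norm_num) hpr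
  have hpp := hp.out.pos
  have hp2 : p % 2 = 1 ∨ p = 2 := by
    rcases hp.out.eq_two_or_odd with h | h
    · exact Or.inr h
    · exact Or.inl h
  obtain ⟨m, f, h1, h2, h3, h4, h5, h6, h6e, h7, h8, h9⟩ := l2_cusp p hC (by omega) (by omega) hpK e (by omega)
  rw [hK] at h1 h4 h5 h6 h6e
  have hm : m ∈ Nat.divisors 9 := Nat.mem_divisors.2 ⟨h1, by norm_num⟩
  have hm' : m = 1 ∨ m = 3 ∨ m = 9 := by
    have : Nat.divisors 9 = {1, 3, 9} := by decide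
    rw [this] at hm
    simpa using hm
  refine ⟨h6e (by decide), ?_⟩
  rcases hm' with rfl | rfl | rfl
  · left
    rw [h8, (field_one hpp h9).2 (by omega), pow_one]
  · left
    have h3' : p ≠ 3 := by
      rintro rfl
      exact h2 (by norm_num)
    have := mod_ne_zero p (r := 3) (by norm_num) h3'
    rw [h8, (field_one hpp h9).2 (by omega), pow_one]
  · have h3' : p ≠ 3 := by
      rintro rfl
      exact h2 (by norm_num)
    have h10 := mod_ne_zero p (r := 3) (by norm_num) h3'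
    have hone := field_one hpp h9
    have hf2 : f ∣ 3 := field_exp hpp h9 (by
      have : p % 9 = 1 ∨ p % 9 = 2 ∨ p % 9 = 4 ∨ p % 9 = 5 ∨ p % 9 = 7 ∨ p % 9 = 8 := by omega
      rcases this with h | h | h | h | h | h <;> rw [h] <;> decide)
    rcases (Nat.dvd_prime Nat.prime_three).1 hf2 with hf | hf
    · left
      rw [h8, hf, pow_one]
    · right
      have : ¬ (p % 9 = 1 % 9 ∨ (p + 1) % 9 = 0) := fun h => by have := hone.2 h; omega
      exact ⟨by rw [h8, hf], h3', by omega, by omega⟩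

/-- `q = 8`, `n = 9`. -/
theorem l2_8_9 (hC : Core P) (hK : Fintype.card K = 8) (hpr : p ≠ 2)
    (e : Soc P ≃* ProjectiveSpecialLinearGroup (Fin 2) K)
    (hn : Fintype.card ι = 9) :
    (scalars ι F).subgroupOf P = ⊥ ∧ p ≠ 7 ∧ ((Fintype.card F = p ∧ (p % 7 = 1 ∨ p % 7 = 6)) ∨
      (Fintype.card F = p ^ 3 ∧ (p % 7 = 2 ∨ p % 7 = 3 ∨ p % 7 = 4 ∨ p % 7 = 5))) := by
  have hpK : ¬ p ∣ Fintype.card K := not_dvd_card p (r := 2) (s := 3) (by norm_num) (by rw [hK]; norm_num) hpr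
  have hpp := hp.out.pos
  have hp2 : p % 2 = 1 ∨ p = 2 := by
    rcases hp.out.eq_two_or_odd with h | h
    · exact Or.inr h
    · exact Or.inl h
  obtain ⟨m, f, h1, h2, h3, h6, h6e, h7, h8, h9⟩ := l2_prin p hC (by omega) (by omega) hpK e (by omega)
  rw [hK] at h1 h6 h6e
  have hm : m ∈ Nat.divisors 7 := Nat.mem_divisors.2 ⟨h1, by norm_num⟩
  have hm' : m = 1 ∨ m = 7 := by
    have : Nat.divisors 7 = {1, 7} := by decide
    rw [this] at hm
    simpa using hm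
  refine ⟨h6e (by decide), ?_⟩
  rcases hm' with rfl | rfl
  · omega
  · have h3' : p ≠ 7 := by
      rintro rfl
      exact h2 (by norm_num)
    refine ⟨h3', ?_⟩
    have h10 := mod_ne_zero p (r := 7) (by norm_num) h3'
    have hone := field_one hpp h9
    have hf2 : f ∣ 3 := field_exp hpp h9 (by
      have : p % 7 = 1 ∨ p % 7 = 2 ∨ p % 7 = 3 ∨ p % 7 = 4 ∨ p % 7 = 5 ∨ p % 7 = 6 := by omega
      rcases this with h | h | h | h | h | h <;> rw [h] <;> decide)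
    rcases (Nat.dvd_prime Nat.prime_three).1 hf2 with hf | hf
    · exact Or.inl ⟨by rw [h8, hf, pow_one], by have := hone.1 hf; omega⟩
    · right
      have : ¬ (p % 7 = 1 % 7 ∨ (p + 1) % 7 = 0) := fun h => by have := hone.2 h; omega
      exact ⟨by rw [h8, hf], by omega⟩

/-- `q = 11`, `n = 10`. -/
theorem l2_11_10 (hC : Core P) (hK : Fintype.card K = 11) (hpr : p ≠ 11)
    (e : Soc P ≃* ProjectiveSpecialLinearGroup (Fin 2) K)
    (hn : Fintype.card ι = 10) :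
    ((scalars ι F).subgroupOf P = ⊥ ∧ Fintype.card F = p) ∨
      ((scalars ι F).subgroupOf P ≠ ⊥ ∧ p ≠ 2 ∧ Fintype.card F = p) ∨
      ((scalars ι F).subgroupOf P ≠ ⊥ ∧ p ≠ 2 ∧ Fintype.card F = p ^ 2 ∧ (p % 12 = 5 ∨ p % 12 = 7)) := by
  have hpK : ¬ p ∣ Fintype.card K := not_dvd_card p (r := 11) (s := 1) (by norm_num) (by rw [hK]; norm_num) hpr
  have hpp := hp.out.pos
  have hp2 : p % 2 = 1 ∨ p = 2 := by
    rcases hp.out.eq_two_or_odd with h | h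
    · exact Or.inr h
    · exact Or.inl h
  obtain ⟨m, f, h1, h2, h3, h4, h5, h6, h6e, h7, h8, h9⟩ := l2_cusp p hC (by omega) (by omega) hpK e (by omega)
  rw [hK] at h1 h4 h5 h6 h6e
  have hm : m ∈ Nat.divisors 12 := Nat.mem_divisors.2 ⟨h1, by norm_num⟩
  have hm' : m = 1 ∨ m = 2 ∨ m = 3 ∨ m = 4 ∨ m = 6 ∨ m = 12 := by
    have : Nat.divisors 12 = {1, 2, 3, 4, 6, 12} := by decide
    rw [this] at hm
    simpa using hm
  have h6' := h6 (by decide)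
  rcases hm' with rfl | rfl | rfl | rfl | rfl | rfl
  · exact Or.inl ⟨h6'.2 (by norm_num), by rw [h8, (field_one hpp h9).2 (by omega), pow_one]⟩
  · exact absurd rfl h3
  · left
    have h3' : p ≠ 3 := by
      rintro rfl
      exact h2 (by norm_num)
    have := mod_ne_zero p (r := 3) (by norm_num) h3'
    exact ⟨h6'.2 (by norm_num), by rw [h8, (field_one hpp h9).2 (by omega), pow_one]⟩
  · right
    left
    have h2' : p ≠ 2 := by
      rintro rfl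
      exact h2 (by norm_num)
    exact ⟨by rw [Ne, h6']; norm_num, h2', by rw [h8, (field_one hpp h9).2 (by omega), pow_one]⟩
  · left
    have h3' : p ≠ 3 := by
      rintro rfl
      exact h2 (by norm_num)
    have h2' : p ≠ 2 := by
      rintro rfl
      exact h2 (by norm_num)
    have h10 := crt6 (by omega) (mod_ne_zero p (r := 3) (by norm_num) h3')
    exact ⟨h6'.2 (by norm_num), by rw [h8, (field_one hpp h9).2 (by omega), pow_one]⟩
  · right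
    have h3' : p ≠ 3 := by
      rintro rfl
      exact h2 (by norm_num)
    have h2' : p ≠ 2 := by
      rintro rfl
      exact h2 (by norm_num)
    have := mod_ne_zero p (r := 3) (by norm_num) h3'
    have hone := field_one hpp h9
    have hf2 : f ∣ 2 := field_exp hpp h9 (by
      have : p % 12 = 1 ∨ p % 12 = 5 ∨ p % 12 = 7 ∨ p % 12 = 11 := crt12 (by omega) this
      rcases this with h | h | h | h <;> rw [h] <;> decide)
    rcases (Nat.dvd_prime Nat.prime_two).1 hf2 with hf | hf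
    · exact Or.inl ⟨by rw [Ne, h6']; norm_num, h2', by rw [h8, hf, pow_one]⟩
    · exact Or.inr ⟨by rw [Ne, h6']; norm_num, h2', by rw [h8, hf], by
        have h10 := crt12 (by omega) this
        have : ¬ (p % 12 = 1 % 12 ∨ (p + 1) % 12 = 0) := fun h => by have := hone.2 h; omega
        omega⟩

/-- `q = 11`, `n = 12`. -/
theorem l2_11_12 (hC : Core P) (hK : Fintype.card K = 11) (hpr : p ≠ 11)
    (e : Soc P ≃* ProjectiveSpecialLinearGroup (Fin 2) K)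
    (hn : Fintype.card ι = 12) :
    p ≠ 5 ∧ (p = 2 → (scalars ι F).subgroupOf P = ⊥) ∧
      ((Fintype.card F = p ∧ (p % 5 = 1 ∨ p % 5 = 4)) ∨ (Fintype.card F = p ^ 2 ∧ (p % 5 = 2 ∨ p % 5 = 3))) := by
  have hpK : ¬ p ∣ Fintype.card K := not_dvd_card p (r := 11) (s := 1) (by norm_num) (by rw [hK]; norm_num) hpr
  have hpp := hp.out.pos
  have hp2 : p % 2 = 1 ∨ p = 2 := by
    rcases hp.out.eq_two_or_odd with h | h
    · exact Or.inr h
    · exact Or.inl h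
  obtain ⟨m, f, h1, h2, h3, h6, h6e, h7, h8, h9⟩ := l2_prin p hC (by omega) (by omega) hpK e (by omega)
  rw [hK] at h1 h6 h6e
  have hm : m ∈ Nat.divisors 10 := Nat.mem_divisors.2 ⟨h1, by norm_num⟩
  have hm' : m = 1 ∨ m = 2 ∨ m = 5 ∨ m = 10 := by
    have : Nat.divisors 10 = {1, 2, 5, 10} := by decide
    rw [this] at hm
    simpa using hm
  have h6' := h6 (by decide)
  rcases hm' with rfl | rfl | rfl | rfl
  · omega
  · omega
  · have h3' : p ≠ 5 := by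
      rintro rfl
      exact h2 (by norm_num)
    have := mod_ne_zero p (r := 5) (by norm_num) h3'
    refine ⟨h3', fun _ => h6'.2 (by norm_num), ?_⟩
    have hone := field_one hpp h9
    have hf2 : f ∣ 2 := field_exp hpp h9 (by
      have : p % 5 = 1 ∨ p % 5 = 2 ∨ p % 5 = 3 ∨ p % 5 = 4 := by omega
      rcases this with h | h | h | h <;> rw [h] <;> decide)
    rcases (Nat.dvd_prime Nat.prime_two).1 hf2 with hf | hf
    · exact Or.inl ⟨by rw [h8, hf, pow_one], by have := hone.1 hf; omega⟩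
    · exact Or.inr ⟨by rw [h8, hf], by
        have : ¬ (p % 5 = 1 % 5 ∨ (p + 1) % 5 = 0) := fun h => by have := hone.2 h; omega
        omega⟩
  · have h3' : p ≠ 5 := by
      rintro rfl
      exact h2 (by norm_num)
    have h2' : p ≠ 2 := by
      rintro rfl
      exact h2 (by norm_num)
    have := mod_ne_zero p (r := 5) (by norm_num) h3'
    refine ⟨h3', fun h => absurd h h2', ?_⟩
    have hone := field_one hpp h9
    have hf2 : f ∣ 2 := field_exp hpp h9 (by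
      have : p % 10 = 1 ∨ p % 10 = 3 ∨ p % 10 = 7 ∨ p % 10 = 9 := by omega
      rcases this with h | h | h | h <;> rw [h] <;> decide)
    rcases (Nat.dvd_prime Nat.prime_two).1 hf2 with hf | hf
    · exact Or.inl ⟨by rw [h8, hf, pow_one], by have := hone.1 hf; omega⟩
    · exact Or.inr ⟨by rw [h8, hf], by
        have : ¬ (p % 10 = 1 % 10 ∨ (p + 1) % 10 = 0) := fun h => by have := hone.2 h; omega
        omega⟩

/-- `q = 13`, `n = 12`. -/
theorem l2_13_12 (hC : Core P) (hK : Fintype.card K = 13) (hpr : p ≠ 13)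
    (e : Soc P ≃* ProjectiveSpecialLinearGroup (Fin 2) K)
    (hn : Fintype.card ι = 12) :
    ((scalars ι F).subgroupOf P ≠ ⊥ → p ≠ 2 ∧ p ≠ 7) ∧
      ((Fintype.card F = p ∧ (p % 7 = 1 ∨ p % 7 = 6 ∨ p = 7)) ∨
        (Fintype.card F = p ^ 3 ∧ (p % 7 = 2 ∨ p % 7 = 3 ∨ p % 7 = 4 ∨ p % 7 = 5))) := by
  have hpK : ¬ p ∣ Fintype.card K := not_dvd_card p (r := 13) (s := 1) (by norm_num) (by rw [hK]; norm_num) hpr
  have hpp := hp.out.pos
  have hp2 : p % 2 = 1 ∨ p = 2 := by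
    rcases hp.out.eq_two_or_odd with h | h
    · exact Or.inr h
    · exact Or.inl h
  obtain ⟨m, f, h1, h2, h3, h4, h5, h6, h6e, h7, h8, h9⟩ := l2_cusp p hC (by omega) (by omega) hpK e (by omega)
  rw [hK] at h1 h4 h5 h6 h6e
  have hm : m ∈ Nat.divisors 14 := Nat.mem_divisors.2 ⟨h1, by norm_num⟩
  have hm' : m = 1 ∨ m = 2 ∨ m = 7 ∨ m = 14 := by
    have : Nat.divisors 14 = {1, 2, 7, 14} := by decide
    rw [this] at hm
    simpa using hm
  have h6' := h6 (by decide)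
  rcases hm' with rfl | rfl | rfl | rfl
  · have hne2 : p ≠ 2 := fun h => h5 (by decide) h rfl
    have h10 : p ∣ 2 * 7 := h4 rfl
    have h11 : p = 7 := by
      rcases (hp.out.dvd_mul).1 h10 with h | h
      · exact absurd ((Nat.prime_dvd_prime_iff_eq hp.out Nat.prime_two).1 h) hne2
      · exact (Nat.prime_dvd_prime_iff_eq hp.out (by norm_num)).1 h
    refine ⟨fun h => absurd (h6'.2 (by norm_num)) h, Or.inl ⟨?_, Or.inr (Or.inr h11)⟩⟩
    rw [h8, (field_one hpp h9).2 (by omega), pow_one]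
  · exact absurd rfl h3
  · have h3' : p ≠ 7 := by
      rintro rfl
      exact h2 (by norm_num)
    have h10 := mod_ne_zero p (r := 7) (by norm_num) h3'
    refine ⟨fun h => absurd (h6'.2 (by norm_num)) h, ?_⟩
    have hone := field_one hpp h9
    have hf2 : f ∣ 3 := field_exp hpp h9 (by
      have : p % 7 = 1 ∨ p % 7 = 2 ∨ p % 7 = 3 ∨ p % 7 = 4 ∨ p % 7 = 5 ∨ p % 7 = 6 := by omega
      rcases this with h | h | h | h | h | h <;> rw [h] <;> decide)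
    rcases (Nat.dvd_prime Nat.prime_three).1 hf2 with hf | hf
    · exact Or.inl ⟨by rw [h8, hf, pow_one], by have := hone.1 hf; omega⟩
    · right
      have : ¬ (p % 7 = 1 % 7 ∨ (p + 1) % 7 = 0) := fun h => by have := hone.2 h; omega
      exact ⟨by rw [h8, hf], by omega⟩
  · have h3' : p ≠ 7 := by
      rintro rfl
      exact h2 (by norm_num)
    have h2' : p ≠ 2 := by
      rintro rfl
      exact h2 (by norm_num)
    have h10 := mod_ne_zero p (r := 7) (by norm_num) h3'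
    refine ⟨fun _ => ⟨h2', h3'⟩, ?_⟩
    have hone := field_one hpp h9
    have hf2 : f ∣ 3 := field_exp hpp h9 (by
      have : p % 14 = 1 ∨ p % 14 = 3 ∨ p % 14 = 5 ∨ p % 14 = 9 ∨ p % 14 = 11 ∨ p % 14 = 13 := by omega
      rcases this with h | h | h | h | h | h <;> rw [h] <;> decide)
    rcases (Nat.dvd_prime Nat.prime_three).1 hf2 with hf | hf
    · exact Or.inl ⟨by rw [h8, hf, pow_one], by have := hone.1 hf; omega⟩
    · right
      have : ¬ (p % 14 = 1 % 14 ∨ (p + 1) % 14 = 0) := fun h => by have := hone.2 h; omega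
      exact ⟨by rw [h8, hf], by omega⟩

theorem sq7 (hK : Fintype.card K = 7) (hpr : p ≠ 7) :
    (IsSquare (p : K) ∧ (p % 7 = 1 ∨ p % 7 = 2 ∨ p % 7 = 4)) ∨
    (¬ IsSquare (p : K) ∧ (p % 7 = 3 ∨ p % 7 = 5 ∨ p % 7 = 6)) := by
  have h1 : ∀ x : ZMod 7, (IsSquare x ↔ x.val ∈ ({0, 1, 2, 4} : Finset ℕ)) := by decide
  have : Fact (Nat.Prime 7) := ⟨by norm_num⟩
  rw [sqcast hK]
  have h2 := h1 (p : ZMod 7)
  rw [ZMod.val_natCast] at h2
  have h3 := mod_ne_zero p (r := 7) (by norm_num) hpr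
  have h4 := Nat.mod_lt p (show 0 < 7 by norm_num)
  rw [h2]
  simp only [Finset.mem_insert, Finset.mem_singleton]
  omega

theorem sq11 (hK : Fintype.card K = 11) (hpr : p ≠ 11) :
    (IsSquare (p : K) ∧ (p % 11 = 1 ∨ p % 11 = 3 ∨ p % 11 = 4 ∨ p % 11 = 5 ∨ p % 11 = 9)) ∨
    (¬ IsSquare (p : K) ∧ (p % 11 = 2 ∨ p % 11 = 6 ∨ p % 11 = 7 ∨ p % 11 = 8 ∨ p % 11 = 10)) := by
  have h1 : ∀ x : ZMod 11, (IsSquare x ↔ x.val ∈ ({0, 1, 3, 4, 5, 9} : Finset ℕ)) := by decide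
  have : Fact (Nat.Prime 11) := ⟨by norm_num⟩
  rw [sqcast hK]
  have h2 := h1 (p : ZMod 11)
  rw [ZMod.val_natCast] at h2
  have h3 := mod_ne_zero p (r := 11) (by norm_num) hpr
  have h4 := Nat.mod_lt p (show 0 < 11 by norm_num)
  rw [h2]
  simp only [Finset.mem_insert, Finset.mem_singleton]
  omega

theorem sq13 (hK : Fintype.card K = 13) (hpr : p ≠ 13) :
    (IsSquare (p : K) ∧ (p % 13 = 1 ∨ p % 13 = 3 ∨ p % 13 = 4 ∨ p % 13 = 9 ∨ p % 13 = 10 ∨ p % 13 = 12)) ∨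
    (¬ IsSquare (p : K) ∧ (p % 13 = 2 ∨ p % 13 = 5 ∨ p % 13 = 6 ∨ p % 13 = 7 ∨ p % 13 = 8 ∨ p % 13 = 11)) := by
  have h1 : ∀ x : ZMod 13, (IsSquare x ↔ x.val ∈ ({0, 1, 3, 4, 9, 10, 12} : Finset ℕ)) := by decide
  have : Fact (Nat.Prime 13) := ⟨by norm_num⟩
  rw [sqcast hK]
  have h2 := h1 (p : ZMod 13)
  rw [ZMod.val_natCast] at h2
  have h3 := mod_ne_zero p (r := 13) (by norm_num) hpr
  have h4 := Nat.mod_lt p (show 0 < 13 by norm_num)
  rw [h2]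
  simp only [Finset.mem_insert, Finset.mem_singleton]
  omega

theorem sq17 (hK : Fintype.card K = 17) (hpr : p ≠ 17) :
    (IsSquare (p : K) ∧ (p % 17 = 1 ∨ p % 17 = 2 ∨ p % 17 = 4 ∨ p % 17 = 8 ∨ p % 17 = 9 ∨ p % 17 = 13 ∨ p % 17 = 15 ∨ p % 17 = 16)) ∨
    (¬ IsSquare (p : K) ∧ (p % 17 = 3 ∨ p % 17 = 5 ∨ p % 17 = 6 ∨ p % 17 = 7 ∨ p % 17 = 10 ∨ p % 17 = 11 ∨ p % 17 = 12 ∨ p % 17 = 14)) := by
  have h1 : ∀ x : ZMod 17, (IsSquare x ↔ x.val ∈ ({0, 1, 2, 4, 8, 9, 13, 15, 16} : Finset ℕ)) := by decide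
  have : Fact (Nat.Prime 17) := ⟨by norm_num⟩
  rw [sqcast hK]
  have h2 := h1 (p : ZMod 17)
  rw [ZMod.val_natCast] at h2
  have h3 := mod_ne_zero p (r := 17) (by norm_num) hpr
  have h4 := Nat.mod_lt p (show 0 < 17 by norm_num)
  rw [h2]
  simp only [Finset.mem_insert, Finset.mem_singleton]
  omega

theorem sq19 (hK : Fintype.card K = 19) (hpr : p ≠ 19) :
    (IsSquare (p : K) ∧ (p % 19 = 1 ∨ p % 19 = 4 ∨ p % 19 = 5 ∨ p % 19 = 6 ∨ p % 19 = 7 ∨ p % 19 = 9 ∨ p % 19 = 11 ∨ p % 19 = 16 ∨ p % 19 = 17)) ∨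
    (¬ IsSquare (p : K) ∧ (p % 19 = 2 ∨ p % 19 = 3 ∨ p % 19 = 8 ∨ p % 19 = 10 ∨ p % 19 = 12 ∨ p % 19 = 13 ∨ p % 19 = 14 ∨ p % 19 = 15 ∨ p % 19 = 18)) := by
  have h1 : ∀ x : ZMod 19, (IsSquare x ↔ x.val ∈ ({0, 1, 4, 5, 6, 7, 9, 11, 16, 17} : Finset ℕ)) := by decide
  have : Fact (Nat.Prime 19) := ⟨by norm_num⟩
  rw [sqcast hK]
  have h2 := h1 (p : ZMod 19)
  rw [ZMod.val_natCast] at h2
  have h3 := mod_ne_zero p (r := 19) (by norm_num) hpr
  have h4 := Nat.mod_lt p (show 0 < 19 by norm_num)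
  rw [h2]
  simp only [Finset.mem_insert, Finset.mem_singleton]
  omega

theorem sq23 (hK : Fintype.card K = 23) (hpr : p ≠ 23) :
    (IsSquare (p : K) ∧ (p % 23 = 1 ∨ p % 23 = 2 ∨ p % 23 = 3 ∨ p % 23 = 4 ∨ p % 23 = 6 ∨ p % 23 = 8 ∨ p % 23 = 9 ∨ p % 23 = 12 ∨ p % 23 = 13 ∨ p % 23 = 16 ∨ p % 23 = 18)) ∨
    (¬ IsSquare (p : K) ∧ (p % 23 = 5 ∨ p % 23 = 7 ∨ p % 23 = 10 ∨ p % 23 = 11 ∨ p % 23 = 14 ∨ p % 23 = 15 ∨ p % 23 = 17 ∨ p % 23 = 19 ∨ p % 23 = 20 ∨ p % 23 = 21 ∨ p % 23 = 22)) := by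
  have h1 : ∀ x : ZMod 23, (IsSquare x ↔ x.val ∈ ({0, 1, 2, 3, 4, 6, 8, 9, 12, 13, 16, 18} : Finset ℕ)) := by decide
  have : Fact (Nat.Prime 23) := ⟨by norm_num⟩
  rw [sqcast hK]
  have h2 := h1 (p : ZMod 23)
  rw [ZMod.val_natCast] at h2
  have h3 := mod_ne_zero p (r := 23) (by norm_num) hpr
  have h4 := Nat.mod_lt p (show 0 < 23 by norm_num)
  rw [h2]
  simp only [Finset.mem_insert, Finset.mem_singleton]
  omega

/-- `q = 7`, `n = 3`. -/
theorem l2_7_3 (hC : Core P) (hK : Fintype.card K = 7) (hpr : p ≠ 7)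
    (e : Soc P ≃* ProjectiveSpecialLinearGroup (Fin 2) K)
    (hn : Fintype.card ι = 3) :
    (scalars ι F).subgroupOf P = ⊥ ∧ ¬ SD P ∧
    ((Fintype.card F = p ∧ (p % 7 = 1 ∨ p % 7 = 2 ∨ p % 7 = 4)) ∨
      (Fintype.card F = p ^ 2 ∧ Cj P p ∧ (p % 7 = 3 ∨ p % 7 = 5 ∨ p % 7 = 6))) := by
  have hpK : ¬ p ∣ Fintype.card K := not_dvd_card p (r := 7) (s := 1) (by norm_num) (by rw [hK]; norm_num) hpr
  have hpp := hp.out.pos
  have hp2 : p % 2 = 1 ∨ p = 2 := by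
    rcases hp.out.eq_two_or_odd with h | h
    · exact Or.inr h
    · exact Or.inl h
  obtain ⟨h1, h2, h3, h4, h5⟩ := l2_half p hC (by omega) (by omega) hpK e (by omega)
  rw [hK] at h1 h2 h4 h5
  refine ⟨(h2 (by omega)).2 (by norm_num), fun h => by have := h5.1 h; omega, ?_⟩
  · rcases sq7 p hK hpr with ⟨h, h'⟩ | ⟨h, h'⟩
    · rcases h3 with ⟨h8, h9, -⟩ | ⟨h8, -⟩
      · exact Or.inl ⟨h9, h'⟩
      · exact absurd h h8
    · rcases h3 with ⟨h8, -⟩ | ⟨h8, h9, -⟩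
      · exact absurd h8 h
      · exact Or.inr ⟨h9, h4 (by norm_num) h, h'⟩

/-- `q = 7`, `n = 4`. -/
theorem l2_7_4 (hC : Core P) (hK : Fintype.card K = 7) (hpr : p ≠ 7)
    (e : Soc P ≃* ProjectiveSpecialLinearGroup (Fin 2) K)
    (hn : Fintype.card ι = 4) :
    ((scalars ι F).subgroupOf P ≠ ⊥ ∧ p ≠ 2) ∧ ¬ SD P ∧
    ((Fintype.card F = p ∧ (p % 7 = 1 ∨ p % 7 = 2 ∨ p % 7 = 4)) ∨
      (Fintype.card F = p ^ 2 ∧ Cj P p ∧ (p % 7 = 3 ∨ p % 7 = 5 ∨ p % 7 = 6))) := by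
  have hpK : ¬ p ∣ Fintype.card K := not_dvd_card p (r := 7) (s := 1) (by norm_num) (by rw [hK]; norm_num) hpr
  have hpp := hp.out.pos
  have hp2 : p % 2 = 1 ∨ p = 2 := by
    rcases hp.out.eq_two_or_odd with h | h
    · exact Or.inr h
    · exact Or.inl h
  obtain ⟨h1, h2, h3, h4, h5⟩ := l2_half p hC (by omega) (by omega) hpK e (by omega)
  rw [hK] at h1 h2 h4 h5
  obtain ⟨h6, h7⟩ := h1 (by omega)
  refine ⟨⟨fun h => by have := h7.1 h; omega, h6⟩, fun h => by have := h5.1 h; omega, ?_⟩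
  · rcases sq7 p hK hpr with ⟨h, h'⟩ | ⟨h, h'⟩
    · rcases h3 with ⟨h8, h9, -⟩ | ⟨h8, -⟩
      · exact Or.inl ⟨h9, h'⟩
      · exact absurd h h8
    · rcases h3 with ⟨h8, -⟩ | ⟨h8, h9, -⟩
      · exact absurd h8 h
      · exact Or.inr ⟨h9, h4 (by norm_num) h, h'⟩

/-- `q = 11`, `n = 5`. -/
theorem l2_11_5 (hC : Core P) (hK : Fintype.card K = 11) (hpr : p ≠ 11)
    (e : Soc P ≃* ProjectiveSpecialLinearGroup (Fin 2) K)
    (hn : Fintype.card ι = 5) :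
    (scalars ι F).subgroupOf P = ⊥ ∧ ¬ SD P ∧
    ((Fintype.card F = p ∧ (p % 11 = 1 ∨ p % 11 = 3 ∨ p % 11 = 4 ∨ p % 11 = 5 ∨ p % 11 = 9)) ∨
      (Fintype.card F = p ^ 2 ∧ Cj P p ∧ (p % 11 = 2 ∨ p % 11 = 6 ∨ p % 11 = 7 ∨ p % 11 = 8 ∨ p % 11 = 10))) := by
  have hpK : ¬ p ∣ Fintype.card K := not_dvd_card p (r := 11) (s := 1) (by norm_num) (by rw [hK]; norm_num) hpr
  have hpp := hp.out.pos
  have hp2 : p % 2 = 1 ∨ p = 2 := by
    rcases hp.out.eq_two_or_odd with h | h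
    · exact Or.inr h
    · exact Or.inl h
  obtain ⟨h1, h2, h3, h4, h5⟩ := l2_half p hC (by omega) (by omega) hpK e (by omega)
  rw [hK] at h1 h2 h4 h5
  refine ⟨(h2 (by omega)).2 (by norm_num), fun h => by have := h5.1 h; omega, ?_⟩
  · rcases sq11 p hK hpr with ⟨h, h'⟩ | ⟨h, h'⟩
    · rcases h3 with ⟨h8, h9, -⟩ | ⟨h8, -⟩
      · exact Or.inl ⟨h9, h'⟩
      · exact absurd h h8
    · rcases h3 with ⟨h8, -⟩ | ⟨h8, h9, -⟩
      · exact absurd h8 h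
      · exact Or.inr ⟨h9, h4 (by norm_num) h, h'⟩

/-- `q = 11`, `n = 6`. -/
theorem l2_11_6 (hC : Core P) (hK : Fintype.card K = 11) (hpr : p ≠ 11)
    (e : Soc P ≃* ProjectiveSpecialLinearGroup (Fin 2) K)
    (hn : Fintype.card ι = 6) :
    ((scalars ι F).subgroupOf P ≠ ⊥ ∧ p ≠ 2) ∧ ¬ SD P ∧
    ((Fintype.card F = p ∧ (p % 11 = 1 ∨ p % 11 = 3 ∨ p % 11 = 4 ∨ p % 11 = 5 ∨ p % 11 = 9)) ∨
      (Fintype.card F = p ^ 2 ∧ Cj P p ∧ (p % 11 = 2 ∨ p % 11 = 6 ∨ p % 11 = 7 ∨ p % 11 = 8 ∨ p % 11 = 10))) := by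
  have hpK : ¬ p ∣ Fintype.card K := not_dvd_card p (r := 11) (s := 1) (by norm_num) (by rw [hK]; norm_num) hpr
  have hpp := hp.out.pos
  have hp2 : p % 2 = 1 ∨ p = 2 := by
    rcases hp.out.eq_two_or_odd with h | h
    · exact Or.inr h
    · exact Or.inl h
  obtain ⟨h1, h2, h3, h4, h5⟩ := l2_half p hC (by omega) (by omega) hpK e (by omega)
  rw [hK] at h1 h2 h4 h5
  obtain ⟨h6, h7⟩ := h1 (by omega)
  refine ⟨⟨fun h => by have := h7.1 h; omega, h6⟩, fun h => by have := h5.1 h; omega, ?_⟩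
  · rcases sq11 p hK hpr with ⟨h, h'⟩ | ⟨h, h'⟩
    · rcases h3 with ⟨h8, h9, -⟩ | ⟨h8, -⟩
      · exact Or.inl ⟨h9, h'⟩
      · exact absurd h h8
    · rcases h3 with ⟨h8, -⟩ | ⟨h8, h9, -⟩
      · exact absurd h8 h
      · exact Or.inr ⟨h9, h4 (by norm_num) h, h'⟩

/-- `q = 13`, `n = 6`. -/
theorem l2_13_6 (hC : Core P) (hK : Fintype.card K = 13) (hpr : p ≠ 13)
    (e : Soc P ≃* ProjectiveSpecialLinearGroup (Fin 2) K)
    (hn : Fintype.card ι = 6) :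
    ((scalars ι F).subgroupOf P = ⊥ ↔ p = 2) ∧ SD P ∧
    ((Fintype.card F = p ∧ (p % 13 = 1 ∨ p % 13 = 3 ∨ p % 13 = 4 ∨ p % 13 = 9 ∨ p % 13 = 10 ∨ p % 13 = 12)) ∨
      (Fintype.card F = p ^ 2 ∧ (p % 13 = 2 ∨ p % 13 = 5 ∨ p % 13 = 6 ∨ p % 13 = 7 ∨ p % 13 = 8 ∨ p % 13 = 11))) := by
  have hpK : ¬ p ∣ Fintype.card K := not_dvd_card p (r := 13) (s := 1) (by norm_num) (by rw [hK]; norm_num) hpr
  have hpp := hp.out.pos
  have hp2 : p % 2 = 1 ∨ p = 2 := by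
    rcases hp.out.eq_two_or_odd with h | h
    · exact Or.inr h
    · exact Or.inl h
  obtain ⟨h1, h2, h3, h4, h5⟩ := l2_half p hC (by omega) (by omega) hpK e (by omega)
  rw [hK] at h1 h2 h4 h5
  refine ⟨?_, h5.2 (by norm_num), ?_⟩
  · rw [h2 (by omega)]
    omega
  · rcases sq13 p hK hpr with ⟨h, h'⟩ | ⟨h, h'⟩
    · rcases h3 with ⟨h8, h9, -⟩ | ⟨h8, -⟩
      · exact Or.inl ⟨h9, h'⟩
      · exact absurd h h8
    · rcases h3 with ⟨h8, -⟩ | ⟨h8, h9, -⟩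
      · exact absurd h8 h
      · exact Or.inr ⟨h9, h'⟩

/-- `q = 13`, `n = 7`. -/
theorem l2_13_7 (hC : Core P) (hK : Fintype.card K = 13) (hpr : p ≠ 13)
    (e : Soc P ≃* ProjectiveSpecialLinearGroup (Fin 2) K)
    (hn : Fintype.card ι = 7) :
    ((scalars ι F).subgroupOf P = ⊥ ∧ p ≠ 2) ∧ SD P ∧
    ((Fintype.card F = p ∧ (p % 13 = 1 ∨ p % 13 = 3 ∨ p % 13 = 4 ∨ p % 13 = 9 ∨ p % 13 = 10 ∨ p % 13 = 12)) ∨
      (Fintype.card F = p ^ 2 ∧ (p % 13 = 2 ∨ p % 13 = 5 ∨ p % 13 = 6 ∨ p % 13 = 7 ∨ p % 13 = 8 ∨ p % 13 = 11))) := by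
  have hpK : ¬ p ∣ Fintype.card K := not_dvd_card p (r := 13) (s := 1) (by norm_num) (by rw [hK]; norm_num) hpr
  have hpp := hp.out.pos
  have hp2 : p % 2 = 1 ∨ p = 2 := by
    rcases hp.out.eq_two_or_odd with h | h
    · exact Or.inr h
    · exact Or.inl h
  obtain ⟨h1, h2, h3, h4, h5⟩ := l2_half p hC (by omega) (by omega) hpK e (by omega)
  rw [hK] at h1 h2 h4 h5
  obtain ⟨h6, h7⟩ := h1 (by omega)
  refine ⟨⟨h7.2 (by norm_num), h6⟩, h5.2 (by norm_num), ?_⟩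
  · rcases sq13 p hK hpr with ⟨h, h'⟩ | ⟨h, h'⟩
    · rcases h3 with ⟨h8, h9, -⟩ | ⟨h8, -⟩
      · exact Or.inl ⟨h9, h'⟩
      · exact absurd h h8
    · rcases h3 with ⟨h8, -⟩ | ⟨h8, h9, -⟩
      · exact absurd h8 h
      · exact Or.inr ⟨h9, h'⟩

/-- `q = 17`, `n = 8`. -/
theorem l2_17_8 (hC : Core P) (hK : Fintype.card K = 17) (hpr : p ≠ 17)
    (e : Soc P ≃* ProjectiveSpecialLinearGroup (Fin 2) K)
    (hn : Fintype.card ι = 8) :
    ((scalars ι F).subgroupOf P = ⊥ ↔ p = 2) ∧ SD P ∧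
    ((Fintype.card F = p ∧ (p % 17 = 1 ∨ p % 17 = 2 ∨ p % 17 = 4 ∨ p % 17 = 8 ∨ p % 17 = 9 ∨ p % 17 = 13 ∨ p % 17 = 15 ∨ p % 17 = 16)) ∨
      (Fintype.card F = p ^ 2 ∧ (p % 17 = 3 ∨ p % 17 = 5 ∨ p % 17 = 6 ∨ p % 17 = 7 ∨ p % 17 = 10 ∨ p % 17 = 11 ∨ p % 17 = 12 ∨ p % 17 = 14))) := by
  have hpK : ¬ p ∣ Fintype.card K := not_dvd_card p (r := 17) (s := 1) (by norm_num) (by rw [hK]; norm_num) hpr
  have hpp := hp.out.pos
  have hp2 : p % 2 = 1 ∨ p = 2 := by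
    rcases hp.out.eq_two_or_odd with h | h
    · exact Or.inr h
    · exact Or.inl h
  obtain ⟨h1, h2, h3, h4, h5⟩ := l2_half p hC (by omega) (by omega) hpK e (by omega)
  rw [hK] at h1 h2 h4 h5
  refine ⟨?_, h5.2 (by norm_num), ?_⟩
  · rw [h2 (by omega)]
    omega
  · rcases sq17 p hK hpr with ⟨h, h'⟩ | ⟨h, h'⟩
    · rcases h3 with ⟨h8, h9, -⟩ | ⟨h8, -⟩
      · exact Or.inl ⟨h9, h'⟩
      · exact absurd h h8
    · rcases h3 with ⟨h8, -⟩ | ⟨h8, h9, -⟩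
      · exact absurd h8 h
      · exact Or.inr ⟨h9, h'⟩

/-- `q = 17`, `n = 9`. -/
theorem l2_17_9 (hC : Core P) (hK : Fintype.card K = 17) (hpr : p ≠ 17)
    (e : Soc P ≃* ProjectiveSpecialLinearGroup (Fin 2) K)
    (hn : Fintype.card ι = 9) :
    ((scalars ι F).subgroupOf P = ⊥ ∧ p ≠ 2) ∧ SD P ∧
    ((Fintype.card F = p ∧ (p % 17 = 1 ∨ p % 17 = 2 ∨ p % 17 = 4 ∨ p % 17 = 8 ∨ p % 17 = 9 ∨ p % 17 = 13 ∨ p % 17 = 15 ∨ p % 17 = 16)) ∨
      (Fintype.card F = p ^ 2 ∧ (p % 17 = 3 ∨ p % 17 = 5 ∨ p % 17 = 6 ∨ p % 17 = 7 ∨ p % 17 = 10 ∨ p % 17 = 11 ∨ p % 17 = 12 ∨ p % 17 = 14))) := by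
  have hpK : ¬ p ∣ Fintype.card K := not_dvd_card p (r := 17) (s := 1) (by norm_num) (by rw [hK]; norm_num) hpr
  have hpp := hp.out.pos
  have hp2 : p % 2 = 1 ∨ p = 2 := by
    rcases hp.out.eq_two_or_odd with h | h
    · exact Or.inr h
    · exact Or.inl h
  obtain ⟨h1, h2, h3, h4, h5⟩ := l2_half p hC (by omega) (by omega) hpK e (by omega)
  rw [hK] at h1 h2 h4 h5
  obtain ⟨h6, h7⟩ := h1 (by omega)
  refine ⟨⟨h7.2 (by norm_num), h6⟩, h5.2 (by norm_num), ?_⟩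
  · rcases sq17 p hK hpr with ⟨h, h'⟩ | ⟨h, h'⟩
    · rcases h3 with ⟨h8, h9, -⟩ | ⟨h8, -⟩
      · exact Or.inl ⟨h9, h'⟩
      · exact absurd h h8
    · rcases h3 with ⟨h8, -⟩ | ⟨h8, h9, -⟩
      · exact absurd h8 h
      · exact Or.inr ⟨h9, h'⟩

/-- `q = 19`, `n = 9`. -/
theorem l2_19_9 (hC : Core P) (hK : Fintype.card K = 19) (hpr : p ≠ 19)
    (e : Soc P ≃* ProjectiveSpecialLinearGroup (Fin 2) K)
    (hn : Fintype.card ι = 9) :
    (scalars ι F).subgroupOf P = ⊥ ∧ ¬ SD P ∧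
    ((Fintype.card F = p ∧ (p % 19 = 1 ∨ p % 19 = 4 ∨ p % 19 = 5 ∨ p % 19 = 6 ∨ p % 19 = 7 ∨ p % 19 = 9 ∨ p % 19 = 11 ∨ p % 19 = 16 ∨ p % 19 = 17)) ∨
      (Fintype.card F = p ^ 2 ∧ Cj P p ∧ (p % 19 = 2 ∨ p % 19 = 3 ∨ p % 19 = 8 ∨ p % 19 = 10 ∨ p % 19 = 12 ∨ p % 19 = 13 ∨ p % 19 = 14 ∨ p % 19 = 15 ∨ p % 19 = 18))) := by
  have hpK : ¬ p ∣ Fintype.card K := not_dvd_card p (r := 19) (s := 1) (by norm_num) (by rw [hK]; norm_num) hpr
  have hpp := hp.out.pos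
  have hp2 : p % 2 = 1 ∨ p = 2 := by
    rcases hp.out.eq_two_or_odd with h | h
    · exact Or.inr h
    · exact Or.inl h
  obtain ⟨h1, h2, h3, h4, h5⟩ := l2_half p hC (by omega) (by omega) hpK e (by omega)
  rw [hK] at h1 h2 h4 h5
  refine ⟨(h2 (by omega)).2 (by norm_num), fun h => by have := h5.1 h; omega, ?_⟩
  · rcases sq19 p hK hpr with ⟨h, h'⟩ | ⟨h, h'⟩
    · rcases h3 with ⟨h8, h9, -⟩ | ⟨h8, -⟩
      · exact Or.inl ⟨h9, h'⟩
      · exact absurd h h8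
    · rcases h3 with ⟨h8, -⟩ | ⟨h8, h9, -⟩
      · exact absurd h8 h
      · exact Or.inr ⟨h9, h4 (by norm_num) h, h'⟩

/-- `q = 19`, `n = 10`. -/
theorem l2_19_10 (hC : Core P) (hK : Fintype.card K = 19) (hpr : p ≠ 19)
    (e : Soc P ≃* ProjectiveSpecialLinearGroup (Fin 2) K)
    (hn : Fintype.card ι = 10) :
    ((scalars ι F).subgroupOf P ≠ ⊥ ∧ p ≠ 2) ∧ ¬ SD P ∧
    ((Fintype.card F = p ∧ (p % 19 = 1 ∨ p % 19 = 4 ∨ p % 19 = 5 ∨ p % 19 = 6 ∨ p % 19 = 7 ∨ p % 19 = 9 ∨ p % 19 = 11 ∨ p % 19 = 16 ∨ p % 19 = 17)) ∨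
      (Fintype.card F = p ^ 2 ∧ Cj P p ∧ (p % 19 = 2 ∨ p % 19 = 3 ∨ p % 19 = 8 ∨ p % 19 = 10 ∨ p % 19 = 12 ∨ p % 19 = 13 ∨ p % 19 = 14 ∨ p % 19 = 15 ∨ p % 19 = 18))) := by
  have hpK : ¬ p ∣ Fintype.card K := not_dvd_card p (r := 19) (s := 1) (by norm_num) (by rw [hK]; norm_num) hpr
  have hpp := hp.out.pos
  have hp2 : p % 2 = 1 ∨ p = 2 := by
    rcases hp.out.eq_two_or_odd with h | h
    · exact Or.inr h
    · exact Or.inl h
  obtain ⟨h1, h2, h3, h4, h5⟩ := l2_half p hC (by omega) (by omega) hpK e (by omega)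
  rw [hK] at h1 h2 h4 h5
  obtain ⟨h6, h7⟩ := h1 (by omega)
  refine ⟨⟨fun h => by have := h7.1 h; omega, h6⟩, fun h => by have := h5.1 h; omega, ?_⟩
  · rcases sq19 p hK hpr with ⟨h, h'⟩ | ⟨h, h'⟩
    · rcases h3 with ⟨h8, h9, -⟩ | ⟨h8, -⟩
      · exact Or.inl ⟨h9, h'⟩
      · exact absurd h h8
    · rcases h3 with ⟨h8, -⟩ | ⟨h8, h9, -⟩
      · exact absurd h8 h
      · exact Or.inr ⟨h9, h4 (by norm_num) h, h'⟩

/-- `q = 23`, `n = 11`. -/
theorem l2_23_11 (hC : Core P) (hK : Fintype.card K = 23) (hpr : p ≠ 23)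
    (e : Soc P ≃* ProjectiveSpecialLinearGroup (Fin 2) K)
    (hn : Fintype.card ι = 11) :
    (scalars ι F).subgroupOf P = ⊥ ∧ ¬ SD P ∧
    ((Fintype.card F = p ∧ (p % 23 = 1 ∨ p % 23 = 2 ∨ p % 23 = 3 ∨ p % 23 = 4 ∨ p % 23 = 6 ∨ p % 23 = 8 ∨ p % 23 = 9 ∨ p % 23 = 12 ∨ p % 23 = 13 ∨ p % 23 = 16 ∨ p % 23 = 18)) ∨
      (Fintype.card F = p ^ 2 ∧ Cj P p ∧ (p % 23 = 5 ∨ p % 23 = 7 ∨ p % 23 = 10 ∨ p % 23 = 11 ∨ p % 23 = 14 ∨ p % 23 = 15 ∨ p % 23 = 17 ∨ p % 23 = 19 ∨ p % 23 = 20 ∨ p % 23 = 21 ∨ p % 23 = 22))) := by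
  have hpK : ¬ p ∣ Fintype.card K := not_dvd_card p (r := 23) (s := 1) (by norm_num) (by rw [hK]; norm_num) hpr
  have hpp := hp.out.pos
  have hp2 : p % 2 = 1 ∨ p = 2 := by
    rcases hp.out.eq_two_or_odd with h | h
    · exact Or.inr h
    · exact Or.inl h
  obtain ⟨h1, h2, h3, h4, h5⟩ := l2_half p hC (by omega) (by omega) hpK e (by omega)
  rw [hK] at h1 h2 h4 h5
  refine ⟨(h2 (by omega)).2 (by norm_num), fun h => by have := h5.1 h; omega, ?_⟩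
  · rcases sq23 p hK hpr with ⟨h, h'⟩ | ⟨h, h'⟩
    · rcases h3 with ⟨h8, h9, -⟩ | ⟨h8, -⟩
      · exact Or.inl ⟨h9, h'⟩
      · exact absurd h h8
    · rcases h3 with ⟨h8, -⟩ | ⟨h8, h9, -⟩
      · exact absurd h8 h
      · exact Or.inr ⟨h9, h4 (by norm_num) h, h'⟩

/-- `q = 23`, `n = 12`. -/
theorem l2_23_12 (hC : Core P) (hK : Fintype.card K = 23) (hpr : p ≠ 23)
    (e : Soc P ≃* ProjectiveSpecialLinearGroup (Fin 2) K)
    (hn : Fintype.card ι = 12) :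
    ((scalars ι F).subgroupOf P ≠ ⊥ ∧ p ≠ 2) ∧ ¬ SD P ∧
    ((Fintype.card F = p ∧ (p % 23 = 1 ∨ p % 23 = 2 ∨ p % 23 = 3 ∨ p % 23 = 4 ∨ p % 23 = 6 ∨ p % 23 = 8 ∨ p % 23 = 9 ∨ p % 23 = 12 ∨ p % 23 = 13 ∨ p % 23 = 16 ∨ p % 23 = 18)) ∨
      (Fintype.card F = p ^ 2 ∧ Cj P p ∧ (p % 23 = 5 ∨ p % 23 = 7 ∨ p % 23 = 10 ∨ p % 23 = 11 ∨ p % 23 = 14 ∨ p % 23 = 15 ∨ p % 23 = 17 ∨ p % 23 = 19 ∨ p % 23 = 20 ∨ p % 23 = 21 ∨ p % 23 = 22))) := by
  have hpK : ¬ p ∣ Fintype.card K := not_dvd_card p (r := 23) (s := 1) (by norm_num) (by rw [hK]; norm_num) hpr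
  have hpp := hp.out.pos
  have hp2 : p % 2 = 1 ∨ p = 2 := by
    rcases hp.out.eq_two_or_odd with h | h
    · exact Or.inr h
    · exact Or.inl h
  obtain ⟨h1, h2, h3, h4, h5⟩ := l2_half p hC (by omega) (by omega) hpK e (by omega)
  rw [hK] at h1 h2 h4 h5
  obtain ⟨h6, h7⟩ := h1 (by omega)
  refine ⟨⟨fun h => by have := h7.1 h; omega, h6⟩, fun h => by have := h5.1 h; omega, ?_⟩
  · rcases sq23 p hK hpr with ⟨h, h'⟩ | ⟨h, h'⟩
    · rcases h3 with ⟨h8, h9, -⟩ | ⟨h8, -⟩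
      · exact Or.inl ⟨h9, h'⟩
      · exact absurd h h8
    · rcases h3 with ⟨h8, -⟩ | ⟨h8, h9, -⟩
      · exact absurd h8 h
      · exact Or.inr ⟨h9, h4 (by norm_num) h, h'⟩

/-- `q = 25`, `n = 12`. -/
theorem l2_25_12 (hC : Core P) (hK : Fintype.card K = 25) (hpr : p ≠ 5)
    (e : Soc P ≃* ProjectiveSpecialLinearGroup (Fin 2) K)
    (hn : Fintype.card ι = 12) :
    ((scalars ι F).subgroupOf P = ⊥ ↔ p = 2) ∧ SD P ∧ Fintype.card F = p := by
  have hpK : ¬ p ∣ Fintype.card K := not_dvd_card p (r := 5) (s := 2) (by norm_num) (by rw [hK]; norm_num) hpr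
  have hpp := hp.out.pos
  have hp2 : p % 2 = 1 ∨ p = 2 := by
    rcases hp.out.eq_two_or_odd with h | h
    · exact Or.inr h
    · exact Or.inl h
  obtain ⟨h1, h2, h3, h4, h5⟩ := l2_half p hC (by omega) (by omega) hpK e (by omega)
  rw [hK] at h1 h2 h4 h5
  refine ⟨?_, h5.2 (by norm_num), ?_⟩
  · rw [h2 (by omega)]
    omega
  · rcases h3 with ⟨-, h9, -⟩ | ⟨h8, -⟩
    · exact h9
    · exfalso
      apply h8
      have hch : ringChar K = 5 := by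
        obtain ⟨n, hn1, hn2⟩ := FiniteField.card K (ringChar K)
        rw [hK] at hn2
        have h10 : ringChar K ∣ 5 ^ 2 := by
          have h11 : ringChar K ∣ 25 := by
            rw [hn2]
            exact dvd_pow_self _ n.ne_zero
          exact h11
        exact (Nat.prime_dvd_prime_iff_eq hn1 (by norm_num)).1 (hn1.dvd_of_dvd_pow h10)
      have hchar : CharP K 5 := by
        rw [← hch]
        infer_instance
      have hp0 : (p : K) ≠ 0 := by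
        intro h
        rw [CharP.cast_eq_zero_iff K 5] at h
        exact hpr.symm ((Nat.prime_dvd_prime_iff_eq (by norm_num) hp.out).1 h)
      rw [FiniteField.isSquare_iff (by rw [hch]; norm_num) hp0, hK]
      have h12 : (p : K) ^ 4 = 1 := by
        have h13 : ((p : ℕ) : ZMod 5) ^ 4 = 1 := by
          have h14 : (p : ZMod 5) ≠ 0 := by
            intro h
            rw [ZMod.natCast_eq_zero_iff] at h
            exact hpr.symm ((Nat.prime_dvd_prime_iff_eq (by norm_num) hp.out).1 h)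
          have h15 : ∀ x : ZMod 5, x ≠ 0 → x ^ 4 = 1 := by decide
          exact h15 _ h14
        have h16 := congrArg (ZMod.castHom (dvd_refl 5) K) h13
        rwa [map_pow, map_natCast, map_one] at h16
      have h17 : 25 / 2 = 4 * 3 := by norm_num
      rw [h17, pow_mul, h12, one_pow]

end Cfsg.Agent.H464.Sl2
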