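import Cfsg.Agent.H464.L2TrD

/-!
# Traces of `SL₂(q)`, V: the functional equation (helper464)
-/

set_option autoImplicit false
set_option linter.unusedSectionVars false

namespace Cfsg.Agent.H464.Sl2

open Matrix Module

variable {K : Type*} [Field K] [Fintype K] [DecidableEq K]

/-- The standard element of trace `τ`. -/
def Zt (τ : K) : SpecialLinearGroup (Fin 2) K := u τ * w 1

theorem Zt_val (τ : K) : (Zt τ).1 = !![τ, -1; 1, 0] := by
  change !![1, τ; 0, 1] * !![0, -((1⁻¹ : Kˣ) : K); ((1 : Kˣ) : K), 0] = _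
  ext i j
  fin_cases i <;> fin_cases j <;> simp [Matrix.mul_apply, Fin.sum_univ_two]

theorem Zt_inv_val (τ : K) : ((Zt τ)⁻¹).1 = !![0, 1; -1, τ] := by
  change (adjugate (Zt τ).1) = _
  rw [Zt_val, Matrix.adjugate_fin_two_of, neg_neg]

/-- The shape of the elements commuting with `Zt τ`. -/
theorem shape {τ : K} {h : SpecialLinearGroup (Fin 2) K} (hc : h * Zt τ = Zt τ * h) :
    h.1 0 1 = -h.1 1 0 ∧ h.1 0 0 = h.1 1 1 + h.1 1 0 * τ := by
  have h1 : h.1 * (Zt τ).1 = (Zt τ).1 * h.1 := congrArg Subtype.val hc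
  rw [Zt_val] at h1
  have h2 := congrFun (congrFun h1 0) 0
  have h3 := congrFun (congrFun h1 0) 1
  simp only [Matrix.mul_apply, Fin.sum_univ_two, Matrix.of_apply, Matrix.cons_val', Matrix.cons_val_zero,
    Matrix.cons_val_one, Matrix.cons_val_fin_one] at h2 h3
  have h4 : h.1 0 1 = -h.1 1 0 := by linear_combination h2
  refine ⟨h4, ?_⟩
  linear_combination -h3 - τ * h4

theorem shape_central {τ : K} {h : SpecialLinearGroup (Fin 2) K} (hc : h * Zt τ = Zt τ * h) (h10 : h.1 1 0 = 0) :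
    ∃ ε : Kˣ, ε ^ 2 = 1 ∧ h = t ε := by
  obtain ⟨h1, h2⟩ := shape hc
  rw [h10, neg_zero] at h1
  rw [h10, zero_mul, add_zero] at h2
  have hdet : h.1 0 0 * h.1 1 1 - h.1 0 1 * h.1 1 0 = 1 := by
    have := h.2
    rwa [Matrix.det_fin_two] at this
  rw [h1, zero_mul, sub_zero, ← h2, ← sq] at hdet
  have h0 : h.1 0 0 ≠ 0 := by
    intro h0
    rw [h0] at hdet
    simp at hdet
  refine ⟨Units.mk0 _ h0, Units.ext ?_, ?_⟩
  · rw [Units.val_pow_eq_pow_val, Units.val_mk0, hdet, Units.val_one]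
  · apply Subtype.ext
    change h.1 = !![h.1 0 0, 0; 0, (h.1 0 0)⁻¹]
    have h3 : (h.1 0 0)⁻¹ = h.1 0 0 := by
      apply inv_eq_of_mul_eq_one_left
      rw [← sq, hdet]
    rw [h3]
    ext i j
    fin_cases i <;> fin_cases j
    · rfl
    · exact h1
    · exact h10
    · exact h2.symm

theorem tr_mul_shape {τ : K} {g h : SpecialLinearGroup (Fin 2) K} (hc : h * Zt τ = Zt τ * h) :
    (g * h).1 0 0 + (g * h).1 1 1 = h.1 1 1 * (g.1 0 0 + g.1 1 1) + h.1 1 0 * (g.1 0 0 * τ + g.1 0 1 - g.1 1 0) := by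
  obtain ⟨h1, h2⟩ := shape hc
  change (g.1 * h.1) 0 0 + (g.1 * h.1) 1 1 = _
  rw [Matrix.mul_apply, Matrix.mul_apply, Fin.sum_univ_two, Fin.sum_univ_two, h1, h2]
  ring

theorem Zt_mem (τ : K) : Zt τ ∈ Cl τ := by
  rw [mem_Cl, Zt_val]
  simp

theorem Zt_inv_mem (τ : K) : (Zt τ)⁻¹ ∈ Cl τ := by
  rw [mem_Cl, Zt_inv_val]
  simp

section Rep

variable {k : Type*} [Field k] {V : Type*} [AddCommGroup V] [Module k V]
  [FiniteDimensional k V] (R : SpecialLinearGroup (Fin 2) K →* Module.End k V) {ψ : AddChar K k}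
  (hψ : ψ.IsPrimitive) (hK : (Fintype.card K : k) ≠ 0)

include hψ hK

/-- The values of the character on `C_τ h`, `h` in the centraliser of `Zt τ`. -/
theorem sum_chi_mul (h3K : 3 ≤ Fintype.card K) (hspan : Submodule.span k (Set.range R) = ⊤)
    (hall : ∀ b : K, b ≠ 0 → finrank k (LinearMap.range (E R ψ b)) = 1) {τ : K} (hτ : NonSplit τ)
    {h : SpecialLinearGroup (Fin 2) K} (hc : h * Zt τ = Zt τ * h) (h10 : h.1 1 0 ≠ 0) :
    ∑ g ∈ Cl τ, chi R (g * h) = ((Fintype.card K : k) + 1) * (∑ s, ct R s) +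
      (chi R (Zt τ * h) - ((Fintype.card K : k) + 1) * ct R ((Zt τ * h).1 0 0 + (Zt τ * h).1 1 1)) +
      (chi R ((Zt τ)⁻¹ * h) - ((Fintype.card K : k) + 1) * ct R (((Zt τ)⁻¹ * h).1 0 0 + ((Zt τ)⁻¹ * h).1 1 1)) := by
  obtain ⟨hs1, hs2⟩ := shape hc
  have hdet : h.1 0 0 * h.1 1 1 - h.1 0 1 * h.1 1 0 = 1 := by
    have := h.2
    rwa [Matrix.det_fin_two] at this
  have hne : (2 : K) ≠ τ ^ 2 - 2 := fun h0 => hτ.sq_sub_ne (by linear_combination -h0)
  set φ : SpecialLinearGroup (Fin 2) K → K := fun g => g.1 0 0 * τ + g.1 0 1 - g.1 1 0 with hφ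
  have hφZ : φ (Zt τ) = τ ^ 2 - 2 := by
    rw [hφ]
    dsimp only
    rw [Zt_val]
    simp
    ring
  have hφZ' : φ (Zt τ)⁻¹ = 2 := by
    rw [hφ]
    dsimp only
    rw [Zt_inv_val]
    simp
    norm_num
  have htr : ∀ g ∈ Cl τ, (g * h).1 0 0 + (g * h).1 1 1 = h.1 1 1 * τ + h.1 1 0 * φ g := by
    intro g hg
    rw [tr_mul_shape hc, mem_Cl.1 hg]
  have htrZ := htr _ (Zt_mem τ)
  have htrZ' := htr _ (Zt_inv_mem τ)
  rw [hφZ] at htrZ
  rw [hφZ'] at htrZ'
  have hin : ∀ s : K, ∑ g ∈ (Cl τ).filter (fun g => φ g = s), chi R (g * h) =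
      ((Fintype.card K : k) + 1) * ct R (h.1 1 1 * τ + h.1 1 0 * s) +
      ((if s = τ ^ 2 - 2 then chi R (Zt τ * h) - ((Fintype.card K : k) + 1) *
          ct R ((Zt τ * h).1 0 0 + (Zt τ * h).1 1 1) else 0) +
       (if s = 2 then chi R ((Zt τ)⁻¹ * h) - ((Fintype.card K : k) + 1) *
          ct R (((Zt τ)⁻¹ * h).1 0 0 + ((Zt τ)⁻¹ * h).1 1 1) else 0)) := by
    intro s
    by_cases h1 : s = 2
    · have hsing : (Cl τ).filter (fun g => φ g = s) = {(Zt τ)⁻¹} := by
        have h2 := card_fiber_eq hτ (s := s) (Or.inl h1)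
        rw [Finset.card_eq_one] at h2
        obtain ⟨a, ha⟩ := h2
        have h3 : (Zt τ)⁻¹ ∈ (Cl τ).filter (fun g => φ g = s) :=
          Finset.mem_filter.2 ⟨Zt_inv_mem τ, by rw [hφZ', h1]⟩
        have h4 : (Cl τ).filter (fun g => φ g = s) = {a} := ha
        rw [h4] at h3 ⊢
        rw [Finset.mem_singleton.1 h3]
      rw [hsing, Finset.sum_singleton, if_pos h1, if_neg (by rw [h1]; exact hne), htrZ', h1]
      ring
    · by_cases h2 : s = τ ^ 2 - 2
      · have hsing : (Cl τ).filter (fun g => φ g = s) = {Zt τ} := by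
          have h2' := card_fiber_eq hτ (s := s) (Or.inr h2)
          rw [Finset.card_eq_one] at h2'
          obtain ⟨a, ha⟩ := h2'
          have h3 : Zt τ ∈ (Cl τ).filter (fun g => φ g = s) :=
            Finset.mem_filter.2 ⟨Zt_mem τ, by rw [hφZ, h2]⟩
          have h4 : (Cl τ).filter (fun g => φ g = s) = {a} := ha
          rw [h4] at h3 ⊢
          rw [Finset.mem_singleton.1 h3]
        rw [hsing, Finset.sum_singleton, if_neg h1, if_pos h2, htrZ, h2]
        ring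
      · have hval : ∀ g ∈ (Cl τ).filter (fun g => φ g = s), chi R (g * h) = ct R (h.1 1 1 * τ + h.1 1 0 * s) := by
          intro g hg
          obtain ⟨hg1, hg2⟩ := Finset.mem_filter.1 hg
          rw [← hg2, ← htr g hg1]
          apply chi_eq R hψ hK h3K hspan hall
          intro ε hε h3
          have hεK : (ε : K) ^ 2 = 1 := by rw [← Units.val_pow_eq_pow_val, hε, Units.val_one]
          have h4 : g = t ε * h⁻¹ := by rw [← h3, mul_inv_cancel_right]
          have h5 : g.1 = !![(ε : K) * h.1 1 1, ε * h.1 1 0; -(ε * h.1 1 0), ε * (h.1 1 1 + h.1 1 0 * τ)] := by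
            have h6 : ((ε⁻¹ : Kˣ) : K) = ε := by
              congr 1
              rw [inv_eq_iff_mul_eq_one, ← sq, hε]
            rw [h4]
            change !![(ε : K), 0; 0, ((ε⁻¹ : Kˣ) : K)] * (adjugate h.1) = _
            rw [h6, Matrix.adjugate_fin_two, hs1, hs2]
            ext i j
            fin_cases i <;> fin_cases j <;> simp [Matrix.mul_apply, Fin.sum_univ_two]
          have h7 := mem_Cl.1 hg1
          rw [h5] at h7
          have h8 : s = (ε : K) * h.1 1 1 * τ + 2 * (ε * h.1 1 0) := by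
            rw [← hg2, hφ]
            dsimp only
            rw [h5]
            simp
            ring
          have h9 : (ε : K) * h.1 1 1 + ε * (h.1 1 1 + h.1 1 0 * τ) = τ := h7
          rw [hs1, hs2] at hdet
          have h10' : (s - 2) * (s - τ ^ 2 + 2) = 0 := by
            have e1 : (4 - τ ^ 2) * ((ε : K) ^ 2 * (h.1 1 1 ^ 2 + τ * h.1 1 1 * h.1 1 0 + h.1 1 0 ^ 2)) =
                s ^ 2 + ((ε : K) * h.1 1 1 + ε * (h.1 1 1 + h.1 1 0 * τ)) ^ 2 -
                  τ * s * ((ε : K) * h.1 1 1 + ε * (h.1 1 1 + h.1 1 0 * τ)) := by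
              rw [h8]
              ring
            have e2 : h.1 1 1 ^ 2 + τ * h.1 1 1 * h.1 1 0 + h.1 1 0 ^ 2 = 1 := by
              linear_combination hdet
            rw [h9, hεK, e2] at e1
            linear_combination -e1
          rcases mul_eq_zero.1 h10' with h11 | h11
          · exact h1 (sub_eq_zero.1 h11)
          · exact h2 (by linear_combination h11)
        rw [Finset.sum_congr rfl hval, Finset.sum_const, if_neg h1, if_neg h2, add_zero, add_zero, nsmul_eq_mul]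
        congr 1
        have h3 := card_fiber_ne hτ h1 h2
        have h4 : ((Cl τ).filter (fun g => φ g = s)).card = Fintype.card K + 1 := h3
        rw [h4]
        push_cast
        ring
  rw [← Finset.sum_fiberwise (Cl τ) φ, Finset.sum_congr rfl fun s _ => hin s, Finset.sum_add_distrib,
    Finset.sum_add_distrib, Finset.sum_ite_eq' Finset.univ (τ ^ 2 - 2), Finset.sum_ite_eq' Finset.univ (2 : K),
    if_pos (Finset.mem_univ _), if_pos (Finset.mem_univ _), ← Finset.mul_sum, ← add_assoc]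
  congr 3
  exact Equiv.sum_comp ((Equiv.mulLeft₀ (h.1 1 0) h10).trans (Equiv.addLeft (h.1 1 1 * τ))) (fun s => ct R s)

/-- **Product formula.** -/
theorem chi_mul_chi (h3K : 3 ≤ Fintype.card K) (hspan : Submodule.span k (Set.range R) = ⊤)
    (hall : ∀ b : K, b ≠ 0 → finrank k (LinearMap.range (E R ψ b)) = 1) {τ : K} (hτ : NonSplit τ)
    {h : SpecialLinearGroup (Fin 2) K} (hc : h * Zt τ = Zt τ * h) (h10 : h.1 1 0 ≠ 0) :
    ((Fintype.card K : k) * ct R τ - ∑ s, ct R s) * chi R h = ((Fintype.card K : k) + 1) * (∑ s, ct R s) +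
      (chi R (Zt τ * h) - ((Fintype.card K : k) + 1) * ct R ((Zt τ * h).1 0 0 + (Zt τ * h).1 1 1)) +
      (chi R ((Zt τ)⁻¹ * h) - ((Fintype.card K : k) + 1) * ct R (((Zt τ)⁻¹ * h).1 0 0 + ((Zt τ)⁻¹ * h).1 1 1)) := by
  rw [← sum_chi_mul R hψ hK h3K hspan hall hτ hc h10]
  have h1 := congrArg (fun A => LinearMap.trace k V (A * R h)) (exists_S R hψ hK h3K hspan hall hτ)
  simp only [smul_mul_assoc, one_mul, map_smul, smul_eq_mul] at h1
  rw [chi, ← h1, S, Finset.sum_mul, map_sum]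
  refine Finset.sum_congr rfl fun g _ => ?_
  rw [chi, MonoidHom.map_mul]

omit hψ hK [DecidableEq K] in
theorem t_val_of_sq {ε : Kˣ} (hε : ε ^ 2 = 1) : (t ε).1 = !![(ε : K), 0; 0, (ε : K)] := by
  have h6 : ((ε⁻¹ : Kˣ) : K) = ε := by
    congr 1
    rw [inv_eq_iff_mul_eq_one, ← sq, hε]
  change !![(ε : K), 0; 0, ((ε⁻¹ : Kˣ) : K)] = _
  rw [h6]

/-- The value at the trace of a central element. -/
theorem ct_central (h3K : 3 ≤ Fintype.card K) (hspan : Submodule.span k (Set.range R) = ⊤)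
    (hall : ∀ b : K, b ≠ 0 → finrank k (LinearMap.range (E R ψ b)) = 1) {ε : Kˣ} (hε : ε ^ 2 = 1) {c : k}
    (hc : R (t ε) = c • 1) : ct R ((t ε).1 0 0 + (t ε).1 1 1) =
      c * ((finrank k (LinearMap.range (E R ψ 0)) : k) - 1) := by
  have h1 : (t ε * u 1).1 = !![(ε : K), ε; 0, ε] := by
    change (t ε).1 * !![1, (1 : K); 0, 1] = _
    rw [t_val_of_sq hε]
    ext i j
    fin_cases i <;> fin_cases j <;> simp [Matrix.mul_apply, Fin.sum_univ_two]
  have h2 : chi R (t ε * u 1) = ct R ((t ε * u 1).1 0 0 + (t ε * u 1).1 1 1) := by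
    apply chi_eq R hψ hK h3K hspan hall
    intro δ hδ h3
    have h4 := congrFun (congrFun (congrArg Subtype.val h3) 0) 1
    rw [h1, t_val_of_sq hδ] at h4
    exact ε.ne_zero h4
  rw [← chi_u R hψ hK hall one_ne_zero, t_val_of_sq hε]
  rw [h1] at h2
  have h3 : chi R (t ε * u 1) = c * chi R (u 1) := by
    rw [chi, MonoidHom.map_mul, hc, smul_mul_assoc, one_mul, map_smul, smul_eq_mul]
    rfl
  rw [← h3, h2]
  rfl

/-- The function `θ + θ⁻¹`. -/
noncomputable def ff (g : SpecialLinearGroup (Fin 2) K) : k :=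
  if g.1 1 0 = 0 then 2 * LinearMap.trace k V (R g * E R ψ 1) else -chi R g

omit hψ hK in
theorem ff_of_ne {g : SpecialLinearGroup (Fin 2) K} (h : g.1 1 0 ≠ 0) : ff R (ψ := ψ) g = -chi R g := if_neg h

theorem ff_central (hall : ∀ b : K, b ≠ 0 → finrank k (LinearMap.range (E R ψ b)) = 1) {ε : Kˣ} {c : k}
    (hc : R (t ε) = c • 1) : ff R (ψ := ψ) (t ε) = 2 * c := by
  have h1 : (t ε).1 1 0 = 0 := rfl
  rw [ff, if_pos h1, hc, smul_mul_assoc, one_mul, map_smul, trace_E R hψ hK, hall 1 one_ne_zero, Nat.cast_one,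
    smul_eq_mul, mul_one]

/-- The correction terms, `V^U = 0`. -/
theorem ff_corr (h3K : 3 ≤ Fintype.card K) (hspan : Submodule.span k (Set.range R) = ⊤)
    (hall : ∀ b : K, b ≠ 0 → finrank k (LinearMap.range (E R ψ b)) = 1)
    (h0 : finrank k (LinearMap.range (E R ψ 0)) = 0) {τ : K}
    {g : SpecialLinearGroup (Fin 2) K} (hc : g * Zt τ = Zt τ * g) :
    chi R g - ((Fintype.card K : k) + 1) * ct R (g.1 0 0 + g.1 1 1) = (Fintype.card K : k) * ff R (ψ := ψ) g := by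
  by_cases h10 : g.1 1 0 = 0
  · obtain ⟨ε, hε, rfl⟩ := shape_central hc h10
    obtain ⟨c, hc'⟩ := central_scalar R hspan (t_sq_central hε)
    rw [ct_central R hψ hK h3K hspan hall hε hc', h0, ff_central R hψ hK hall hc', Nat.cast_zero]
    have h1 : chi R (t ε) = c * ((Fintype.card K : k) - 1) := by
      rw [chi, hc', map_smul, smul_eq_mul, LinearMap.trace_one, finrank_eq_sum R hψ hK,
        ← Finset.add_sum_erase _ _ (Finset.mem_univ (0 : K)), h0, zero_add,
        Finset.sum_congr rfl fun b hb => hall b (Finset.ne_of_mem_erase hb), Finset.sum_const,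
        Finset.card_erase_of_mem (Finset.mem_univ _), Finset.card_univ, smul_eq_mul, mul_one,
        Nat.cast_sub Fintype.card_pos, Nat.cast_one]
    rw [h1]
    ring
  · have h1 : chi R g = ct R (g.1 0 0 + g.1 1 1) := by
      apply chi_eq R hψ hK h3K hspan hall
      intro ε hε h3
      apply h10
      rw [h3]
      rfl
    rw [← h1, ff_of_ne R h10]
    ring

/-- **The functional equation.** -/
theorem ff_mul (h3K : 3 ≤ Fintype.card K) (hspan : Submodule.span k (Set.range R) = ⊤)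
    (hall : ∀ b : K, b ≠ 0 → finrank k (LinearMap.range (E R ψ b)) = 1)
    (h0 : finrank k (LinearMap.range (E R ψ 0)) = 0) {τ : K} (hτ : NonSplit τ)
    {h : SpecialLinearGroup (Fin 2) K} (hc : h * Zt τ = Zt τ * h) :
    ff R (ψ := ψ) (Zt τ) * ff R (ψ := ψ) h = ff R (ψ := ψ) (Zt τ * h) + ff R (ψ := ψ) ((Zt τ)⁻¹ * h) := by
  have hZ10 : (Zt τ).1 1 0 ≠ 0 := by
    rw [Zt_val]
    exact one_ne_zero
  have hZ10' : ((Zt τ)⁻¹).1 1 0 ≠ 0 := by
    rw [Zt_inv_val]
    exact neg_ne_zero.2 one_ne_zero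
  have hchiZ : chi R (Zt τ) = ct R τ := rfl
  have hchiZ' : chi R (Zt τ)⁻¹ = ct R τ := by
    have h5 : chi R (Zt τ)⁻¹ = ct R (((Zt τ)⁻¹).1 0 0 + ((Zt τ)⁻¹).1 1 1) := by
      apply chi_eq R hψ hK h3K hspan hall
      intro ε hε h3
      apply hZ10'
      rw [h3]
      rfl
    rw [h5, mem_Cl.1 (Zt_inv_mem τ)]
  by_cases h10 : h.1 1 0 = 0
  · obtain ⟨ε, hε, rfl⟩ := shape_central hc h10
    obtain ⟨c, hc'⟩ := central_scalar R hspan (t_sq_central hε)
    have hmul : ∀ g : SpecialLinearGroup (Fin 2) K, g.1 1 0 ≠ 0 → ff R (ψ := ψ) (g * t ε) = -(c * chi R g) := by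
      intro g hg
      have h1 : (g * t ε).1 1 0 ≠ 0 := by
        change (g.1 * (t ε).1) 1 0 ≠ 0
        rw [t_val_of_sq hε, Matrix.mul_apply, Fin.sum_univ_two]
        simpa using hg
      rw [ff_of_ne R h1, chi, MonoidHom.map_mul, hc', mul_smul_comm, mul_one, map_smul, smul_eq_mul]
      rfl
    rw [ff_central R hψ hK hall hc', hmul _ hZ10, hmul _ hZ10', ff_of_ne R hZ10, hchiZ, hchiZ']
    ring
  · have hT : ∑ s, ct R s = 0 := by
      rw [← sum_ct R hK (ψ := ψ)]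
      have h1 : E R ψ 0 = 0 := by
        rw [Submodule.finrank_eq_zero, LinearMap.range_eq_bot] at h0
        exact h0
      rw [h1, mul_zero, map_zero, mul_zero]
    have hc1 : (Zt τ * h) * Zt τ = Zt τ * (Zt τ * h) := by rw [mul_assoc, hc]
    have hc2 : ((Zt τ)⁻¹ * h) * Zt τ = Zt τ * ((Zt τ)⁻¹ * h) := by
      rw [mul_assoc, hc]
      group
    have h1 := chi_mul_chi R hψ hK h3K hspan hall hτ hc h10
    rw [hT, sub_zero, mul_zero, zero_add, ff_corr R hψ hK h3K hspan hall h0 hc1,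
      ff_corr R hψ hK h3K hspan hall h0 hc2, mul_assoc, ← mul_add] at h1
    rw [← mul_left_cancel₀ hK h1, ff_of_ne R hZ10, ff_of_ne R h10, hchiZ]
    ring

/-- **The traces of the powers of a nonsplit element in a cuspidal representation.** -/
theorem exists_theta [IsAlgClosed k] (h3K : 3 ≤ Fintype.card K) (hspan : Submodule.span k (Set.range R) = ⊤)
    (hall : ∀ b : K, b ≠ 0 → finrank k (LinearMap.range (E R ψ b)) = 1)
    (h0 : finrank k (LinearMap.range (E R ψ 0)) = 0) {τ : K} (hτ : NonSplit τ) :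
    ∃ ζ : k, ζ ≠ 0 ∧ ∀ n : ℕ, ff R (ψ := ψ) (Zt τ ^ n) = ζ ^ n + (ζ⁻¹) ^ n := by
  obtain ⟨ζ, hζ⟩ := IsAlgClosed.exists_root (Polynomial.X ^ 2 - Polynomial.C (ff R (ψ := ψ) (Zt τ)) * Polynomial.X + 1 :
    Polynomial k) (by
      have h1 : (Polynomial.X ^ 2 - Polynomial.C (ff R (ψ := ψ) (Zt τ)) * Polynomial.X + 1 : Polynomial k).degree = 2 := by
        compute_degree!
      rw [h1]
      norm_num)
  rw [Polynomial.IsRoot.def] at hζ
  simp only [Polynomial.eval_add, Polynomial.eval_sub, Polynomial.eval_pow, Polynomial.eval_X, Polynomial.eval_mul,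
    Polynomial.eval_C, Polynomial.eval_one] at hζ
  have hζ0 : ζ ≠ 0 := by
    rintro rfl
    simp at hζ
  have hf : ff R (ψ := ψ) (Zt τ) = ζ + ζ⁻¹ := by
    field_simp
    linear_combination -hζ
  have hc : ∀ n : ℕ, Zt τ ^ n * Zt τ = Zt τ * Zt τ ^ n := fun n => by rw [← pow_succ, ← pow_succ']
  refine ⟨ζ, hζ0, fun n => ?_⟩
  have key : ff R (ψ := ψ) (Zt τ ^ n) = ζ ^ n + (ζ⁻¹) ^ n ∧
      ff R (ψ := ψ) (Zt τ ^ (n + 1)) = ζ ^ (n + 1) + (ζ⁻¹) ^ (n + 1) := by
    induction n with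
    | zero =>
      constructor
      · rw [pow_zero, pow_zero, pow_zero, ← t_one, ff_central R hψ hK hall (c := 1) (by rw [t_one, map_one, one_smul])]
        norm_num
      · rw [zero_add, pow_one, pow_one, pow_one, hf]
    | succ n ih =>
      refine ⟨ih.2, ?_⟩
      have h1 := ff_mul R hψ hK h3K hspan hall h0 hτ (hc (n + 1))
      have h2 : (Zt τ)⁻¹ * Zt τ ^ (n + 1) = Zt τ ^ n := by
        rw [pow_succ', inv_mul_cancel_left]
      rw [h2, ← pow_succ', ih.1, ih.2, hf] at h1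
      have h3 : ζ * ζ⁻¹ = 1 := mul_inv_cancel₀ hζ0
      have h4 : ff R (ψ := ψ) (Zt τ ^ (n + 1 + 1)) = (ζ + ζ⁻¹) * (ζ ^ (n + 1) + (ζ⁻¹) ^ (n + 1)) -
          (ζ ^ n + (ζ⁻¹) ^ n) := by
        rw [h1]
        ring
      rw [h4]
      have h5 : ζ ^ n * (ζ * ζ⁻¹) = ζ ^ n := by rw [h3, mul_one]
      have h6 : (ζ⁻¹) ^ n * (ζ * ζ⁻¹) = (ζ⁻¹) ^ n := by rw [h3, mul_one]
      linear_combination h5 + h6
  exact key.1

end Rep

end Cfsg.Agent.H464.Sl2
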