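import Cfsg.Agent.H464.L2H

/-!
# Row T1: the table of the fields of definition of the cores with socle `PSL₂(q)`, degree at most `12` (helper464)

`Core P`, `e : Soc P ≃* PSL₂(K)`, `|K| = q`, `p ∤ q`.  Every statement `l2_q_n` gives the order of `F`, the excluded
primes and the centre.
-/

set_option autoImplicit false
set_option linter.unusedSectionVars false

namespace Cfsg.Agent.H464.Sl2

open Matrix Module Cfsg Cfsg.Geo Cfsg.Agent.H915.LD

universe u v

variable {ι : Type} [Fintype ι] [DecidableEq ι] {F : Type u} [Field F] {P : Subgroup (GL ι F)}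
  {K : Type v} [Field K] [Fintype K]

/-- the centre of `P` -/
theorem l2_bot_iff [DecidableEq K] (hC : Core P) (e : Soc P ≃* ProjectiveSpecialLinearGroup (Fin 2) K)
    (ρ : SpecialLinearGroup (Fin 2) K →* GL ι F) (hρ : ρ.range = P)
    (hρe : ∀ (g : SpecialLinearGroup (Fin 2) K) (h : ρ g ∈ P), e (toSoc P ⟨ρ g, h⟩) = QuotientGroup.mk g) :
    (scalars ι F).subgroupOf P = ⊥ ↔ ρ (t (-1)) = 1 := by
  refine H830.Sl2Form.scalars_bot_iff ρ hρ hC.absIrred ?_
  intro g hg
  have h3 : ρ g ∈ P := by rw [← hρ]; exact ⟨g, rfl⟩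
  have h4 := hρe g h3
  have h5 : toSoc P ⟨ρ g, h3⟩ = 1 := by
    rw [← MonoidHom.mem_ker, ker_toSoc, Subgroup.mem_subgroupOf]
    exact hg
  rw [h5, map_one] at h4
  exact (QuotientGroup.eq_one_iff g).1 h4.symm

theorem scalar_iff {c : F} {g : GL ι F} (hC : Core P) (hc : (g : Matrix ι ι F) = c • (1 : Matrix ι ι F)) :
    g = 1 ↔ c = 1 := by
  obtain ⟨i⟩ := hC.nonempty
  constructor
  · intro h
    rw [h] at hc
    have h1 := congrFun (congrFun hc i) i
    rw [Units.val_one, Matrix.smul_apply, Matrix.one_apply_eq, smul_eq_mul, mul_one] at h1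
    exact h1.symm
  · intro h
    apply Units.ext
    rw [hc, h, one_smul, Units.val_one]

/-- for `K` of characteristic two the centre is trivial -/
theorem t_neg_one_of_even [DecidableEq K] (h : ¬ Odd (Fintype.card K)) : t (-1 : Kˣ) = 1 := by
  have h2 : (2 : K) = 0 := by
    rw [Nat.not_odd_iff_even] at h
    have h3 := FiniteField.even_card_iff_char_two.2 (Nat.even_iff.1 h)
    have h4 := ringChar.Nat.cast_ringChar (R := K)
    rw [h3] at h4
    exact_mod_cast h4
  have h3 : (-1 : Kˣ) = 1 := Units.ext (by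
    rw [Units.val_neg, Units.val_one]
    linear_combination -h2)
  rw [h3, t_one]

section finite

variable [Fintype F] (p : ℕ) [hp : Fact p.Prime] [CharP F p]

/-- **Degree `q - 1`.** -/
theorem l2_cusp (hC : Core P) (h5 : 5 ≤ Fintype.card K) (h9 : Fintype.card K ≠ 9) (hpK : ¬ p ∣ Fintype.card K)
    (e : Soc P ≃* ProjectiveSpecialLinearGroup (Fin 2) K) (hn : Fintype.card ι + 1 = Fintype.card K) :
    ∃ m f : ℕ, m ∣ Fintype.card K + 1 ∧ ¬ p ∣ m ∧ m ≠ 2 ∧ (m = 1 → p ∣ Fintype.card K + 1) ∧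
      (Odd (Fintype.card K) → p = 2 → m ≠ 1) ∧
      (Odd (Fintype.card K) → ((scalars ι F).subgroupOf P = ⊥ ↔ m ∣ (Fintype.card K + 1) / 2)) ∧
      (¬ Odd (Fintype.card K) → (scalars ι F).subgroupOf P = ⊥) ∧
      0 < f ∧ Fintype.card F = p ^ f ∧ ∀ e : ℕ, f ∣ e ↔ (m ∣ p ^ e - 1 ∨ m ∣ p ^ e + 1) := by
  classical
  obtain ⟨ρ, hρ, hρe⟩ := l2_rep hC h5 h9 e
  obtain ⟨τ₀, hg⟩ := exists_Gen K
  obtain ⟨ζ, h1, h2, h3, h4, h6, -, -, -, h7⟩ := cusp_field p hC ρ hρ hpK (by omega) hn hg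
  obtain ⟨f, hf0, hf, hf1⟩ := card_field p hC
  have hcp : CharP (AlgebraicClosure F) p :=
    charP_of_injective_algebraMap (algebraMap F (AlgebraicClosure F)).injective p
  have hbot := l2_bot_iff hC e ρ hρ hρe
  obtain ⟨c, -, hc⟩ := H830.Sl2Form.scalar_t ρ (hρ ▸ hC.absIrred)
  refine ⟨orderOf ζ, f, orderOf_dvd_of_pow_eq_one h2, not_dvd_orderOf p (Nat.succ_pos _) h2, ?_, ?_, ?_, ?_, ?_, hf0, hf,
    ?_⟩
  · intro hm
    have h8 : (ζ - 1) * (ζ + 1) = 0 := by
      have h9 := pow_orderOf_eq_one ζ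
      rw [hm] at h9
      linear_combination h9
    have hodd : Odd (Fintype.card K) := by
      have h9 : 2 ∣ Fintype.card K + 1 := by
        rw [← hm]
        exact orderOf_dvd_of_pow_eq_one h2
      rw [Nat.odd_iff]
      omega
    rcases mul_eq_zero.1 h8 with h9 | h9
    · rw [sub_eq_zero.1 h9, orderOf_one] at hm
      omega
    · exact h3 hodd (by linear_combination h9)
  · intro hm
    exact h4 (orderOf_eq_one_iff.1 hm)
  · intro hodd hp2 hm
    subst hp2
    apply h3 hodd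
    rw [orderOf_eq_one_iff.1 hm]
    have h8 : (2 : AlgebraicClosure F) = 0 := by
      exact_mod_cast CharP.cast_eq_zero (AlgebraicClosure F) 2
    linear_combination h8
  · intro hodd
    rw [hbot, scalar_iff hC hc, orderOf_dvd_iff_pow_eq_one, ← h6 hodd c hc]
    exact ((map_eq_one_iff _ (algebraMap F (AlgebraicClosure F)).injective)).symm
  · intro hodd
    rw [hbot, t_neg_one_of_even hodd, map_one]
  · intro e
    rw [← hf1, h7, orderOf_iff p h1]

/-- **Degree `q + 1`.** -/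
theorem l2_prin (hC : Core P) (h5 : 5 ≤ Fintype.card K) (h9 : Fintype.card K ≠ 9) (hpK : ¬ p ∣ Fintype.card K)
    (e : Soc P ≃* ProjectiveSpecialLinearGroup (Fin 2) K) (hn : Fintype.card ι = Fintype.card K + 1) :
    ∃ m f : ℕ, m ∣ Fintype.card K - 1 ∧ ¬ p ∣ m ∧ 3 ≤ m ∧
      (Odd (Fintype.card K) → ((scalars ι F).subgroupOf P = ⊥ ↔ m ∣ (Fintype.card K - 1) / 2)) ∧
      (¬ Odd (Fintype.card K) → (scalars ι F).subgroupOf P = ⊥) ∧
      0 < f ∧ Fintype.card F = p ^ f ∧ ∀ e : ℕ, f ∣ e ↔ (m ∣ p ^ e - 1 ∨ m ∣ p ^ e + 1) := by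
  classical
  obtain ⟨ρ, hρ, hρe⟩ := l2_rep hC h5 h9 e
  obtain ⟨a₀, hg⟩ := exists_GenS K
  obtain ⟨ζ, h1, h2, h3, h6, -, -, -, h7⟩ := prin_field p hC ρ hρ hpK (by omega) hn hg
  obtain ⟨f, hf0, hf, hf1⟩ := card_field p hC
  have hcp : CharP (AlgebraicClosure F) p :=
    charP_of_injective_algebraMap (algebraMap F (AlgebraicClosure F)).injective p
  have hbot := l2_bot_iff hC e ρ hρ hρe
  obtain ⟨c, -, hc⟩ := H830.Sl2Form.scalar_t ρ (hρ ▸ hC.absIrred)
  have hpos : 0 < Fintype.card K - 1 := by omega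
  refine ⟨orderOf ζ, f, orderOf_dvd_of_pow_eq_one h2, not_dvd_orderOf p hpos h2, ?_, ?_, ?_, hf0, hf, ?_⟩
  · by_contra hlt
    push Not at hlt
    apply h3
    have h8 : 0 < orderOf ζ := orderOf_pos_iff.2 (isOfFinOrder_iff_pow_eq_one.2 ⟨_, hpos, h2⟩)
    have h10 : orderOf ζ = 1 ∨ orderOf ζ = 2 := by omega
    rcases h10 with h | h
    · rw [orderOf_eq_one_iff.1 h, one_pow]
    · rw [← h, pow_orderOf_eq_one]
  · intro hodd
    rw [hbot, scalar_iff hC hc, orderOf_dvd_iff_pow_eq_one, ← h6 hodd c hc]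
    exact ((map_eq_one_iff _ (algebraMap F (AlgebraicClosure F)).injective)).symm
  · intro hodd
    rw [hbot, t_neg_one_of_even hodd, map_one]
  · intro e
    rw [← hf1, h7, orderOf_iff p h1]

/-- **Degree `q`.** -/
theorem l2_stein (hC : Core P) (h5 : 5 ≤ Fintype.card K) (h9 : Fintype.card K ≠ 9) (hpK : ¬ p ∣ Fintype.card K)
    (e : Soc P ≃* ProjectiveSpecialLinearGroup (Fin 2) K) (hn : Fintype.card ι = Fintype.card K) :
    ¬ p ∣ Fintype.card K + 1 ∧ (scalars ι F).subgroupOf P = ⊥ ∧ Fintype.card F = p := by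
  classical
  obtain ⟨ρ, hρ, hρe⟩ := l2_rep hC h5 h9 e
  obtain ⟨h1, h2, -, -, -, h6⟩ := stein_field p hC ρ hρ hpK (by omega) hn
  have hbot := l2_bot_iff hC e ρ hρ hρe
  obtain ⟨c, -, hc⟩ := H830.Sl2Form.scalar_t ρ (hρ ▸ hC.absIrred)
  refine ⟨h1, ?_, hC.card_eq p h6⟩
  rw [hbot, scalar_iff hC hc]
  exact h2 c hc

theorem eta_eq_one_iff [DecidableEq K] (h2 : (2 : F) ≠ 0) {a : K} (ha : a ≠ 0) : eta F a = 1 ↔ IsSquare a := by
  constructor
  · intro h
    by_contra h3
    rw [eta_nonsquare h3] at h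
    apply h2
    linear_combination -h
  · intro h
    exact eta_of_sq h ha

/-- **Degree `(q ± 1) / 2`.** -/
theorem l2_half (hC : Core P) (h5 : 5 ≤ Fintype.card K) (h9 : Fintype.card K ≠ 9) (hpK : ¬ p ∣ Fintype.card K)
    (e : Soc P ≃* ProjectiveSpecialLinearGroup (Fin 2) K)
    (hn : 2 * Fintype.card ι + 1 = Fintype.card K ∨ 2 * Fintype.card ι = Fintype.card K + 1) :
    (2 * Fintype.card ι = Fintype.card K + 1 → p ≠ 2 ∧
      ((scalars ι F).subgroupOf P = ⊥ ↔ Fintype.card K % 4 = 1)) ∧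
    (2 * Fintype.card ι + 1 = Fintype.card K →
      ((scalars ι F).subgroupOf P = ⊥ ↔ p = 2 ∨ Fintype.card K % 4 = 3)) ∧
    ((IsSquare (p : K) ∧ Fintype.card F = p ∧ Fr P p) ∨ (¬ IsSquare (p : K) ∧ Fintype.card F = p ^ 2 ∧ ¬ Fr P p)) ∧
    (Fintype.card K % 4 = 3 → ¬ IsSquare (p : K) → Cj P p) ∧
    (SD P ↔ Fintype.card K % 4 = 1) := by
  classical
  obtain ⟨ρ, hρ, hρe⟩ := l2_rep hC h5 h9 e
  obtain ⟨h1, h2, -, h3, h4, h6⟩ := half_field p hC ρ hρ hpK h5 hn
  have hbot := l2_bot_iff hC e ρ hρ hρe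
  obtain ⟨c, hc1, hc⟩ := H830.Sl2Form.scalar_t ρ (hρ ▸ hC.absIrred)
  have hp2 : p ≠ 2 → (2 : F) ≠ 0 := by
    intro h h0
    have h3 : ((2 : ℕ) : F) = 0 := by exact_mod_cast h0
    rw [CharP.cast_eq_zero_iff F p] at h3
    exact h ((Nat.prime_dvd_prime_iff_eq hp.out Nat.prime_two).1 h3)
  have hm1 : (-1 : K) ≠ 0 := neg_ne_zero.2 one_ne_zero
  have hodd : Fintype.card K % 2 = 1 := by omega
  have hsq1 : IsSquare (-1 : K) ↔ Fintype.card K % 4 = 1 := by
    rw [FiniteField.isSquare_neg_one_iff]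
    omega
  have hpK0 : (p : K) ≠ 0 := frob_natCast_ne_zero (F := F) (card_cast_ne p hpK)
  refine ⟨?_, ?_, ?_, ?_, h6⟩
  · intro h
    obtain ⟨h7, h8, -⟩ := h1 h
    refine ⟨h7, ?_⟩
    rw [hbot, scalar_iff hC hc, h8 c hc, eta_eq_one_iff (hp2 h7) hm1, hsq1]
  · intro h
    obtain ⟨h8, -⟩ := h2 h
    rw [hbot, scalar_iff hC hc]
    by_cases h7 : p = 2
    · subst h7
      have h10 : (2 : F) = 0 := by exact_mod_cast CharP.cast_eq_zero F 2
      have h11 : c = 1 := by
        rcases hc1 with h12 | h12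
        · exact h12
        · rw [h12]
          linear_combination -h10
      exact ⟨fun _ => Or.inl rfl, fun _ => h11⟩
    · rw [h8 c hc]
      by_cases h10 : IsSquare (-1 : K)
      · rw [eta_of_sq h10 hm1]
        constructor
        · intro h11
          exfalso
          apply hp2 h7
          linear_combination -h11
        · rintro (h11 | h11)
          · exact absurd h11 h7
          · rw [hsq1] at h10
            omega
      · rw [eta_nonsquare h10, neg_neg]
        have h11 : Fintype.card K % 4 = 3 := by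
          rw [hsq1] at h10
          omega
        exact ⟨fun _ => Or.inr h11, fun _ => rfl⟩
  · obtain ⟨f, hf0, hf, hf1⟩ := card_field p hC
    have h7 : f ∣ 2 := by
      rw [← hf1, h3]
      exact ⟨p, by ring⟩
    have h8 : f ∣ 1 ↔ IsSquare (p : K) := by
      rw [← hf1, h3, pow_one]
    have hFr : Fr P p ↔ IsSquare (p : K) := by
      have := h3 1
      rwa [pow_one, pow_one] at this
    by_cases h10 : IsSquare (p : K)
    · left
      have h11 := Nat.dvd_one.1 (h8.2 h10)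
      refine ⟨h10, ?_, hFr.2 h10⟩
      rw [hf, h11, pow_one]
    · right
      have h11 : f = 2 := by
        have h12 := Nat.le_of_dvd (by norm_num) h7
        have h13 : f ≠ 1 := by
          rintro rfl
          exact h10 (h8.1 dvd_rfl)
        omega
      refine ⟨h10, ?_, fun h => h10 (hFr.1 h)⟩
      rw [hf, h11]
  · intro h7 h8
    have h10 := h4 1
    rw [pow_one, pow_one] at h10
    rw [h10]
    have h11 : ¬ IsSquare (-1 : K) := by
      rw [hsq1]
      omega
    rw [← quadraticChar_neg_one_iff_not_isSquare] at h8 h11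
    rw [← quadraticChar_one_iff_isSquare (neg_ne_zero.2 hpK0), ← neg_one_mul, map_mul, h8, h11]
    norm_num

end finite

end Cfsg.Agent.H464.Sl2
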