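import Mathlib
import Cfsg.Agent.H464.PermIrr
import Cfsg.Agent.StandardComponent.AltAut
import Cfsg.Agent.H681.DegBasic
import Cfsg.Agent.H691.Defs

/-!
# Characters of groups with a normal alternating subgroup (helper464; task 148)
-/

set_option autoImplicit false
set_option linter.unusedSectionVars false

namespace Cfsg.Agent.H464.AltExt

open Cfsg Cfsg.Agent.Characters.Core MulAction Equiv Cfsg.Agent.H464.PermIrr
open scoped Pointwise

/-- The action on the points. -/
theorem exists_act {A : Type*} [Group A] (S : Subgroup A) [S.Normal] {n : ℕ} (hn : 7 ≤ n)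
    (e : S ≃* alternatingGroup (Fin n)) : ∃ φ : A →* Perm (Fin n), ∀ s : S, φ s = (e s : Perm (Fin n)) := by
  obtain ⟨ψ, hψ⟩ := Cfsg.Agent.StandardComponent.AltAut.exists_autHom n hn
  refine ⟨ψ.comp ((MulAut.congr e).toMonoidHom.comp MulAut.conjNormal), fun s => ?_⟩
  obtain ⟨m, rfl⟩ : ∃ m, n = m + 2 := ⟨n - 2, by omega⟩
  apply Cfsg.Agent.StandardComponent.AltAut.conj_unique (m := m) (by omega)
  intro x
  have h1 := hψ (((MulAut.congr e).toMonoidHom.comp MulAut.conjNormal) (s : A)) x
  rw [MonoidHom.comp_apply ψ, ← h1]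
  have h2 : (((MulAut.congr e).toMonoidHom.comp MulAut.conjNormal) (s : A)) x = e s * x * (e s)⁻¹ := by
    change e (MulAut.conjNormal (s : A) (e.symm x)) = _
    have h3 : (MulAut.conjNormal (s : A) (e.symm x) : S) = s * e.symm x * s⁻¹ := by
      apply Subtype.ext
      rw [MulAut.conjNormal_apply]
      rfl
    rw [h3, map_mul, map_mul, map_inv, MulEquiv.apply_symm_apply]
  rw [h2]
  rfl

/-- A group acting on `n` points and inducing at least the alternating group is fourfold transitive. -/
theorem four_of_range {G : Type*} [Group G] {n : ℕ} (hn : 6 ≤ n) (φ : G →* Perm (Fin n))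
    (h : alternatingGroup (Fin n) ≤ φ.range) :
    letI := MulAction.compHom (Fin n) φ
    IsMultiplyPretransitive G (Fin n) 4 := by
  let _ := MulAction.compHom (Fin n) φ
  have h1 : IsMultiplyPretransitive (alternatingGroup (Fin n)) (Fin n) (Nat.card (Fin n) - 2) :=
    alternatingGroup.isMultiplyPretransitive (Fin n)
  have h2 : IsMultiplyPretransitive (alternatingGroup (Fin n)) (Fin n) 4 :=
    isMultiplyPretransitive_of_le (n := Nat.card (Fin n) - 2) (by simp; omega) (by simp)
  rw [isMultiplyPretransitive_iff] at h2 ⊢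
  intro x y
  obtain ⟨g, hg⟩ := h2 x y
  obtain ⟨g', hg'⟩ := h g.2
  refine ⟨g', ?_⟩
  rw [← hg]
  apply Function.Embedding.ext
  intro i
  rw [Function.Embedding.smul_apply, Function.Embedding.smul_apply]
  change (φ g') (x i) = (g : Perm (Fin n)) (x i)
  rw [hg']

section Main

variable {G : Type*} [Group G] [Finite G] {n : ℕ} (φ : G →* Perm (Fin n))

/-- The reduced permutation character on the points. -/
noncomputable def chi1 : G → ℂ := fun g => (Nat.card {i // φ g i = i} : ℂ) - 1

/-- The character of degree `n (n - 3) / 2`. -/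
noncomputable def chi2 : G → ℂ := fun g =>
  (Nat.card {s : Set.powersetCard (Fin n) 2 // (s : Finset (Fin n)).image (φ g) = s} : ℂ) -
    (Nat.card {i // φ g i = i} : ℂ)

theorem chi1_one : chi1 φ 1 = (n : ℂ) - 1 := by
  have h : Nat.card {i : Fin n // φ 1 i = i} = n := by
    rw [map_one]
    simp
  rw [chi1, h]

theorem chi2_one : chi2 φ 1 = ((n.choose 2 : ℕ) : ℂ) - n := by
  have h : Nat.card {i : Fin n // φ 1 i = i} = n := by
    rw [map_one]
    simp
  have h2 : Nat.card {s : Set.powersetCard (Fin n) 2 // (s : Finset (Fin n)).image (φ 1) = s} = n.choose 2 := by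
    rw [map_one]
    have h3 : ∀ s : Set.powersetCard (Fin n) 2, (s : Finset (Fin n)).image (1 : Perm (Fin n)) = s := by
      intro s
      simp
    rw [Nat.card_congr (Equiv.subtypeUnivEquiv h3), Set.powersetCard.card, Nat.card_eq_fintype_card,
      Fintype.card_fin]
  rw [chi2, h, h2]

variable (hn : 6 ≤ n) (h : alternatingGroup (Fin n) ≤ φ.range)

include hn h

theorem chi1_irr : IsIrrCharacter G (chi1 φ) := by
  let _ := MulAction.compHom (Fin n) φ
  have h4 : IsMultiplyPretransitive G (Fin n) 4 := four_of_range hn φ h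
  exact irr_points G (Ω := Fin n) (by simp; omega)

theorem chi2_irr : IsIrrCharacter G (chi2 φ) := by
  let _ := MulAction.compHom (Fin n) φ
  have h4 : IsMultiplyPretransitive G (Fin n) 4 := four_of_range hn φ h
  have h5 := irr_pairs G (Ω := Fin n) (by simp; omega) (by simp; omega)
  have h6 : pc G (Set.powersetCard (Fin n) 2) - pc G (Fin n) = chi2 φ := by
    funext g
    rw [Pi.sub_apply, pc, pc, chi2]
    congr 2
    apply Nat.card_congr
    refine Equiv.subtypeEquivRight fun s => ?_
    rw [mem_fixedBy]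
    constructor
    · intro h
      exact congrArg (fun s : Set.powersetCard (Fin n) 2 => (s : Finset (Fin n))) h
    · intro h
      exact Subtype.ext h
  rwa [h6] at h5

end Main

/-- An irreducible character of degree `n - 1` which stays irreducible on the alternating group. -/
theorem alt_ext {A : Type*} [Group A] [Finite A] (S : Subgroup A) [S.Normal] {n : ℕ} (hn : 7 ≤ n)
    (e : S ≃* alternatingGroup (Fin n)) : ∃ χ : A → ℂ, IsIrrCharacter A χ ∧ IsIrrCharacter S (fun s : S => χ s) ∧
      χ 1 = ((n - 1 : ℕ) : ℂ) := by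
  obtain ⟨φ, hφ⟩ := exists_act S hn e
  have h1 : alternatingGroup (Fin n) ≤ (φ.comp S.subtype).range := by
    intro g hg
    refine ⟨e.symm ⟨g, hg⟩, ?_⟩
    change φ ((e.symm ⟨g, hg⟩ : S) : A) = g
    rw [hφ, MulEquiv.apply_symm_apply]
  have h2 : alternatingGroup (Fin n) ≤ φ.range := by
    intro g hg
    obtain ⟨s, hs⟩ := h1 hg
    exact ⟨s, hs⟩
  refine ⟨chi1 φ, chi1_irr φ (by omega) h2, chi1_irr (φ.comp S.subtype) (by omega) h1, ?_⟩
  rw [chi1_one, Nat.cast_sub (by omega), Nat.cast_one]

open Cfsg.Agent.H691 in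
theorem alt_false {A : Type*} [Group A] [Finite A] {S : Subgroup A} (h : Cfsg.Agent.H691.AS A S) {n : ℕ} (hn : 7 ≤ n)
    (e : S ≃* alternatingGroup (Fin n)) {p F : ℕ} (hp : p.Prime) (h5 : 5 ≤ p ^ F) (hpS : p ∣ Nat.card S)
    (hD : charDegrees A ⊆ Cfsg.Agent.H691.DS (p ^ F)) : False := by
  have := h.normal
  obtain ⟨φ, hφ⟩ := exists_act S hn e
  have h2 : alternatingGroup (Fin n) ≤ φ.range := by
    intro g hg
    refine ⟨e.symm ⟨g, hg⟩, ?_⟩
    rw [hφ, MulEquiv.apply_symm_apply]
  have h3 : n - 1 ∈ charDegrees A := by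
    refine Cfsg.Agent.H681.DegBasic.mem_charDegrees.2 ⟨_, chi1_irr φ (by omega) h2, ?_⟩
    rw [chi1_one, Nat.cast_sub (by omega), Nat.cast_one]
  have hle : n ≤ n.choose 2 := by
    rw [Nat.choose_two_right, Nat.le_div_iff_mul_le (by norm_num)]
    exact Nat.mul_le_mul_left n (by omega)
  have h4 : n.choose 2 - n ∈ charDegrees A := by
    refine Cfsg.Agent.H681.DegBasic.mem_charDegrees.2 ⟨_, chi2_irr φ (by omega) h2, ?_⟩
    rw [chi2_one, Nat.cast_sub hle]
  have h6 := hD h3
  have h7 := hD h4
  set q := p ^ F with hq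
  simp only [DS, Set.mem_ofPred_eq] at h6 h7
  rcases Nat.lt_or_ge n 9 with h9 | h9
  · interval_cases n
    · -- `n = 7`
      have hc : Nat.choose 7 2 = 21 := by decide
      rw [hc] at h7
      have hq13 : q = 13 := by omega
      have hpd : p ∣ 13 := by
        rw [← hq13, hq]
        exact dvd_pow_self p (by intro h0; rw [hq, h0, pow_zero] at h5; omega)
      have hp13 : p = 13 := (Nat.prime_dvd_prime_iff_eq hp (by norm_num)).1 hpd
      rw [hp13, Nat.card_congr e.toEquiv] at hpS
      have hcard : 2 * Nat.card (alternatingGroup (Fin 7)) = 5040 := by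
        rw [two_mul_nat_card_alternatingGroup, Nat.card_perm, Nat.card_eq_fintype_card, Fintype.card_fin]
        rfl
      have : Nat.card (alternatingGroup (Fin 7)) = 2520 := by omega
      rw [this] at hpS
      norm_num at hpS
    · have hc : Nat.choose 8 2 = 28 := by decide
      rw [hc] at h7
      omega
  · have hc : 2 * n.choose 2 = n * (n - 1) := by
      rw [Nat.choose_two_right]
      exact Nat.mul_div_cancel' (Nat.even_mul_pred_self n).two_dvd
    obtain ⟨m, rfl⟩ : ∃ m, n = m + 9 := ⟨n - 9, by omega⟩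
    have h10 : 2 * (m + 9).choose 2 = (m + 9) * (m + 8) := hc
    have h11 : 3 * (m + 8) < (m + 9).choose 2 - (m + 9) := by
      have : 2 * (3 * (m + 8) + (m + 9)) < 2 * (m + 9).choose 2 := by
        rw [h10]
        nlinarith
      omega
    omega

end Cfsg.Agent.H464.AltExt
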