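import Mathlib

/-!
# The trace of a matrix of finite order over a field of characteristic `p` is the trace of its `p`-regular part
(helper464; task 85 of the task market)
-/

set_option autoImplicit false
set_option linter.unusedSectionVars false

namespace Cfsg.Agent.H464.Reg

open Matrix Polynomial

variable {ι F : Type*} [Fintype ι] [DecidableEq ι] [Field F] (p : ℕ) [Fact p.Prime] [CharP F p]

theorem expand_charpoly_pow (M : Matrix ι ι F) : expand F p (M ^ p).charpoly = M.charpoly ^ p := by
  rcases isEmpty_or_nonempty ι with h | h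
  · simp [Matrix.charpoly]
  · unfold Matrix.charpoly
    have h1 : expand F p (M ^ p).charmatrix.det =
        ((expand F p : F[X] →+* F[X]).mapMatrix (charmatrix (M ^ p))).det := by
      rw [← RingHom.map_det]
      rfl
    rw [h1, ← coe_detMonoidHom, ← (detMonoidHom : Matrix ι ι F[X] →* F[X]).map_pow]
    apply congr_arg det
    refine matPolyEquiv.injective ?_
    rw [map_pow, matPolyEquiv_charmatrix, sub_pow_char_of_commute, ← C_pow]
    · exact (id (matPolyEquiv_eq_X_pow_sub_C p M) : _)
    · exact (C M).commute_X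

theorem charpoly_pow (M : Matrix ι ι F) : (M ^ p).charpoly = M.charpoly.map (frobenius F p) := by
  apply expand_injective (Fact.out : p.Prime).pos
  rw [expand_charpoly_pow, ← map_frobenius_expand, map_expand]

theorem trace_pow (M : Matrix ι ι F) : (M ^ p).trace = M.trace ^ p := by
  rcases isEmpty_or_nonempty ι with h | h
  · have h1 : ∀ N : Matrix ι ι F, N.trace = 0 := fun N => by simp [Matrix.trace]
    rw [h1, h1, zero_pow (Fact.out : p.Prime).ne_zero]
  · rw [Matrix.trace_eq_neg_charpoly_coeff, Matrix.trace_eq_neg_charpoly_coeff, charpoly_pow, coeff_map,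
      ← frobenius_def, map_neg]

theorem trace_pow_pow (M : Matrix ι ι F) (j : ℕ) : (M ^ p ^ j).trace = M.trace ^ p ^ j := by
  induction j with
  | zero => simp
  | succ j ih => rw [pow_succ, pow_mul, trace_pow, ih, pow_mul]

theorem regular_part (g : GL ι F) (hg : IsOfFinOrder g) :
    ∃ m : ℕ, (orderOf (g ^ m)).Coprime p ∧
      ∀ k : ℤ, ((g ^ k : GL ι F) : Matrix ι ι F).trace = (((g ^ m) ^ k : GL ι F) : Matrix ι ι F).trace := by
  have hp : p.Prime := Fact.out
  obtain ⟨a, o', hnd, ho'⟩ := Nat.exists_eq_pow_mul_and_not_dvd hg.orderOf_pos.ne' p hp.ne_one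
  have hcop : (p ^ a).Coprime o' := Nat.Coprime.pow_left a ((Nat.Prime.coprime_iff_not_dvd hp).2 hnd)
  obtain ⟨m, hm1, hm2⟩ := Nat.chineseRemainder hcop 0 1
  refine ⟨m, ?_, ?_⟩
  · have h1 : (g ^ m) ^ o' = 1 := by
      rw [← pow_mul, ← orderOf_dvd_iff_pow_eq_one, ho']
      exact Nat.mul_dvd_mul_right ((Nat.modEq_zero_iff_dvd).1 hm1) o'
    have h2 := orderOf_dvd_of_pow_eq_one h1
    rw [Nat.coprime_comm]
    exact (Nat.Prime.coprime_iff_not_dvd hp).2 (fun h => hnd (h.trans h2))
  · intro k
    have h1 : (g ^ k) ^ p ^ a = ((g ^ m) ^ k) ^ p ^ a := by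
      have h2 : g ^ p ^ a = (g ^ m) ^ p ^ a := by
        rw [← pow_mul, pow_eq_pow_iff_modEq, ho']
        have h3 : 1 * p ^ a ≡ m * p ^ a [MOD o' * p ^ a] := Nat.ModEq.mul_right' (p ^ a) hm2.symm
        rwa [one_mul, mul_comm o'] at h3
      have h3 : ∀ x : GL ι F, (x ^ k) ^ p ^ a = (x ^ p ^ a) ^ k := by
        intro x
        rw [← _root_.zpow_natCast, ← _root_.zpow_natCast, ← _root_.zpow_mul, ← _root_.zpow_mul, mul_comm]
      rw [h3, h3, h2]
    have h2 := congrArg (fun x : GL ι F => (x : Matrix ι ι F).trace) h1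
    simp only [Units.val_pow_eq_pow_val] at h2
    rw [trace_pow_pow p, trace_pow_pow p] at h2
    apply (frobenius_inj F p).iterate a
    rw [iterate_frobenius, iterate_frobenius]
    exact h2

end Cfsg.Agent.H464.Reg
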