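import Cfsg.Agent.H464.ExtRows
import Cfsg.Agent.H464.ExtQU
import Cfsg.Agent.H113.PSU.Chars
import Cfsg.Agent.H113.PSU.Levi

/-!
# The rank 3 characters of `PSU_n(q)`, `n ≥ 4`, extend to `Aut S` (S4832, EXT-R3, helper464)

`rk3_psu` : degrees `f`, `g` with `(q² - 1)(q + 1) f = q² uu n uu (n-3)`, `(q² - 1)(q + 1) g = q³ uu (n-1) uu (n-2)`,
`uu i = q^i - (-1)^i` (helper113's characters); `hasExt_psu_left`, `hasExt_psu_right`.
-/

set_option autoImplicit false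
set_option linter.unusedSectionVars false

open Cfsg

namespace Cfsg.Agent.H464.ExtRU

open Cfsg.Agent.H576.Ext Cfsg.Agent.H477.HC Cfsg.Agent.H477.HC.CForm
open Cfsg.Agent.LieClassical.HermBasic Cfsg.Agent.LieClassical.HermSiegel
open Cfsg.Agent.H690.Spor.RankThree Cfsg.Agent.H690.Spor.RankThree.R3
open Cfsg.Agent.H113.PSU.Points Cfsg.Agent.H113.PSU.Levi
open Cfsg.Agent.H464.ExtR3 hiding act

universe u

variable {K : Type u} [Field K] [Fintype K] {q n : ℕ}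

theorem center_smul (hF : Fintype.card K = q ^ 2) (hn : 3 ≤ n) {z : SU n K q} (hz : z ∈ Subgroup.center (SU n K q))
    (y : H113.PSU.Points.Pt n K q) : z • y = y := by
  obtain ⟨c, hc, -, hc'⟩ := Cfsg.Agent.ClassicalGeometry.PSUAutBasic.exists_scalar_of_mem_center hF hn hz
  obtain ⟨v, h0, hv, rfl⟩ := H113.PSU.Points.exists_pt y
  rw [H113.PSU.Points.smul_pt, H113.PSU.Points.pt_eq_iff]
  exact ⟨c, hc, hc' v⟩

/-- the action of `PSU` on the isotropic points -/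
@[instance_reducible]
noncomputable def actU (hF : Fintype.card K = q ^ 2) (hn : 3 ≤ n) : MulAction (PSU n K q) (H113.PSU.Points.Pt n K q) :=
  MulAction.compHom _ (QuotientGroup.lift (Subgroup.center (SU n K q))
    (MulAction.toPermHom (SU n K q) (H113.PSU.Points.Pt n K q)) (fun z hz => by
      apply Equiv.ext
      intro y
      exact center_smul hF hn hz y))

theorem actU_mk (hF : Fintype.card K = q ^ 2) (hn : 3 ≤ n) (g : SU n K q) (x : H113.PSU.Points.Pt n K q) :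
    letI := actU hF hn; (QuotientGroup.mk g : PSU n K q) • x = g • x := rfl

theorem ptS_mem {hq : Nat.card K = q ^ 2} (s : Semi (hermF K hq n)) {W : Submodule K (Fin n → K)}
    (h : ∃ v, v ≠ 0 ∧ hermForm n K q v v = 0 ∧ W = Submodule.span K {v}) :
    ∃ v, v ≠ 0 ∧ hermForm n K q v v = 0 ∧ semiMap s W = Submodule.span K {v} := by
  obtain ⟨v, h0, hv, rfl⟩ := h
  refine ⟨s.γ v, by rwa [Ne, AddEquiv.map_eq_zero_iff], ?_, semiMap_span s v⟩
  have h1 := s.hB v v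
  change hermForm n K q (s.γ v) (s.γ v) = s.lam * s.τ (hermForm n K q v v) at h1
  rw [h1, hv, map_zero, mul_zero]

/-- the permutation of the isotropic points -/
def ptS {hq : Nat.card K = q ^ 2} (s : Semi (hermF K hq n)) : Equiv.Perm (H113.PSU.Points.Pt n K q) where
  toFun x := ⟨semiMap s x.1, ptS_mem s x.2⟩
  invFun x := ⟨semiMap (symmS s) x.1, ptS_mem (symmS s) x.2⟩
  left_inv x := by
    apply Subtype.ext
    ext v
    change s.γ.symm (s.γ v) ∈ x.1 ↔ _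
    rw [s.γ.symm_apply_apply]
  right_inv x := by
    apply Subtype.ext
    ext v
    change s.γ (s.γ.symm v) ∈ x.1 ↔ _
    rw [s.γ.apply_symm_apply]

theorem ptS_val {hq : Nat.card K = q ^ 2} (s : Semi (hermF K hq n)) (x : H113.PSU.Points.Pt n K q) :
    (ptS s x).1 = semiMap s x.1 := rfl

theorem ptS_smul {hq : Nat.card K = q ^ 2} (s : Semi (hermF K hq n)) {g g' : SU n K q}
    (h : ∀ v, act g' (s.γ v) = s.γ (act g v)) (x : H113.PSU.Points.Pt n K q) : ptS s (g • x) = g' • ptS s x := by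
  apply Subtype.ext
  rw [ptS_val, H113.PSU.Points.smul_val, H113.PSU.Points.smul_val, ptS_val]
  ext w
  rw [mem_semiMap]
  constructor
  · rintro ⟨v, hv, hw⟩
    refine ⟨s.γ v, γ_mem_semiMap.2 hv, ?_⟩
    have hw' : act g v = s.γ.symm w := hw
    change act g' (s.γ v) = w
    rw [h, hw', s.γ.apply_symm_apply]
  · rintro ⟨v, hv, rfl⟩
    refine ⟨s.γ.symm v, hv, ?_⟩
    change act g (s.γ.symm v) = s.γ.symm (act g' v)
    apply s.γ.injective
    rw [← h, s.γ.apply_symm_apply, s.γ.apply_symm_apply]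

theorem ptS_rel {hq : Nat.card K = q ^ 2} (s : Semi (hermF K hq n)) (x y : H113.PSU.Points.Pt n K q) :
    H113.PSU.Points.Rel (ptS s x) (ptS s y) ↔ H113.PSU.Points.Rel x y := by
  have hB : ∀ u v, hermForm n K q (s.γ u) (s.γ v) = 0 ↔ hermForm n K q u v = 0 := fun u v => semi_B s
  unfold H113.PSU.Points.Rel
  rw [Ne, (ptS s).injective.eq_iff]
  refine and_congr Iff.rfl ⟨fun h u hu v hv => ?_, fun h u hu v hv => ?_⟩
  · exact (hB u v).1 (h _ (γ_mem_semiMap.2 hu) _ (γ_mem_semiMap.2 hv))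
  · have := h _ hu _ hv
    rw [← hB, s.γ.apply_symm_apply, s.γ.apply_symm_apply] at this
    exact this

theorem exists_tw (hF : Fintype.card K = q ^ 2) (hn : 3 ≤ n) (h32 : ¬ (n = 3 ∧ q = 2)) (α : MulAut (PSU n K q)) :
    letI := actU hF hn; ∃ σ : Equiv.Perm (H113.PSU.Points.Pt n K q), Tw α σ ∧
      ∀ x y, H113.PSU.Points.Rel (σ x) (σ y) ↔ H113.PSU.Points.Rel x y := by
  let _ := actU hF hn
  have hq : Nat.card K = q ^ 2 := by rw [Nat.card_eq_fintype_card, hF]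
  obtain ⟨A, ρ, rfl⟩ := ClassicalGeometry.PSUAutMain.exists_toAut hF hn h32 α
  refine ⟨ptS (guS hq A ρ), fun t x => ?_, ptS_rel _⟩
  obtain ⟨g, rfl⟩ := QuotientGroup.mk_surjective t
  change ptS (guS hq A ρ) (g • x) =
    (QuotientGroup.mk (ClassicalGeometry.PSUAutCount.semiConj A ρ g) : PSU n K q) • ptS (guS hq A ρ) x
  rw [actU_mk]
  exact ptS_smul _ (fun v => ClassicalGeometry.PSUAutCount.act_semiConj A ρ g v) x

instance finite_ptU : Finite (H113.PSU.Points.Pt n K q) := by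
  have : Finite (Submodule K (Fin n → K)) :=
    Finite.of_injective (fun W : Submodule K (Fin n → K) => (W : Set (Fin n → K))) SetLike.coe_injective
  exact Subtype.finite

/-- **the two characters** -/
theorem exists_chars {m : ℕ} (hF : Fintype.card K = q ^ 2) (hm : 2 ≤ m) :
    ∃ f g : ℕ, R3E (PSU (m + 2) K q) ⊤ f g ∧
      ((q : ℤ) ^ 2 - 1) * (q + 1) * f = q ^ 2 * ((q : ℤ) ^ (m + 2) - (-1) ^ m) * (q ^ (m - 1) + (-1) ^ m) ∧
      ((q : ℤ) ^ 2 - 1) * (q + 1) * g = q ^ 3 * ((q : ℤ) ^ (m + 1) + (-1) ^ m) * (q ^ m - (-1) ^ m) := by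
  classical
  have hq2 := two_le hF
  obtain ⟨b, hb0, hb, hr3', x₀, y₀, hxy, hR, hcom⟩ := H113.PSU.Points.r3 (F := K) (m := m) hF hm
  let _ := actU hF (show 3 ≤ m + 2 by omega)
  have hr3 : R3 (PSU (m + 2) K q) (H113.PSU.Points.Pt (m + 2) K q) H113.PSU.Points.Rel (q ^ 2 * b) (q ^ (2 * m + 1)) :=
    r3_of_surj (fun g : SU (m + 2) K q => (QuotientGroup.mk g : PSU (m + 2) K q)) (fun g x => rfl)
      QuotientGroup.mk_surjective hr3'
  have := Fintype.ofFinite (H113.PSU.Points.Pt (m + 2) K q)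
  obtain ⟨e, he⟩ : ∃ e : ℤ, e = (-1) ^ m := ⟨_, rfl⟩
  have hee : e * e = 1 := by rw [he, ← mul_pow]; simp
  rw [← he] at hb ⊢
  obtain ⟨Q, hQ⟩ : ∃ Q : ℤ, Q = (q : ℤ) := ⟨_, rfl⟩
  have hQ2 : 2 ≤ Q := by rw [hQ]; exact_mod_cast hq2
  obtain ⟨P, hP⟩ : ∃ P : ℤ, P = (q : ℤ) ^ (m - 1) := ⟨_, rfl⟩
  have hP0 : 0 < P := by rw [hP]; positivity
  have hm0 : (q : ℤ) ^ m = Q * P := by
    rw [hP, hQ, ← pow_succ']; congr 1; omega
  have hm1 : (q : ℤ) ^ (m + 1) = Q ^ 2 * P := by rw [pow_succ, hm0, ← hQ]; ring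
  have hm2 : (q : ℤ) ^ (m + 2) = Q ^ 3 * P := by rw [pow_succ, hm1, ← hQ]; ring
  have hl : ((q ^ (2 * m + 1) : ℕ) : ℤ) = Q ^ 3 * P ^ 2 := by
    push_cast
    have : 2 * m + 1 = m + (m + 1) := by ring
    rw [this, pow_add, hm0, hm1]; ring
  rw [hm0, ← hP, ← hQ] at hb
  have hne : e ≠ 0 := by rintro rfl; rw [zero_mul] at hee; exact zero_ne_one hee
  have hd : (e * (Q * P) - 1) - (-(e * P) - 1) ≠ 0 := by
    have : (e * (Q * P) - 1) - (-(e * P) - 1) = e * P * (Q + 1) := by ring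
    rw [this]
    exact mul_ne_zero (mul_ne_zero hne hP0.ne') (by omega)
  obtain ⟨χ₁, χ₂, f, g, hf, hg, h1, h2, h5, -⟩ := H113.PSU.Rank3.frame_exact hr3 hxy hR hcom
    (r := e * (Q * P) - 1) (s := -(e * P) - 1) (sub_ne_zero.1 hd)
    (by push_cast; rw [← hQ]; linear_combination hb - (Q * P ^ 2) * hee - hee)
    (by
      rw [hl]; push_cast; rw [← hQ]
      linear_combination (-(Q ^ 2 * b)) * hb + (Q ^ 2 * b) * hee)
  have hkl : ((q ^ 2 * b : ℕ) : ℤ) = Q ^ 2 * b := by push_cast; rw [hQ]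
  rw [hl, hkl] at h1 h2
  have hk1 : 1 < q ^ 2 * b := by nlinarith
  have hl1 : 1 < q ^ (2 * m + 1) := Nat.one_lt_pow (by omega) (by omega)
  have hA : ∀ α ∈ (⊤ : Subgroup (MulAut (PSU (m + 2) K q))), ∃ σ : Equiv.Perm (H113.PSU.Points.Pt (m + 2) K q),
      Tw α σ ∧ ∀ x y, H113.PSU.Points.Rel (σ x) (σ y) ↔ H113.PSU.Points.Rel x y := fun α _ =>
    exists_tw hF (by omega) (by omega) α
  have hZ := center_psu hF (n := m + 2) (by omega) (by omega)
  refine ⟨f, g, ⟨χ₁, χ₂, hf, hg, ?_, ?_⟩, ?_, ?_⟩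
  · exact ext_of_r3 hZ hr3 hk1 hl1 le_top hA χ₁.2 (fun {_} => (inner_ne h5).1)
  · exact ext_of_r3 hZ hr3 hk1 hl1 le_top hA χ₂.2 (fun {_} => (inner_ne h5).2)
  · rw [hm2, ← hP, ← hQ]
    apply mul_left_cancel₀ (mul_ne_zero hne hP0.ne')
    linear_combination (Q ^ 2 - 1) * h1 + (e * P * Q ^ 2) * hb + (P ^ 2 * (Q ^ 3 - Q ^ 5)) * hee
  · rw [hm1, hm0, ← hQ]
    apply mul_left_cancel₀ (mul_ne_zero hne hP0.ne')
    linear_combination (Q ^ 2 - 1) * h2 + (e * P * Q ^ 3) * hb + (P ^ 2 * (Q ^ 5 - Q ^ 3)) * hee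

/-- **`PSU_n(q)`, `n ≥ 4`** -/
theorem rk3_psu (hF : Fintype.card K = q ^ 2) (hn : 4 ≤ n) :
    ∃ f g : ℕ, R3E (PSU n K q) ⊤ f g ∧
      (q ^ 2 - 1) * (q + 1) * f = q ^ 2 * uu q n * uu q (n - 3) ∧
      (q ^ 2 - 1) * (q + 1) * g = q ^ 3 * uu q (n - 1) * uu q (n - 2) := by
  have hq2 := LieClassical.HermBasic.two_le hF
  obtain ⟨m, rfl⟩ : ∃ m, n = m + 1 + 2 := ⟨n - 3, by omega⟩
  obtain ⟨f, g, h1, hf, hg⟩ := exists_chars (K := K) (q := q) (m := m + 1) hF (by omega)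
  have hqq : 1 ≤ q ^ 2 := Nat.one_le_pow _ _ (by omega)
  refine ⟨f, g, h1, ?_, ?_⟩
  · have h2 : (((q ^ 2 - 1) * (q + 1) * f : ℕ) : ℤ) = ((q ^ 2 * uu q (m + 1 + 2) * uu q (m + 1 + 2 - 3) : ℕ) : ℤ) := by
      have e2 : m + 1 + 2 - 3 = m := by omega
      rw [e2]
      push_cast [Nat.cast_sub hqq]
      rw [uu_cast (by omega), uu_cast (by omega), hf]
      have e3 : m + 1 - 1 = m := by omega
      rw [e3]
      ring
    exact_mod_cast h2
  · have h2 : (((q ^ 2 - 1) * (q + 1) * g : ℕ) : ℤ) =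
        ((q ^ 3 * uu q (m + 1 + 2 - 1) * uu q (m + 1 + 2 - 2) : ℕ) : ℤ) := by
      have e1 : m + 1 + 2 - 1 = m + 1 + 1 := by omega
      have e2 : m + 1 + 2 - 2 = m + 1 := by omega
      rw [e1, e2]
      push_cast [Nat.cast_sub hqq]
      rw [uu_cast (by omega), uu_cast (by omega), hg]
      ring
    exact_mod_cast h2

theorem hasExt_psu_left (hF : Fintype.card K = q ^ 2) (hn : 4 ≤ n) {f p : ℕ}
    (hf : (q ^ 2 - 1) * (q + 1) * f = q ^ 2 * uu q n * uu q (n - 3)) (hp : p ∣ f) : HasExt p (PSU n K q) := by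
  have hq2 := LieClassical.HermBasic.two_le hF
  obtain ⟨f', g', h1, hf', -⟩ := rk3_psu hF hn
  have h4 : 4 ≤ q ^ 2 := by nlinarith
  have h0 : 0 < (q ^ 2 - 1) * (q + 1) := Nat.mul_pos (by omega) (by omega)
  have : f = f' := Nat.eq_of_mul_eq_mul_left h0 (hf.trans hf'.symm)
  subst this
  exact h1.hasExt_left hp

theorem hasExt_psu_right (hF : Fintype.card K = q ^ 2) (hn : 4 ≤ n) {g p : ℕ}
    (hg : (q ^ 2 - 1) * (q + 1) * g = q ^ 3 * uu q (n - 1) * uu q (n - 2)) (hp : p ∣ g) : HasExt p (PSU n K q) := by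
  have hq2 := LieClassical.HermBasic.two_le hF
  obtain ⟨f', g', h1, -, hg'⟩ := rk3_psu hF hn
  have h4 : 4 ≤ q ^ 2 := by nlinarith
  have h0 : 0 < (q ^ 2 - 1) * (q + 1) := Nat.mul_pos (by omega) (by omega)
  have : g = g' := Nat.eq_of_mul_eq_mul_left h0 (hg.trans hg'.symm)
  subst this
  exact h1.hasExt_right hp

end Cfsg.Agent.H464.ExtRU
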