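import Mathlib
import Cfsg.Agent.H672.SL2Graph
import Cfsg.Agent.S2300
import Cfsg.Agent.H691.Defs
import Cfsg.Agent.ClassicalGeometry.PSL2Basic
import Cfsg.Agent.SporadicA.M11CharSimple
import Cfsg.Agent.TwoFusion.SLTwoFacts

/-!
# Character degrees of `PSL₂(q)` (helper464; task 149)
-/

set_option autoImplicit false
set_option linter.unusedSectionVars false

namespace Cfsg.Agent.H464.PslDeg

open Cfsg Cfsg.Agent.Characters.Core Cfsg.Agent.H681.DegBasic Cfsg.Agent.H672.SL2Graph Cfsg.Agent.H984.SLTwo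

section

variable {F : Type*} [Field F] [Fintype F]

/-- In characteristic two the degrees of `SL₂` are the degrees of `PSL₂`. -/
theorem mem_psl_two (h2 : ringChar F = 2) {n : ℕ} (h : n ∈ charDegrees (Matrix.SpecialLinearGroup (Fin 2) F)) :
    n ∈ charDegrees (Matrix.ProjectiveSpecialLinearGroup (Fin 2) F) := by
  classical
  obtain ⟨χ, hχ, hn⟩ := mem_charDegrees.1 h
  have hc : CharP F 2 := h2 ▸ ringChar.charP F
  have hz : (z0 : Matrix.SpecialLinearGroup (Fin 2) F) = 1 := by
    have h1 : (-1 : Fˣ) = 1 := by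
      apply Units.ext
      rw [Units.val_neg, Units.val_one]
      exact CharTwo.neg_eq 1
    rw [z0, h1, upp_one_zero]
  exact mem_psl hχ (by rw [hz]) hn

theorem psl_degrees (h7 : 7 ≤ Fintype.card F) :
    Fintype.card F + 1 ∈ charDegrees (Matrix.ProjectiveSpecialLinearGroup (Fin 2) F) ∧
    Fintype.card F - 1 ∈ charDegrees (Matrix.ProjectiveSpecialLinearGroup (Fin 2) F) := by
  classical
  by_cases h2 : ringChar F = 2
  · have hc : CharP F 2 := h2 ▸ ringChar.charP F
    obtain ⟨-, h⟩ := Cfsg.Agent.S2300.result (F := F)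
    obtain ⟨-, -, h3, h4⟩ := h (by omega)
    constructor
    · apply mem_psl_two h2
      have h5 : Nat.card {χ : Cfsg.IrrCharacter (Matrix.SpecialLinearGroup (Fin 2) F) //
          (χ : Matrix.SpecialLinearGroup (Fin 2) F → ℂ) 1 = (Fintype.card F : ℂ) + 1} ≠ 0 := by
        rw [h3]; omega
      obtain ⟨⟨χ, hχ⟩⟩ := (Nat.card_ne_zero.1 h5).1
      exact mem_charDegrees.2 ⟨χ, χ.2, by rw [hχ]; push_cast; rfl⟩
    · apply mem_psl_two h2
      have h5 : Nat.card {χ : Cfsg.IrrCharacter (Matrix.SpecialLinearGroup (Fin 2) F) //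
          (χ : Matrix.SpecialLinearGroup (Fin 2) F → ℂ) 1 = (Fintype.card F : ℂ) - 1} ≠ 0 := by
        rw [h4]; omega
      obtain ⟨⟨χ, hχ⟩⟩ := (Nat.card_ne_zero.1 h5).1
      exact mem_charDegrees.2 ⟨χ, χ.2, by rw [hχ, Nat.cast_sub (by omega), Nat.cast_one]⟩
  · exact (Cfsg.Agent.H672.SL2Graph.psl_degrees h2 rfl (by omega)).2

theorem psl_four_five (h5 : Fintype.card F = 5) :
    4 ∈ charDegrees (Matrix.ProjectiveSpecialLinearGroup (Fin 2) F) ∧
      5 ∈ charDegrees (Matrix.ProjectiveSpecialLinearGroup (Fin 2) F) := by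
  classical
  have h2 : ringChar F ≠ 2 := by
    intro h
    have h3 := FiniteField.even_card_iff_char_two.1 h
    omega
  have hone : (1 : MulChar F ℂ) (-1) = 1 := MulChar.one_apply (IsUnit.neg isUnit_one)
  have hRz : ∀ α : MulChar F ℂ, α (-1) = 1 → (R α : Matrix.SpecialLinearGroup (Fin 2) F → ℂ) z0 = (5 : ℂ) + 1 := by
    intro α hα
    have h := R_upp_zero α (neg_one_inv (F := F))
    rw [Units.val_neg, Units.val_one, hα, h5, mul_one] at h
    exact_mod_cast h
  have hR1 : ∀ α : MulChar F ℂ, (R α : Matrix.SpecialLinearGroup (Fin 2) F → ℂ) 1 = (5 : ℂ) + 1 := by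
    intro α
    have h := R_upp_zero α (inv_one : (1 : Fˣ)⁻¹ = 1)
    rw [upp_one_zero, Units.val_one, map_one, h5, mul_one] at h
    exact_mod_cast h
  constructor
  · obtain ⟨g, hg⟩ := exists_ell (F := F)
    have : IsCyclic (Subgroup.centralizer ({g} : Set (Matrix.SpecialLinearGroup (Fin 2) F))) := isCyclic_cent g hg
    obtain ⟨θ, h3, h4⟩ := exists_hom (C := Subgroup.centralizer ({g} : Set (Matrix.SpecialLinearGroup (Fin 2) F))) (by
      rw [card_cent_ell g hg, h5]; omega) (z := ⟨z0, z0_mem g⟩) (Subtype.ext z0_mul_self)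
    have hpar : (1 : MulChar F ℂ) (-1) = (θ ⟨z0, z0_mem g⟩ : ℂ) := by
      rw [h3, Units.val_one]; exact hone
    refine mem_psl (isIrr_X h2 hg hpar h4) ?_ ?_
    · rw [X_z0 hg hpar, X_one hg, hone, mul_one]
    · rw [X_one hg, h5]; norm_num
  · -- the Steinberg character
    have hSt : IsIrrCharacter (Matrix.SpecialLinearGroup (Fin 2) F) (fun x => R (1 : MulChar F ℂ) x - 1) := by
      have hc := isCharacter_R (1 : MulChar F ℂ)
      have h1 : (fun x => R (1 : MulChar F ℂ) x - 1 : Matrix.SpecialLinearGroup (Fin 2) F → ℂ) =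
        R (1 : MulChar F ℂ) - 1 := rfl
      rw [h1]
      have hRR : classInner (R (1 : MulChar F ℂ)) (R (1 : MulChar F ℂ)) = 2 := by
        rw [classInner_R_R, if_pos rfl, if_pos (by simp)]; norm_num
      have hR : classInner (R (1 : MulChar F ℂ)) (1 : Matrix.SpecialLinearGroup (Fin 2) F → ℂ) = 1 :=
        classInner_R_one_one
      have hR' : classInner (1 : Matrix.SpecialLinearGroup (Fin 2) F → ℂ) (R (1 : MulChar F ℂ)) = 1 := by
        rw [← classInner_conj_symm, hR, map_one]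
      have h11 : classInner (1 : Matrix.SpecialLinearGroup (Fin 2) F → ℂ) 1 = 1 := classInner_irr_self isIrr_one
      have hself : classInner (R (1 : MulChar F ℂ) - 1 : Matrix.SpecialLinearGroup (Fin 2) F → ℂ)
          (R (1 : MulChar F ℂ) - 1) = 1 := by
        simp only [classInner_sub_left, classInner_sub_right, hRR, hR, hR', h11]
        norm_num
      rcases isIrr_of_generalized (G := Matrix.SpecialLinearGroup (Fin 2) F) (χ := R (1 : MulChar F ℂ) - 1)
        ⟨R 1, 1, hc, isIrr_isCharacter isIrr_one, rfl⟩ hself with h | h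
      · exact h
      · exfalso
        obtain ⟨n, hn, hn'⟩ := isIrr_apply_one h
        rw [Pi.neg_apply, Pi.sub_apply, hR1, Pi.one_apply] at hn'
        have h3 : (5 + n : ℕ) = 0 := by
          have : ((5 : ℂ)) + n = 0 := by rw [← hn']; ring
          exact_mod_cast this
        omega
    refine mem_psl hSt ?_ ?_
    · change R (1 : MulChar F ℂ) z0 - 1 = R (1 : MulChar F ℂ) 1 - 1
      rw [hRz 1 hone, hR1]
    · change R (1 : MulChar F ℂ) 1 - 1 = _
      rw [hR1]; norm_num

theorem psl_five (h5 : Fintype.card F = 5) : 3 ∈ charDegrees (Matrix.ProjectiveSpecialLinearGroup (Fin 2) F) ∧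
    4 ∈ charDegrees (Matrix.ProjectiveSpecialLinearGroup (Fin 2) F) ∧
      5 ∈ charDegrees (Matrix.ProjectiveSpecialLinearGroup (Fin 2) F) := by
  classical
  refine ⟨?_, psl_four_five h5⟩
  obtain ⟨h4, h5'⟩ := psl_four_five h5
  set G := Matrix.ProjectiveSpecialLinearGroup (Fin 2) F with hG
  have hcard : Nat.card G = 60 := by
    have h1 := Cfsg.Agent.ClassicalGeometry.PSL2Basic.card_PSL2_odd (F := F) (by rw [h5]; decide)
    rw [h5] at h1
    have h2 : Nat.card G * 2 = 5 * (5 ^ 2 - 1) := h1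
    omega
  have hsimple : IsSimpleGroup G := Cfsg.Agent.TwoFusion.SLTwoFacts.isSimpleGroup_psl (by omega)
  have hfin : Finite (IrrCharacter G) := finite_irr
  have := Fintype.ofFinite (IrrCharacter G)
  have hdeg : ∀ χ : IrrCharacter G, (χ : G → ℂ) 1 = (charDegree (χ : G → ℂ) : ℂ) :=
    fun χ => Cfsg.Agent.Blocks.Basic.irr_one_eq_charDegree χ.2
  have hsq : ∑ χ : IrrCharacter G, charDegree (χ : G → ℂ) ^ 2 = 60 := by
    have h1 := Cfsg.Agent.CharDeep.PowerDegrees.sum_sq (G := G)
    rw [hcard, Finset.sum_congr rfl fun χ _ => by rw [hdeg χ]] at h1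
    exact_mod_cast h1
  obtain ⟨χ4, hχ4⟩ := h4
  obtain ⟨χ5, hχ5⟩ := h5'
  by_contra h3
  have h3' : ∀ χ : IrrCharacter G, charDegree (χ : G → ℂ) ≠ 3 := fun χ h => h3 ⟨χ, h⟩
  -- the only linear character is the trivial one
  have hnc : ¬ ∀ a b : G, a * b = b * a := by
    intro hc
    have h1 : (Nat.card G).Prime := by
      let _ : CommGroup G := { (inferInstance : Group G) with mul_comm := hc }
      have : IsSimpleGroup G := hsimple
      exact IsSimpleGroup.prime_card
    rw [hcard] at h1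
    norm_num at h1
  have hlin : ∀ χ : IrrCharacter G, charDegree (χ : G → ℂ) = 1 → χ = ⟨1, isIrr_one⟩ := by
    intro χ h
    apply Subtype.ext
    exact Cfsg.Agent.SporadicA.M11CharSimple.eq_one_of_degree_one hnc χ.2 (by rw [hdeg, h, Nat.cast_one])
  set χ1 : IrrCharacter G := ⟨1, isIrr_one⟩ with hχ1
  have hd1 : charDegree (χ1 : G → ℂ) = 1 := by
    have : ((charDegree (χ1 : G → ℂ) : ℕ) : ℂ) = 1 := by rw [← hdeg]; rfl
    exact_mod_cast this
  have h14 : χ4 ≠ χ1 := by rintro rfl; omega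
  have h15 : χ5 ≠ χ1 := by rintro rfl; omega
  have h45 : χ5 ≠ χ4 := by rintro rfl; omega
  have h6 : ∑ χ ∈ ((Finset.univ.erase χ1).erase χ4).erase χ5, charDegree (χ : G → ℂ) ^ 2 = 18 := by
    have e1 := Finset.add_sum_erase Finset.univ (fun χ : IrrCharacter G => charDegree (χ : G → ℂ) ^ 2)
      (Finset.mem_univ χ1)
    have e2 := Finset.add_sum_erase (Finset.univ.erase χ1) (fun χ : IrrCharacter G => charDegree (χ : G → ℂ) ^ 2)
      (Finset.mem_erase.2 ⟨h14, Finset.mem_univ χ4⟩)
    have e3 := Finset.add_sum_erase ((Finset.univ.erase χ1).erase χ4)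
      (fun χ : IrrCharacter G => charDegree (χ : G → ℂ) ^ 2)
      (Finset.mem_erase.2 ⟨h45, Finset.mem_erase.2 ⟨h15, Finset.mem_univ χ5⟩⟩)
    rw [hsq, hd1] at e1
    rw [hχ4] at e2
    rw [hχ5] at e3
    omega
  have h7 : 4 ∣ ∑ χ ∈ ((Finset.univ.erase χ1).erase χ4).erase χ5, charDegree (χ : G → ℂ) ^ 2 := by
    apply Finset.dvd_sum
    intro χ hχ
    have h8 : charDegree (χ : G → ℂ) ^ 2 ≤ 18 := by
      rw [← h6]
      exact Finset.single_le_sum (f := fun χ : IrrCharacter G => charDegree (χ : G → ℂ) ^ 2)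
        (fun _ _ => Nat.zero_le _) hχ
    have h9 : charDegree (χ : G → ℂ) ≠ 1 := by
      intro h
      rw [hlin χ h] at hχ
      simp at hχ
    have h10 : charDegree (χ : G → ℂ) ≠ 0 := by
      intro h
      exact (pos_of_mem ⟨χ, rfl⟩ : 0 < charDegree (χ : G → ℂ)).ne' h
    have h11 := h3' χ
    have h12 : charDegree (χ : G → ℂ) < 5 := by nlinarith
    interval_cases charDegree (χ : G → ℂ)
    · exact absurd rfl h10
    · exact absurd rfl h9
    · norm_num
    · exact absurd rfl h11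
    · norm_num
  rw [h6] at h7
  norm_num at h7

end

end Cfsg.Agent.H464.PslDeg
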