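import Cfsg.Agent.H464.ExtAutG
import Cfsg.Agent.AutOrth.Final
import Cfsg.Agent.H477.HC.RowO
import Cfsg.Agent.LieClassical.OrthFinite

/-!
# `PΩ` as a quotient of the commutator subgroup of the isometry group; its automorphisms (S4832, EXT-R3, helper464)

* `omQ`, `omQ_ind` : `SemiQ F (commutator F.iso) (POmega K F.Q)` for good quadratic forms; the automorphisms in the range of
  `Psi` are induced by semisimilarities;
* `semiQ_plus` (`m ≥ 5`), `semiQ_minus` (`l ≥ 3`), `semiQ_odd` (`m ≥ 3`): all automorphisms are; `semiQ_plus_four`: a subgroup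
  of index 3.
-/

set_option autoImplicit false
set_option linter.unusedSectionVars false

open Cfsg

namespace Cfsg.Agent.H464.ExtR3

open Cfsg.Agent.H576.Ext Cfsg.Agent.H477.HC Cfsg.Agent.H477.HC.CForm Cfsg.Agent.H53.HC Module

universe u v w w'

section Quad

open LieClassical.OrthCore LieClassical.OrthTrans LieClassical.OrthSimple ClassicalGeometry.OrthAut1
  ClassicalGeometry.OrthSemi ClassicalGeometry.OrthSemiForms
open scoped commutatorElement

variable {K : Type u} [Field K] {V : Type v} [AddCommGroup V] [Module K V] {F : CForm K V} {Q : QuadraticForm K V}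

theorem O_eq_iso (hQ : ∀ v, Q v = F.Q v) (hB : ∀ u v, F.B u v = F.Q (u + v) - F.Q u - F.Q v) : O Q = F.iso := by
  ext k
  constructor
  · intro hk
    have hk' : ∀ v, F.Q (k v) = F.Q v := fun v => by rw [← hQ, ← hQ]; exact hk v
    exact ⟨fun u v => by rw [hB, hB, ← map_add, hk', hk', hk'], hk'⟩
  · intro hk v
    rw [hQ, hQ]
    exact hk.2 v

theorem comm_map (hG : Good Q) (hO : O Q = F.iso) : (commutator F.iso).map F.iso.subtype = E Q := by
  rw [commutator_def, Subgroup.map_commutator, ← MonoidHom.range_eq_map, Subgroup.range_subtype, ← hO,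
    hG.commutator_eq_E]

/-- the elements of the commutator subgroup -/
def toE (hG : Good Q) (hO : O Q = F.iso) : commutator F.iso →* E Q where
  toFun n := ⟨((n : F.iso) : V ≃ₗ[K] V), by rw [← comm_map hG hO]; exact ⟨n, n.2, rfl⟩⟩
  map_one' := rfl
  map_mul' := fun _ _ => rfl

theorem toE_val (hG : Good Q) (hO : O Q = F.iso) (n : commutator F.iso) :
    (toE hG hO n : V ≃ₗ[K] V) = ((n : F.iso) : V ≃ₗ[K] V) := rfl

theorem toE_surj (hG : Good Q) (hO : O Q = F.iso) : Function.Surjective (toE hG hO) := by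
  rintro ⟨k, hk⟩
  have hk' := hk
  rw [← comm_map hG hO] at hk'
  obtain ⟨n, hn, rfl⟩ := hk'
  exact ⟨⟨n, hn⟩, Subtype.ext rfl⟩

/-- `P Q` -/
def omP (hG : Good Q) (hO : O Q = F.iso) : SemiQ F (commutator F.iso) (P Q) where
  q := (QuotientGroup.mk' (Subgroup.center (E Q))).comp (toE hG hO)
  surj := (QuotientGroup.mk'_surjective _).comp (toE_surj hG hO)
  ker := fun n => by
    rw [MonoidHom.comp_apply, QuotientGroup.mk'_apply, QuotientGroup.eq_one_iff]
    constructor
    · intro h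
      exact center_scalar hG h
    · rintro ⟨a, ha⟩
      exact mem_center_of_scalar (c := a) ha
  inv := semi_comm

/-- the semisimilarity of an element of `Gam Q` -/
def gamS (hQ : ∀ v, Q v = F.Q v) (hB : ∀ u v, F.B u v = F.Q (u + v) - F.Q u - F.Q v) {σ : K ≃+* K} {c : K}
    {M : Equiv.Perm V} (h : IsSS Q σ c M) : Semi F where
  τ := σ
  lam := c
  hlam := h.ne
  γ := { M with map_add' := h.add }
  smul := h.smul
  hB := fun v w => by
    change F.B (M v) (M w) = _
    rw [hB, hB, ← h.add, ← hQ, ← hQ, ← hQ, ← hQ, ← hQ, ← hQ, h.form, h.form, h.form, map_sub, map_sub]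
    ring
  hQ := fun v => by
    change F.Q (M v) = _
    rw [← hQ, ← hQ, h.form]

theorem omP_ind (hG : Good Q) (hO : O Q = F.iso) (hQ : ∀ v, Q v = F.Q v)
    (hB : ∀ u v, F.B u v = F.Q (u + v) - F.Q u - F.Q v) {α : MulAut (P Q)} (hα : α ∈ (Psi Q).range) :
    ∃ s : Semi F, (omP hG hO).Ind s α := by
  obtain ⟨⟨M, σ, c, hM⟩, rfl⟩ := hα
  refine ⟨gamS hQ hB hM, fun n n' hn => ?_⟩
  change Psi Q _ (QuotientGroup.mk (toE hG hO n)) = QuotientGroup.mk (toE hG hO n')
  rw [Psi_mk]
  congr 1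
  apply Subtype.ext
  rw [coe_conjE]
  apply LinearEquiv.ext
  intro v
  obtain ⟨w, rfl⟩ := M.surjective v
  exact (conjLin_apply' (Q := Q) ⟨M, σ, c, hM⟩ _ w).trans (hn w).symm

theorem center_P (hG : Good Q) : Subgroup.center (P Q) = ⊥ := by
  rw [eq_bot_iff]
  intro z hz
  obtain ⟨g, rfl⟩ := QuotientGroup.mk_surjective z
  rw [Subgroup.mem_bot, QuotientGroup.eq_one_iff, Subgroup.mem_center_iff]
  have h1 : ∀ h : E Q, ⁅g, h⁆ ∈ Subgroup.center (E Q) := by
    intro h
    have h2 := Subgroup.mem_center_iff.1 hz (QuotientGroup.mk h)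
    rw [← QuotientGroup.eq_one_iff, commutatorElement_def, QuotientGroup.mk_mul, QuotientGroup.mk_mul,
      QuotientGroup.mk_mul, ← h2, QuotientGroup.mk_inv, QuotientGroup.mk_inv]
    group
  intro k
  have hconj : ClassicalGeometry.SympAutSemi.quotAut (MulAut.conj g) = 1 := by
    ext x
    obtain ⟨h, rfl⟩ := QuotientGroup.mk_surjective x
    rw [ClassicalGeometry.SympAutSemi.quotAut_mk, MulAut.one_apply, QuotientGroup.eq]
    rw [MulAut.conj_apply]
    have h2 := Subgroup.mem_center_iff.1 (h1 h) h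
    have h3 : (g * h * g⁻¹)⁻¹ * h = (h⁻¹ * ⁅g, h⁆ * h)⁻¹ := by
      rw [commutatorElement_def]
      group
    rw [h3]
    apply Subgroup.inv_mem
    have h4 : h⁻¹ * ⁅g, h⁆ * h = ⁅g, h⁆ := by
      rw [mul_assoc, ← h2]
      group
    rw [h4]
    exact h1 h
  have h5 := eq_one_of_quotAut (commutator_E hG) _ hconj
  have h6 := DFunLike.congr_fun h5 k
  rw [MulAut.conj_apply, MulAut.one_apply] at h6
  calc k * g = g * k * g⁻¹ * g := by rw [h6]
    _ = g * k := by group

/-- the automorphisms induced by semisimilarities are the range of `Psi` -/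
theorem autG_omP (hG : Good Q) (hO : O Q = F.iso) (hQ : ∀ v, Q v = F.Q v)
    (hB : ∀ u v, F.B u v = F.Q (u + v) - F.Q u - F.Q v) : autG (omP hG hO) = (Psi Q).range := by
  ext α
  constructor
  · rintro ⟨s, hs⟩
    refine mem_range_of_induces α s.hlam s.smul (fun v => ?_) fun g g' hgg => ?_
    · rw [hQ, hQ]
      exact s.hQ v
    · obtain ⟨n, rfl⟩ := toE_surj hG hO g
      obtain ⟨n', rfl⟩ := toE_surj hG hO g'
      exact hs n n' hgg
  · exact fun h => omP_ind hG hO hQ hB h

end Quad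

section Models

open LieClassical.OrthCore LieClassical.OrthTrans LieClassical.OrthForms ClassicalGeometry.OrthSemi
  ClassicalGeometry.OrthSemiForms

theorem autG_congrQ {K : Type u} [Field K] {V : Type v} [AddCommGroup V] [Module K V] {F : CForm K V} {N : Subgroup F.iso}
    {S : Type w} [Group S] {S' : Type w'} [Group S'] (D : SemiQ F N S) (e : S ≃* S') :
    autG (congrQ D e) = (autG D).map (MulAut.congr e).toMonoidHom := by
  ext α
  constructor
  · rintro ⟨s, hs⟩
    refine ⟨(e.trans α).trans e.symm, ⟨s, (ind_congrQ e).1 hs⟩, ?_⟩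
    ext x
    change e (e.symm (α (e (e.symm x)))) = α x
    rw [e.apply_symm_apply, e.apply_symm_apply]
  · rintro ⟨β, ⟨s, hs⟩, rfl⟩
    exact ⟨s, ind_congrQ' e hs⟩

variable {K : Type u} [Field K] [Finite K] {ι : Type} [Fintype ι] [DecidableEq ι]

/-- `POmega` with the group of automorphisms induced by semisimilarities -/
theorem exists_semiQ' {F : CForm K (ι → K)} {Q : QuadraticForm K (ι → K)} (hG : Good Q) {f : (ι → K) → K}
    (hf : ⇑Q = f) (hF : F.Q = f) (hB : ∀ u v, F.B u v = F.Q (u + v) - F.Q u - F.Q v) :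
    ∃ D : SemiQ F (commutator F.iso) (POmega K f), (autG D).index = (Psi Q).range.index := by
  subst hf
  have hQ : ∀ v, Q v = F.Q v := fun v => (congrFun hF v).symm
  have hO := O_eq_iso hQ hB
  refine ⟨congrQ (omP hG hO) (pomegaEquiv hG).symm, ?_⟩
  rw [autG_congrQ, ← autG_omP hG hO hQ hB]
  exact Subgroup.index_map_equiv _ (MulAut.congr (pomegaEquiv hG).symm)

theorem exists_semiQ {F : CForm K (ι → K)} {Q : QuadraticForm K (ι → K)} (hG : Good Q) {f : (ι → K) → K}
    (hf : ⇑Q = f) (hF : F.Q = f) (hB : ∀ u v, F.B u v = F.Q (u + v) - F.Q u - F.Q v)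
    (hs : Function.Surjective (Psi Q)) :
    ∃ D : SemiQ F (commutator F.iso) (POmega K f), ∀ α : MulAut (POmega K f), ∃ s : Semi F, D.Ind s α := by
  obtain ⟨D, hD⟩ := exists_semiQ' hG hf hF hB
  rw [MonoidHom.range_eq_top.2 hs, Subgroup.index_top, Subgroup.index_eq_one] at hD
  refine ⟨D, fun α => ?_⟩
  have : α ∈ autG D := by rw [hD]; trivial
  exact this

theorem center_POmega {Q : QuadraticForm K (ι → K)} (hG : Good Q) {f : (ι → K) → K} (hf : ⇑Q = f) :
    Subgroup.center (POmega K f) = ⊥ := by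
  subst hf
  rw [eq_bot_iff]
  intro z hz
  have h1 : pomegaEquiv hG z ∈ Subgroup.center (ClassicalGeometry.OrthAut1.P Q) := by
    rw [Subgroup.mem_center_iff] at hz ⊢
    intro g
    obtain ⟨g, rfl⟩ := (pomegaEquiv hG).surjective g
    rw [← map_mul, ← map_mul, hz]
  rw [center_P hG, Subgroup.mem_bot, MulEquiv.map_eq_one_iff] at h1
  exact h1

/-- **`PΩ⁺_{2m}(q)`, `m ≥ 5`** -/
theorem semiQ_plus {m : ℕ} (hm : 5 ≤ m) :
    ∃ D : SemiQ (plusF K m) (commutator (plusF K m).iso) (POmega K (quadFormPlus m K)),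
      ∀ α : MulAut (POmega K (quadFormPlus m K)), ∃ s : Semi (plusF K m), D.Ind s α := by
  have := Fintype.ofFinite K
  exact exists_semiQ (good_plus (by omega)) (coe_plusForm m K) rfl (plus_hB K m) (AutOrth.Final.surjective_plus hm)

/-- **`PΩ⁺_8(q)`** -/
theorem semiQ_plus_four :
    ∃ D : SemiQ (plusF K 4) (commutator (plusF K 4).iso) (POmega K (quadFormPlus 4 K)), (autG D).index = 3 := by
  have := Fintype.ofFinite K
  obtain ⟨D, hD⟩ := exists_semiQ' (F := plusF K 4) (good_plus (by omega)) (coe_plusForm 4 K) rfl (plus_hB K 4)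
  exact ⟨D, hD.trans AutOrth.Final.index_plus_four⟩

/-- **`PΩ⁻_{2m+2}(q)`, `m ≥ 3`** -/
theorem semiQ_minus {m : ℕ} (hm : 3 ≤ m) {a b : K}
    (hab : ∀ z₁ z₂ : K, z₁ ^ 2 + a * z₁ * z₂ + b * z₂ ^ 2 = 0 → z₁ = 0 ∧ z₂ = 0) :
    ∃ D : SemiQ (minusF K m a b hab) (commutator (minusF K m a b hab).iso) (POmega K (quadFormMinus m K a b)),
      ∀ α : MulAut (POmega K (quadFormMinus m K a b)), ∃ s : Semi (minusF K m a b hab), D.Ind s α := by
  have := Fintype.ofFinite K
  exact exists_semiQ (good_minus (by omega) a b hab) (coe_minusForm m K a b) rfl (minus_hB K m a b hab)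
    (AutOrth.Final.surjective_minus hm hab)

/-- **`PΩ_{2m+1}(q)`, `m ≥ 3`** -/
theorem semiQ_odd {m : ℕ} (hm : 3 ≤ m) (h2 : (2 : K) ≠ 0) :
    ∃ D : SemiQ (oddF K m h2) (commutator (oddF K m h2).iso) (POmega K (quadFormOdd m K)),
      ∀ α : MulAut (POmega K (quadFormOdd m K)), ∃ s : Semi (oddF K m h2), D.Ind s α := by
  have := Fintype.ofFinite K
  exact exists_semiQ (good_odd (by omega) h2) (coe_oddForm m K) rfl (odd_hB K m h2) (AutOrth.Final.surjective_odd hm h2)

theorem center_plus {m : ℕ} (hm : 3 ≤ m) : Subgroup.center (POmega K (quadFormPlus m K)) = ⊥ := by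
  have := Fintype.ofFinite K
  exact center_POmega (good_plus hm) (coe_plusForm m K)

theorem center_minus {m : ℕ} (hm : 2 ≤ m) {a b : K}
    (hab : ∀ z₁ z₂ : K, z₁ ^ 2 + a * z₁ * z₂ + b * z₂ ^ 2 = 0 → z₁ = 0 ∧ z₂ = 0) :
    Subgroup.center (POmega K (quadFormMinus m K a b)) = ⊥ := by
  have := Fintype.ofFinite K
  exact center_POmega (good_minus hm a b hab) (coe_minusForm m K a b)

theorem center_odd {m : ℕ} (hm : 2 ≤ m) (h2 : (2 : K) ≠ 0) : Subgroup.center (POmega K (quadFormOdd m K)) = ⊥ := by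
  have := Fintype.ofFinite K
  exact center_POmega (good_odd hm h2) (coe_oddForm m K)

end Models

end Cfsg.Agent.H464.ExtR3
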