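import Cfsg.Agent.H464.L2Table
import Cfsg.Agent.H919.QuadTwo

/-!
# Characteristic two: quadratic forms from class sums (helper464)

* `of_class` : `P = ρ(G)` fixes the alternating form `f`, `C ⊆ G` closed under conjugation, `|C|` even, the sum of `ρ(C)` is a
  nonzero scalar: then `P` fixes a quadratic form with polar form `f`;
* `l2_fixQ_two` : cores with socle `PSL₂(q)`, `q` odd, `p = 2`, degree `q - 1` or `q + 1`: `FixQ P`.
-/

set_option autoImplicit false
set_option linter.unusedSectionVars false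

namespace Cfsg.Agent.H464.Sl2

open Matrix Module Cfsg Cfsg.Geo Cfsg.Agent.H915.LD Cfsg.Agent.H919.Q2

universe u v

section Class

variable {ι : Type} [Fintype ι] [DecidableEq ι] {F : Type u} [Field F] {P : Subgroup (GL ι F)}

/-- **Class sum criterion.** -/
theorem of_class (h2 : (2 : F) = 0) {f : (ι → F) → (ι → F) → F} (hf : IsSymplecticForm f) (hP : InvB P f)
    {G : Type*} [Group G] (ρ : G →* GL ι F) (hρ : ρ.range = P) (C : Finset G)
    (hC : ∀ h : G, ∀ g ∈ C, h * g * h⁻¹ ∈ C) (hcard : (C.card : F) = 0) {μ : F} (hμ : μ ≠ 0)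
    (hsum : ∑ g ∈ C, (ρ g : Matrix ι ι F) = μ • (1 : Matrix ι ι F)) : ∃ Q, QP f Q ∧ Inv P Q := by
  classical
  have hself : ∀ x : F, x + x = 0 := fun x => by rw [← two_mul, h2, zero_mul]
  -- some quadratic form
  obtain ⟨Q₀, hQ₀⟩ : ∃ Q, QP f Q := by
    obtain ⟨Q, hQ, -⟩ := exists_qp_basis h2 hf ((Pi.basisFun F ι).reindex (Fintype.equivFin ι)) (fun _ => 0)
    exact ⟨Q, hQ⟩
  have hmem : ∀ g : G, ρ g ∈ P := fun g => hρ ▸ ⟨g, rfl⟩
  have hfg : ∀ (g : G) (v w : ι → F), f ((ρ g : Matrix ι ι F) *ᵥ v) ((ρ g : Matrix ι ι F) *ᵥ w) = f v w :=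
    fun g v w => hP _ (hmem g) v w
  -- the operator
  let T : ((ι → F) → F) → (ι → F) → F := fun Q v => ∑ g ∈ C, Q ((ρ g : Matrix ι ι F) *ᵥ v)
  have hsumv : ∀ v : ι → F, ∑ g ∈ C, (ρ g : Matrix ι ι F) *ᵥ v = μ • v := by
    intro v
    rw [← Matrix.sum_mulVec, hsum, Matrix.smul_mulVec, Matrix.one_mulVec]
  -- semilinear functions
  have hTl : ∀ ℓ : (ι → F) → F, (∀ v w, ℓ (v + w) = ℓ v + ℓ w) → (∀ (c : F) v, ℓ (c • v) = c ^ 2 * ℓ v) →
      ∀ v, T ℓ v = μ ^ 2 * ℓ v := by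
    intro ℓ h3 h4 v
    have h5 : ∀ s : Finset G, ∑ g ∈ s, ℓ ((ρ g : Matrix ι ι F) *ᵥ v) = ℓ (∑ g ∈ s, (ρ g : Matrix ι ι F) *ᵥ v) := by
      intro s
      induction s using Finset.induction_on with
      | empty =>
        rw [Finset.sum_empty, Finset.sum_empty]
        have := h4 0 0
        rw [zero_smul] at this
        rw [this]
        ring
      | insert a s ha ih => rw [Finset.sum_insert ha, Finset.sum_insert ha, ih, h3]
    change ∑ g ∈ C, ℓ ((ρ g : Matrix ι ι F) *ᵥ v) = _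
    rw [h5, hsumv, h4]
  have hTadd : ∀ Q Q' : (ι → F) → F, ∀ (c : F) v, T (fun v => Q v + c * Q' v) v = T Q v + c * T Q' v := by
    intro Q Q' c v
    change ∑ g ∈ C, (Q _ + c * Q' _) = _
    rw [Finset.sum_add_distrib, ← Finset.mul_sum]
  -- `T Q₀` is semilinear
  have hTQ : ∀ Q, QP f Q → (∀ v w, T Q (v + w) = T Q v + T Q w) ∧ ∀ (c : F) v, T Q (c • v) = c ^ 2 * T Q v := by
    intro Q hQ
    constructor
    · intro v w
      change ∑ g ∈ C, Q ((ρ g : Matrix ι ι F) *ᵥ (v + w)) = ∑ g ∈ C, Q _ + ∑ g ∈ C, Q _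
      have h3 : ∀ g ∈ C, Q ((ρ g : Matrix ι ι F) *ᵥ (v + w)) =
          Q ((ρ g : Matrix ι ι F) *ᵥ v) + Q ((ρ g : Matrix ι ι F) *ᵥ w) + f v w := by
        intro g _
        rw [Matrix.mulVec_add, hQ.add, hfg]
      rw [Finset.sum_congr rfl h3, Finset.sum_add_distrib, Finset.sum_add_distrib, Finset.sum_const, nsmul_eq_mul,
        hcard, zero_mul, add_zero]
    · intro c v
      change ∑ g ∈ C, Q ((ρ g : Matrix ι ι F) *ᵥ (c • v)) = c ^ 2 * ∑ g ∈ C, Q _
      rw [Finset.mul_sum]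
      refine Finset.sum_congr rfl fun g _ => ?_
      rw [Matrix.mulVec_smul, hQ.smul]
  -- the corrected form
  set Q : (ι → F) → F := fun v => Q₀ v + (μ ^ 2)⁻¹ * T Q₀ v with hQdef
  have hμ2 : μ ^ 2 ≠ 0 := pow_ne_zero 2 hμ
  obtain ⟨hl1, hl2⟩ := hTQ Q₀ hQ₀
  have hQ : QP f Q := by
    constructor
    · intro c v
      rw [hQdef]
      dsimp only
      rw [hQ₀.smul, hl2]
      ring
    · intro v w
      rw [hQdef]
      dsimp only
      rw [hQ₀.add, hl1]
      ring
  have hTQ0 : ∀ v, T Q v = 0 := by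
    intro v
    rw [hQdef, hTadd, hTl _ hl1 hl2, ← mul_assoc, inv_mul_cancel₀ hμ2, one_mul, hself]
  refine ⟨Q, hQ, ?_⟩
  intro x hx v
  rw [← hρ] at hx
  obtain ⟨h, rfl⟩ := hx
  -- the translate
  set Q' : (ι → F) → F := fun v => Q ((ρ h : Matrix ι ι F) *ᵥ v) with hQ'def
  have hQ' : QP f Q' := hQ.comp (hfg h)
  have hTQ' : ∀ v, T Q' v = 0 := by
    intro v
    rw [← hTQ0 ((ρ h : Matrix ι ι F) *ᵥ v)]
    change ∑ g ∈ C, Q ((ρ h : Matrix ι ι F) *ᵥ ((ρ g : Matrix ι ι F) *ᵥ v)) =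
      ∑ g ∈ C, Q ((ρ g : Matrix ι ι F) *ᵥ ((ρ h : Matrix ι ι F) *ᵥ v))
    refine Finset.sum_bij (fun g _ => h * g * h⁻¹) (fun g hg => hC h g hg) ?_ ?_ ?_
    · intro g _ g' _ h1
      exact mul_left_cancel (mul_right_cancel h1)
    · intro g hg
      refine ⟨h⁻¹ * g * h, ?_, by group⟩
      have := hC h⁻¹ g hg
      rwa [inv_inv] at this
    · intro g _
      rw [Matrix.mulVec_mulVec, Matrix.mulVec_mulVec, ← Units.val_mul, ← Units.val_mul, ← map_mul, ← map_mul]
      congr 4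
      group
  have hD1 : ∀ v w, Q' (v + w) + Q (v + w) = (Q' v + Q v) + (Q' w + Q w) := by
    intro v w
    rw [hQ'.add, hQ.add]
    linear_combination hself (f v w)
  have hD2 : ∀ (c : F) v, Q' (c • v) + Q (c • v) = c ^ 2 * (Q' v + Q v) := by
    intro c v
    rw [hQ'.smul, hQ.smul]
    ring
  have h5 := hTl (fun v => Q' v + Q v) hD1 hD2 v
  have h6 : T (fun v => Q' v + Q v) v = 0 := by
    have h7 : (fun v => Q' v + Q v) = fun v => Q' v + 1 * Q v := by
      funext v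
      rw [one_mul]
    rw [h7, hTadd, hTQ', hTQ0]
    ring
  rw [h6] at h5
  have h7 : Q' v + Q v = 0 := (mul_eq_zero.1 h5.symm).resolve_left hμ2
  have h8 : Q' v = Q v := by
    have h9 := hself (Q v)
    linear_combination h7 - h9
  exact h8

end Class

section Split

variable {K : Type*} [Field K] [Fintype K] [DecidableEq K]

/-- Parametrisation of the elements of a split trace. -/
theorem sum_Cl_split {a : Kˣ} (_ha : a ^ 2 ≠ 1) {M : Type*} [AddCommMonoid M]
    (F : SpecialLinearGroup (Fin 2) K → M) :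
    ∑ g ∈ Cl ((a : K) + ((a⁻¹ : Kˣ) : K)), F g =
      (∑ c : Kˣ, ∑ x : K, F (u x * w c * u (((a : K) + ((a⁻¹ : Kˣ) : K)) * ((c⁻¹ : Kˣ) : K) - x))) +
      ∑ b ∈ ({a, a⁻¹} : Finset Kˣ), ∑ y : K, F (u y * t b) := by
  classical
  set τ := (a : K) + ((a⁻¹ : Kˣ) : K) with hτ
  rw [← Finset.sum_filter_add_sum_filter_not (Cl τ) (fun g => g.1 1 0 ≠ 0)]
  congr 1
  · rw [← Finset.sum_product']
    symm
    refine Finset.sum_bij (fun p _ => u p.2 * w p.1 * u (τ * ((p.1⁻¹ : Kˣ) : K) - p.2)) ?_ ?_ ?_ ?_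
    · rintro ⟨c, x⟩ _
      rw [Finset.mem_filter, mem_Cl, tr_big]
      dsimp only
      refine ⟨?_, ?_⟩
      · rw [add_sub_cancel, mul_comm τ, ← mul_assoc, ← Units.val_mul, mul_inv_cancel, Units.val_one, one_mul]
      · have h1 : (u x * w c * u (τ * ((c⁻¹ : Kˣ) : K) - x)).1 1 0 = c := by
          change ((!![1, x; 0, 1] * !![0, -((c⁻¹ : Kˣ) : K); (c : K), 0]) * !![1, (τ * ((c⁻¹ : Kˣ) : K) - x); 0, 1]) 1 0 = _
          simp [Matrix.mul_apply, Fin.sum_univ_two]
        rw [h1]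
        exact c.ne_zero
    · rintro ⟨c, x⟩ _ ⟨c', x'⟩ _ h
      obtain ⟨h1, h2, -⟩ := u_w_u_inj h
      dsimp only at h1 h2
      rw [h1, h2]
    · intro g hg
      rw [Finset.mem_filter] at hg
      obtain ⟨hg, h1⟩ := hg
      rcases bruhat g with ⟨x, b, rfl⟩ | ⟨x, c, y, rfl⟩
      · exfalso
        apply h1
        change ((u x).1 * (t b).1) 1 0 = 0
        have e1 : (u x).1 = !![1, x; 0, 1] := rfl
        have e2 : (t b).1 = !![(b : K), 0; 0, ((b⁻¹ : Kˣ) : K)] := rfl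
        rw [e1, e2]
        simp
      · refine ⟨(c, x), by simp, ?_⟩
        rw [mem_Cl, tr_big] at hg
        dsimp only
        congr 2
        rw [← hg, mul_comm (c : K), mul_assoc, ← Units.val_mul, mul_inv_cancel, Units.val_one, mul_one,
          add_sub_cancel_left]
    · intro p _
      rfl
  · have hval : ∀ (y : K) (b : Kˣ), (u y * t b).1 = !![(b : K), y * ((b⁻¹ : Kˣ) : K); 0, ((b⁻¹ : Kˣ) : K)] := by
      intro y b
      change !![1, y; 0, 1] * !![(b : K), 0; 0, ((b⁻¹ : Kˣ) : K)] = _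
      ext i j
      fin_cases i <;> fin_cases j <;> simp [Matrix.mul_apply, Fin.sum_univ_two]
    rw [← Finset.sum_product']
    symm
    refine Finset.sum_bij (fun p _ => u p.2 * t p.1) ?_ ?_ ?_ ?_
    · rintro ⟨b, y⟩ hb
      rw [Finset.mem_product, Finset.mem_insert, Finset.mem_singleton] at hb
      rw [Finset.mem_filter, mem_Cl, hval]
      refine ⟨?_, by simp⟩
      change (b : K) + ((b⁻¹ : Kˣ) : K) = τ
      rcases hb.1 with h | h
      · rw [show b = a from h]
      · rw [show b = a⁻¹ from h, inv_inv, add_comm]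
    · rintro ⟨b, y⟩ _ ⟨b', y'⟩ _ h
      have h1 := congrArg Subtype.val h
      dsimp only at h1
      rw [hval, hval] at h1
      have hb : (b : K) = b' := by simpa using congrFun (congrFun h1 0) 0
      have hb' : b = b' := Units.ext hb
      subst hb'
      have hy : y * ((b⁻¹ : Kˣ) : K) = y' * ((b⁻¹ : Kˣ) : K) := by simpa using congrFun (congrFun h1 0) 1
      rw [mul_right_cancel₀ (Units.ne_zero b⁻¹) hy]
    · intro g hg
      rw [Finset.mem_filter, not_not] at hg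
      obtain ⟨hg, h1⟩ := hg
      rcases bruhat g with ⟨x, b, rfl⟩ | ⟨x, c, y, rfl⟩
      · refine ⟨(b, x), ?_, rfl⟩
        rw [Finset.mem_product, Finset.mem_insert, Finset.mem_singleton]
        refine ⟨?_, Finset.mem_univ _⟩
        rw [mem_Cl, hval] at hg
        have h3 : (b : K) + ((b⁻¹ : Kˣ) : K) = τ := hg
        have h4 : ((b : K) - a) * ((b : K) - ((a⁻¹ : Kˣ) : K)) = 0 := by
          have h5 : (a : K) * ((a⁻¹ : Kˣ) : K) = 1 := by rw [← Units.val_mul, mul_inv_cancel, Units.val_one]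
          have h6 := nr_root h3
          rw [hτ] at h6
          linear_combination h6 + h5
        rcases mul_eq_zero.1 h4 with h5 | h5
        · exact Or.inl (Units.ext (sub_eq_zero.1 h5))
        · exact Or.inr (Units.ext (sub_eq_zero.1 h5))
      · exfalso
        apply c.ne_zero
        rw [← h1]
        change (c : K) = ((!![1, x; 0, 1] * !![0, -((c⁻¹ : Kˣ) : K); (c : K), 0]) * !![1, y; 0, 1]) 1 0
        simp [Matrix.mul_apply, Fin.sum_univ_two]
    · intro p _
      rfl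

variable {k : Type*} [Field k] {V : Type*} [AddCommGroup V] [Module k V]
  [FiniteDimensional k V] {R : SpecialLinearGroup (Fin 2) K →* Module.End k V} {ψ : AddChar K k}
  (hψ : ψ.IsPrimitive) (hK : (Fintype.card K : k) ≠ 0) (hspan : Submodule.span k (Set.range R) = ⊤)
  {v : V} {lam : Kˣ →* k}

include hspan hK in
/-- The class sum of a split element on a principal series module. -/
theorem Hw.S_split (h : Hw R ψ v lam) (hl : ∃ b, lam b ≠ 1) {a : Kˣ} (ha : a ^ 2 ≠ 1) :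
    Sl2.S R ((a : K) + ((a⁻¹ : Kˣ) : K)) = ((Fintype.card K : k) * (lam a + (lam a)⁻¹)) • 1 := by
  obtain ⟨ω, hω⟩ := scalar_of_comm R hspan (S_comm R ((a : K) + ((a⁻¹ : Kˣ) : K)))
  rw [hω]
  congr 1
  have hsum : ∑ x : Kˣ, lam x = 0 := by
    obtain ⟨b, hb⟩ := hl
    have h1 : lam b * ∑ x : Kˣ, lam x = ∑ x : Kˣ, lam x := by
      rw [Finset.mul_sum, ← Equiv.sum_comp (Equiv.mulLeft b) (fun x : Kˣ => lam x)]
      refine Finset.sum_congr rfl fun x _ => ?_
      rw [Equiv.coe_mulLeft, map_mul]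
    have h2 : (lam b - 1) * ∑ x : Kˣ, lam x = 0 := by linear_combination h1
    exact (mul_eq_zero.1 h2).resolve_left (sub_ne_zero.2 hb)
  have h1 : E R ψ 0 (Sl2.S R ((a : K) + ((a⁻¹ : Kˣ) : K)) v) = ω • v := by
    rw [hω, LinearMap.smul_apply, Module.End.one_apply, map_smul, h.fix]
  have hne : a ≠ a⁻¹ := by
    intro h2
    apply ha
    rw [sq]
    nth_rewrite 2 [h2]
    exact mul_inv_cancel a
  have h2 : E R ψ 0 (Sl2.S R ((a : K) + ((a⁻¹ : Kˣ) : K)) v) = ((Fintype.card K : k) * (lam a + (lam a)⁻¹)) • v := by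
    rw [Sl2.S, LinearMap.sum_apply, map_sum, sum_Cl_split ha, Finset.sum_pair hne]
    have h3 : ∀ c : Kˣ, ∑ x : K, E R ψ 0 (R (Sl2.u x * Sl2.w c *
        Sl2.u (((a : K) + ((a⁻¹ : Kˣ) : K)) * ((c⁻¹ : Kˣ) : K) - x)) v) =
        ((Fintype.card K : k) * lam c) • vs R ψ v := by
      intro c
      have h4 : ∀ x : K, E R ψ 0 (R (Sl2.u x * Sl2.w c *
          Sl2.u (((a : K) + ((a⁻¹ : Kˣ) : K)) * ((c⁻¹ : Kˣ) : K) - x)) v) = lam c • vs R ψ v := by
        intro x
        rw [map_mul, map_mul, Module.End.mul_apply, Module.End.mul_apply, E_zero_u, h.u, h.w, map_smul]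
        rfl
      rw [Finset.sum_congr rfl fun x _ => h4 x, Finset.sum_const, Finset.card_univ, ← Nat.cast_smul_eq_nsmul k,
        smul_smul]
    have h5 : ∀ b : Kˣ, ∑ y : K, E R ψ 0 (R (Sl2.u y * t b) v) = ((Fintype.card K : k) * lam b) • v := by
      intro b
      have h4 : ∀ y : K, E R ψ 0 (R (Sl2.u y * t b) v) = lam b • v := by
        intro y
        rw [map_mul, Module.End.mul_apply, E_zero_u, h.tor, map_smul, h.fix]
      rw [Finset.sum_congr rfl fun x _ => h4 x, Finset.sum_const, Finset.card_univ, ← Nat.cast_smul_eq_nsmul k,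
        smul_smul]
    rw [Finset.sum_congr rfl fun c _ => h3 c, ← Finset.sum_smul, ← Finset.mul_sum, hsum, mul_zero, zero_smul,
      zero_add, h5, h5, ← add_smul, lam_inv, mul_add]
  have h3 : (ω - (Fintype.card K : k) * (lam a + (lam a)⁻¹)) • v = 0 := by
    rw [sub_smul, ← h1, h2, sub_self]
  exact sub_eq_zero.1 ((smul_eq_zero.1 h3).resolve_right h.ne)

theorem card_Cl_even {F : Type*} [Field F] (h2 : (2 : F) = 0) {τ : K} (hτ : τ ^ 2 - 4 ≠ 0) :
    ((Cl τ).card : F) = 0 := by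
  have h1 : ((Cl τ).card : F) = ∑ g ∈ Cl τ, (1 : F) := by simp
  rw [h1]
  have hinv : ∀ g : SpecialLinearGroup (Fin 2) K, (g⁻¹).1 0 0 + (g⁻¹).1 1 1 = g.1 0 0 + g.1 1 1 := by
    intro g
    change (adjugate g.1) 0 0 + (adjugate g.1) 1 1 = _
    rw [Matrix.adjugate_fin_two]
    change g.1 1 1 + g.1 0 0 = _
    rw [add_comm]
  refine Finset.sum_involution (fun g _ => g⁻¹) ?_ ?_ ?_ ?_
  · intro g _
    rw [← two_mul, h2, zero_mul]
  · intro g hg _ h
    apply hτ
    rw [mem_Cl] at hg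
    have h3 : g.1 * g.1 = 1 := by
      have h4 : g * g = 1 := by
        nth_rewrite 1 [← h]
        exact inv_mul_cancel g
      exact congrArg Subtype.val h4
    have h5 : g.1 0 1 = -g.1 0 1 ∧ g.1 1 0 = -g.1 1 0 ∧ g.1 0 0 = g.1 1 1 := by
      have h6 : (g⁻¹).1 = g.1 := congrArg Subtype.val h
      have h7 : adjugate g.1 = g.1 := h6
      rw [Matrix.adjugate_fin_two] at h7
      have e1 := congrFun (congrFun h7 0) 1
      have e2 := congrFun (congrFun h7 1) 0
      have e3 := congrFun (congrFun h7 0) 0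
      exact ⟨by simpa using e1.symm, by simpa using e2.symm, by simpa using e3.symm⟩
    obtain ⟨e1, e2, e3⟩ := h5
    have e4 := congrFun (congrFun h3 0) 0
    rw [Matrix.mul_apply, Fin.sum_univ_two, Matrix.one_apply_eq] at e4
    rw [← hg, ← e3]
    have hdet : g.1 0 0 * g.1 1 1 - g.1 0 1 * g.1 1 0 = 1 := by
      have := g.2
      rwa [Matrix.det_fin_two] at this
    rw [← e3] at hdet
    linear_combination 2 * e4 + 2 * hdet
  · intro g hg
    rw [mem_Cl] at hg ⊢
    rw [hinv, hg]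
  · intro g _
    exact inv_inv g

/-- compression of the class sum -/
theorem trace_E_S (b : K) (τ : K) : LinearMap.trace k V (E R ψ b * Sl2.S R τ) =
    (Fintype.card K : k)⁻¹ * ∑ x : K, ψ (-(b * x)) * ∑ g ∈ Cl τ, chi R (Sl2.u x * g) := by
  rw [E, Sl2.S, smul_mul_assoc, map_smul, Finset.sum_mul, map_sum, smul_eq_mul]
  congr 1
  refine Finset.sum_congr rfl fun x _ => ?_
  rw [smul_mul_assoc, map_smul, smul_eq_mul, Finset.mul_sum, map_sum]
  congr 1
  refine Finset.sum_congr rfl fun g _ => ?_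
  rw [← map_mul]
  rfl

end Split

section Core

variable {ι : Type} [Fintype ι] [DecidableEq ι] {F : Type u} [Field F] {P : Subgroup (GL ι F)}
  {K : Type v} [Field K] [Fintype K]

/-- The class sum in `P` is a scalar. -/
theorem class_scalar [DecidableEq K] (hC : Core P) (ρ : SpecialLinearGroup (Fin 2) K →* GL ι F) (hρ : ρ.range = P)
    (τ : K) : ∃ c : F, ∑ g ∈ Cl τ, (ρ g : Matrix ι ι F) = c • (1 : Matrix ι ι F) := by
  apply hC.absIrred.2
  rintro _ ⟨x, hx, rfl⟩
  rw [← hρ] at hx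
  obtain ⟨h, rfl⟩ := hx
  rw [Finset.sum_mul, Finset.mul_sum]
  refine Finset.sum_bij (fun g _ => h⁻¹ * g * h) ?_ ?_ ?_ ?_
  · intro g hg
    rw [mem_Cl] at hg ⊢
    have h1 := tr_conj h⁻¹ g
    rw [inv_inv] at h1
    rw [h1, hg]
  · intro g _ g' _ h1
    exact mul_left_cancel (mul_right_cancel h1)
  · intro g hg
    refine ⟨h * g * h⁻¹, ?_, by group⟩
    rw [mem_Cl] at hg ⊢
    rw [tr_conj, hg]
  · intro g _
    rw [← Units.val_mul, ← Units.val_mul, ← map_mul, ← map_mul]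
    congr 2
    group

/-- **Characteristic two, `q` odd, degree `q - 1` or `q + 1`.** -/
theorem l2_fixQ_two [Finite F] [CharP F 2] (hC : Core P) (h5 : 5 ≤ Fintype.card K)
    (h9 : Fintype.card K ≠ 9) (hodd : Odd (Fintype.card K)) (e : Soc P ≃* ProjectiveSpecialLinearGroup (Fin 2) K)
    (hn : Fintype.card ι + 1 = Fintype.card K ∨ Fintype.card ι = Fintype.card K + 1) : FixQ P := by
  classical
  have hp : Fact (Nat.Prime 2) := ⟨Nat.prime_two⟩
  have hodd2 : Fintype.card K % 2 = 1 := Nat.odd_iff.1 hodd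
  have hpK : ¬ 2 ∣ Fintype.card K := by omega
  have hsd : SD P := by
    rcases l2_stage1 2 hC h5 h9 hpK e with h | ⟨-, h, -⟩
    · exact h
    · omega
  have h2 : (2 : F) = 0 := by exact_mod_cast CharP.cast_eq_zero F 2
  rcases hC.forms_of_sd hsd with h | ⟨f, hf, hfix⟩
  · exact h
  obtain ⟨ρ, hρ, -⟩ := l2_rep hC h5 h9 e
  obtain ⟨R, ψ, hψ, hK, hspan, hR, hchi, hsc⟩ := exists_mod hC ρ hρ (card_cast_ne 2 hpK)
  have h2k : (2 : AlgebraicClosure F) = 0 := by
    have h3 := congrArg (algebraMap F (AlgebraicClosure F)) h2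
    rwa [map_ofNat, map_zero] at h3
  obtain ⟨hall, h0⟩ := full_cases R hψ hK hspan hR (by omega) (by rw [Module.finrank_fin_fun]; omega)
  rw [Module.finrank_fin_fun] at h0
  -- a good trace
  have key : ∃ τ : K, τ ^ 2 - 4 ≠ 0 ∧ ∃ μ : AlgebraicClosure F, μ ≠ 0 ∧ Sl2.S R τ = μ • 1 := by
    rcases hn with hn | hn
    · have h0 : finrank (AlgebraicClosure F) (LinearMap.range (E R ψ 0)) = 0 := by omega
      obtain ⟨τ₀, hg⟩ := exists_Gen K
      obtain ⟨ζ, hζ0, -, h3, -, -, h6, -⟩ := cusp_table R hψ hK (by omega) hspan hall h0 hg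
      refine ⟨τ₀, hg.ns.sq_sub_ne, _, ?_, exists_S R hψ hK (by omega) hspan hall hg.ns⟩
      have hE0 : E R ψ 0 = 0 := by
        rw [Submodule.finrank_eq_zero, LinearMap.range_eq_bot] at h0
        exact h0
      have hs : ∑ s, ct R s = 0 := by
        rw [← sum_ct R hK (ψ := ψ), hE0, mul_zero, map_zero, mul_zero]
      have h10 : (Zt τ₀ ^ 1).1 1 0 ≠ 0 := by
        rw [pow_one, Zt_val]
        simp
      have h7 := h6 1 h10
      rw [pow_one, pow_one, pow_one] at h7
      have h8 : ct R τ₀ = -(ζ + ζ⁻¹) := h7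
      rw [hs, h8, sub_zero]
      intro h9
      rcases mul_eq_zero.1 h9 with h10 | h10
      · exact hK h10
      · apply h3 hodd
        have h11 : ζ * ζ⁻¹ = 1 := mul_inv_cancel₀ hζ0
        have h12 : (ζ + 1) ^ 2 = 0 := by linear_combination (-ζ) * h10 - h11 + ζ * h2k
        have h13 := pow_eq_zero_iff (two_ne_zero) |>.1 h12
        linear_combination h13
    · have h0 : finrank (AlgebraicClosure F) (LinearMap.range (E R ψ 0)) = 2 := by omega
      obtain ⟨v, lam, hw⟩ := exists_hw (R := R) hψ hK (by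
        intro h
        rw [h, finrank_bot] at h0
        norm_num at h0)
      obtain ⟨a, ha⟩ := hw.exists_sq_ne hψ hK hspan h0
      have ha2 : a ^ 2 ≠ 1 := by
        intro h
        apply ha
        rw [← map_pow, h, map_one]
      have hl : ∃ b, lam b ≠ 1 := ⟨a, fun h => ha (by rw [h, one_pow])⟩
      refine ⟨_, ?_, _, ?_, hw.S_split hK hspan hl ha2⟩
      · intro h
        apply ha2
        have h3 : (a : K) * ((a⁻¹ : Kˣ) : K) = 1 := by rw [← Units.val_mul, mul_inv_cancel, Units.val_one]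
        have h4 : ((a : K) - ((a⁻¹ : Kˣ) : K)) ^ 2 = 0 := by linear_combination h - 4 * h3
        have h5 := pow_eq_zero_iff (two_ne_zero) |>.1 h4
        have h6 : a = a⁻¹ := Units.ext (sub_eq_zero.1 h5)
        rw [sq]
        nth_rewrite 2 [h6]
        exact mul_inv_cancel a
      · intro h
        rcases mul_eq_zero.1 h with h3 | h3
        · exact hK h3
        · apply ha
          have h4 : lam a * (lam a)⁻¹ = 1 := mul_inv_cancel₀ (lam_ne lam a)
          linear_combination lam a * h3 - h4 - h2k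
  obtain ⟨τ, hτ, μ, hμ, hS⟩ := key
  obtain ⟨c, hc⟩ := class_scalar hC ρ hρ τ
  refine (fun ⟨Q, hQ, hI⟩ => fixQ_of hf hQ hI) (of_class h2 hf (invB_of_fixes hfix) ρ hρ (Cl τ) ?_
    (card_Cl_even h2 hτ) ?_ hc)
  · intro h g hg
    rw [mem_Cl] at hg ⊢
    rw [tr_conj, hg]
  · rintro rfl
    rw [zero_smul] at hc
    have h3 := trace_E_S (R := R) (ψ := ψ) 1 τ
    have h4 : ∀ x : K, ∑ g ∈ Cl τ, chi R (u x * g) = 0 := by
      intro x
      have h6 : ∀ g ∈ Cl τ, chi R (u x * g) =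
          algebraMap F (AlgebraicClosure F) (((ρ (u x) : Matrix ι ι F) * (ρ g : Matrix ι ι F)).trace) := by
        intro g _
        rw [hchi, map_mul]
        rfl
      rw [Finset.sum_congr rfl h6, ← map_sum, ← Matrix.trace_sum, ← Finset.mul_sum, hc, mul_zero, Matrix.trace_zero,
        map_zero]
    rw [hS, mul_smul_comm, mul_one, map_smul, trace_E R hψ hK, hall 1 one_ne_zero, Nat.cast_one, smul_eq_mul,
      mul_one, Finset.sum_congr rfl fun x _ => by rw [h4 x, mul_zero], Finset.sum_const_zero, mul_zero] at h3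
    exact hμ h3

end Core

end Cfsg.Agent.H464.Sl2
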