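import Mathlib

/-!
# Matrices of `SL₂` and the weights of the unipotent group in cross characteristic (helper464)

`R : SL₂(K) → End V` a representation over a field `k` in which `|K| ≠ 0`, `ψ : K → k` a non-trivial additive
character. `E b` is the projection onto the weight space of `x ↦ ψ(b x)`.
-/

set_option autoImplicit false
set_option linter.unusedSectionVars false

namespace Cfsg.Agent.H464.Sl2

open Matrix Module

section Mat

variable {K : Type*} [Field K]

/-- Upper unipotent matrices. -/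
def u (x : K) : SpecialLinearGroup (Fin 2) K := ⟨!![1, x; 0, 1], by simp [det_fin_two]⟩

/-- Diagonal matrices. -/
def t (a : Kˣ) : SpecialLinearGroup (Fin 2) K :=
  ⟨!![(a : K), 0; 0, ((a⁻¹ : Kˣ) : K)], by simp [det_fin_two]⟩

/-- Monomial matrices. -/
def w (c : Kˣ) : SpecialLinearGroup (Fin 2) K :=
  ⟨!![0, -((c⁻¹ : Kˣ) : K); (c : K), 0], by simp [det_fin_two]⟩

@[simp] theorem u_coe (x : K) : (u x : Matrix (Fin 2) (Fin 2) K) = !![1, x; 0, 1] := rfl
@[simp] theorem t_coe (a : Kˣ) : (t a : Matrix (Fin 2) (Fin 2) K) = !![(a : K), 0; 0, ((a⁻¹ : Kˣ) : K)] := rfl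
@[simp] theorem w_coe (c : Kˣ) : (w c : Matrix (Fin 2) (Fin 2) K) = !![0, -((c⁻¹ : Kˣ) : K); (c : K), 0] := rfl

theorem u_add (x y : K) : u (x + y) = u x * u y := by
  apply Subtype.ext
  simp [add_comm]

theorem u_zero : u (0 : K) = 1 := by
  apply Subtype.ext
  ext i j
  fin_cases i <;> fin_cases j <;> simp

theorem t_mul_u (a : Kˣ) (x : K) : t a * u x = u ((a : K) ^ 2 * x) * t a := by
  apply Subtype.ext
  ext i j
  fin_cases i <;> fin_cases j <;> simp
  field_simp

theorem t_mul (a b : Kˣ) : t (a * b) = t a * t b := by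
  apply Subtype.ext
  ext i j
  fin_cases i <;> fin_cases j <;> simp [mul_comm]

theorem t_one : t (1 : Kˣ) = 1 := by
  apply Subtype.ext
  ext i j
  fin_cases i <;> fin_cases j <;> simp

/-- The torus as a homomorphism. -/
def tHom : Kˣ →* SpecialLinearGroup (Fin 2) K where
  toFun := t
  map_one' := t_one
  map_mul' := t_mul

theorem w_one_mul_t (a : Kˣ) : w 1 * t a = w a := by
  apply Subtype.ext
  ext i j
  fin_cases i <;> fin_cases j <;> simp

theorem w_mul_w (c d : Kˣ) : w c * w d = t (-(d / c)) := by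
  apply Subtype.ext
  ext i j
  fin_cases i <;> fin_cases j <;> simp
  · field_simp
  · field_simp

/-- The product of two elements of the big cell. -/
theorem w_u_w (c d : Kˣ) (x : Kˣ) :
    w c * u (x : K) * w d = u (-((c ^ 2 * x)⁻¹ : Kˣ) : K) * w (c * d * x) * u (-((d ^ 2 * x)⁻¹ : Kˣ) : K) := by
  apply Subtype.ext
  ext i j
  fin_cases i <;> fin_cases j <;> (simp; field_simp; try ring)

/-- Bruhat decomposition. -/
theorem bruhat (g : SpecialLinearGroup (Fin 2) K) :
    (∃ x a, g = u x * t a) ∨ ∃ x c y, g = u x * w c * u y := by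
  have hdet : g.1 0 0 * g.1 1 1 - g.1 0 1 * g.1 1 0 = 1 := by
    have := g.2
    rwa [Matrix.det_fin_two] at this
  by_cases hc : g.1 1 0 = 0
  · left
    rw [hc, mul_zero, sub_zero] at hdet
    have ha : g.1 0 0 ≠ 0 := fun h => by rw [h, zero_mul] at hdet; exact zero_ne_one hdet
    refine ⟨g.1 0 1 * g.1 0 0, Units.mk0 _ ha, ?_⟩
    apply Subtype.ext
    have h2 : g.1 1 1 = (g.1 0 0)⁻¹ := by
      field_simp
      linear_combination hdet
    change g.1 = _
    ext i j
    fin_cases i <;> fin_cases j <;> simp [hc, h2, ha]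
  · right
    refine ⟨g.1 0 0 / g.1 1 0, Units.mk0 _ hc, g.1 1 1 / g.1 1 0, ?_⟩
    apply Subtype.ext
    change g.1 = _
    ext i j
    fin_cases i <;> fin_cases j <;> simp <;> field_simp
    linear_combination -hdet

theorem t_sq_central {a : Kˣ} (ha : a ^ 2 = 1) (g : SpecialLinearGroup (Fin 2) K) : t a * g = g * t a := by
  have h1 : ((a⁻¹ : Kˣ) : K) = a := by
    congr 1
    rw [inv_eq_iff_mul_eq_one, ← sq, ha]
  apply Subtype.ext
  change (t a).1 * g.1 = g.1 * (t a).1
  have h2 : (t a).1 = (a : K) • (1 : Matrix (Fin 2) (Fin 2) K) := by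
    ext i j
    change (t a : Matrix (Fin 2) (Fin 2) K) i j = _
    rw [t_coe]
    fin_cases i <;> fin_cases j <;> simp [h1]
  rw [h2, smul_mul_assoc, one_mul, mul_smul_comm, mul_one]

end Mat

end Cfsg.Agent.H464.Sl2
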