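import Cfsg.Agent.H464.L2TrK
import Cfsg.Agent.H464.L2StageOne
import Cfsg.Agent.H830.Sl2Type

/-!
# Row T1, stage 2: the fields of definition (helper464)

`P` a core in characteristic `p`, `ρ : SL₂(K) → GL` with range `P`, `p ∤ |K| = q`.

* `cusp_field` : degree `q - 1`;
* `prin_field` : degree `q + 1`;
* `stein_field` : degree `q`;
* `half_field` : degree `(q ± 1) / 2`.
-/

set_option autoImplicit false
set_option linter.unusedSectionVars false

namespace Cfsg.Agent.H464.Sl2

open Matrix Module Cfsg Cfsg.Geo Cfsg.Agent.H915.LD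

universe u v

section Theta

variable {k : Type*} [Field k] (p : ℕ) [hp : Fact p.Prime] [CharP k p]

theorem theta_iff {x : k} (hx : x ≠ 0) (e : ℕ) :
    (x + x⁻¹) ^ p ^ e = x + x⁻¹ ↔ x ^ p ^ e = x ∨ x ^ p ^ e = x⁻¹ := by
  rw [add_pow_char_pow, inv_pow]
  have hy : x ^ p ^ e ≠ 0 := pow_ne_zero _ hx
  constructor
  · intro h
    have h1 : (x ^ p ^ e - x) * (x ^ p ^ e - x⁻¹) = 0 := by
      field_simp at h ⊢
      linear_combination h
    rcases mul_eq_zero.1 h1 with h2 | h2
    · exact Or.inl (sub_eq_zero.1 h2)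
    · exact Or.inr (sub_eq_zero.1 h2)
  · rintro (h | h)
    · rw [h]
    · rw [h, inv_inv, add_comm]

theorem theta_pow {x : k} {e : ℕ} (h : x ^ p ^ e = x ∨ x ^ p ^ e = x⁻¹) (n : ℕ) :
    (x ^ n + (x⁻¹) ^ n) ^ p ^ e = x ^ n + (x⁻¹) ^ n := by
  rw [add_pow_char_pow, ← pow_mul, ← pow_mul, mul_comm n, pow_mul, pow_mul, inv_pow x]
  rcases h with h | h
  · rw [h]
  · rw [h, inv_inv, add_comm]

theorem int_pow (m : ℤ) (e : ℕ) : ((m : ℤ) : k) ^ p ^ e = m := by
  have h1 : ((m : ℤ) : k) = ZMod.castHom (dvd_refl p) k (m : ZMod p) := by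
    rw [map_intCast]
  rw [h1, ← map_pow, ZMod.pow_card_pow]

theorem neg_pow_char (x : k) (e : ℕ) : (-x) ^ p ^ e = -(x ^ p ^ e) := by
  have h1 : (-x) ^ p ^ e + x ^ p ^ e = 0 := by
    rw [← add_pow_char_pow, neg_add_cancel, zero_pow (pow_ne_zero e hp.out.ne_zero)]
  exact eq_neg_of_add_eq_zero_left h1

theorem orderOf_iff {x : k} (hx : x ≠ 0) (e : ℕ) :
    (x ^ p ^ e = x ∨ x ^ p ^ e = x⁻¹) ↔ (orderOf x ∣ p ^ e - 1 ∨ orderOf x ∣ p ^ e + 1) := by
  have h1 : 0 < p ^ e := pow_pos hp.out.pos e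
  rw [orderOf_dvd_iff_pow_eq_one, orderOf_dvd_iff_pow_eq_one]
  have h2 : x ^ p ^ e = x ^ (p ^ e - 1) * x := by
    rw [← pow_succ]
    congr 1
    omega
  apply or_congr
  · rw [h2]
    constructor
    · intro h
      exact mul_right_cancel₀ hx (h.trans (one_mul x).symm)
    · intro h
      rw [h, one_mul]
  · rw [pow_succ, mul_eq_one_iff_eq_inv₀ hx]

theorem not_dvd_orderOf {x : k} {N : ℕ} (hN : 0 < N) (hx : x ^ N = 1) : ¬ p ∣ orderOf x := by
  rintro ⟨m, hm⟩
  have h1 : 0 < orderOf x := orderOf_pos_iff.2 (isOfFinOrder_iff_pow_eq_one.2 ⟨N, hN, hx⟩)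
  have h2 : (x ^ m) ^ p = 1 := by
    rw [← pow_mul, mul_comm m, ← hm, pow_orderOf_eq_one]
  have h3 : (x ^ m - 1) ^ p = 0 := by
    rw [sub_pow_char, h2, one_pow, sub_self]
  have h4 : x ^ m = 1 := sub_eq_zero.1 (pow_eq_zero_iff (hp.out.ne_zero) |>.1 h3)
  have h5 := orderOf_dvd_of_pow_eq_one h4
  have h6 : 0 < m := by
    rcases Nat.eq_zero_or_pos m with h | h
    · rw [h, mul_zero] at hm
      omega
    · exact h
  have h7 := Nat.le_of_dvd h6 h5
  have h8 := hp.out.two_le
  nlinarith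

end Theta

variable {ι : Type} [Fintype ι] [DecidableEq ι] {F : Type u} [Field F] {P : Subgroup (GL ι F)}
  {K : Type v} [Field K] [Fintype K] [DecidableEq K]

/-- The representation over the algebraic closure. -/
theorem exists_mod (hC : Core P) (ρ : SpecialLinearGroup (Fin 2) K →* GL ι F) (hρ : ρ.range = P)
    (hKF : (Fintype.card K : F) ≠ 0) :
    ∃ (R : SpecialLinearGroup (Fin 2) K →*
        Module.End (AlgebraicClosure F) (Fin (Fintype.card ι) → AlgebraicClosure F))
      (ψ : AddChar K (AlgebraicClosure F)), ψ.IsPrimitive ∧ (Fintype.card K : AlgebraicClosure F) ≠ 0 ∧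
      Submodule.span (AlgebraicClosure F) (Set.range R) = ⊤ ∧ R ≠ 1 ∧
      (∀ g, chi R g = algebraMap F (AlgebraicClosure F) (tr (ρ g))) ∧
      (∀ g (c : F), (ρ g : Matrix ι ι F) = c • (1 : Matrix ι ι F) → R g = algebraMap F (AlgebraicClosure F) c • 1) := by
  let re := reGL (F := F) (Fintype.equivFin ι)
  let ρ' : SpecialLinearGroup (Fin 2) K →* GL (Fin (Fintype.card ι)) F := re.toMonoidHom.comp ρ
  have hρ'1 : ρ' ≠ 1 := by
    intro h
    have h1 : ρ = 1 := by
      ext1 g
      apply re.injective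
      have h2 := DFunLike.congr_fun h g
      rw [MonoidHom.one_apply, map_one]
      exact h2
    rw [h1] at hρ
    apply hC.nonabelian
    have h3 : Subsingleton P := by
      constructor
      rintro ⟨a, ha⟩ ⟨b, hb⟩
      rw [← hρ] at ha hb
      obtain ⟨x, rfl⟩ := ha
      obtain ⟨y, rfl⟩ := hb
      rfl
    have h2 : Subsingleton (P ⧸ (scalars ι F).subgroupOf P) := by
      constructor
      intro a b
      induction a using QuotientGroup.induction_on with
      | H a =>
        induction b using QuotientGroup.induction_on with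
        | H b => rw [Subsingleton.elim a b]
    exact ⟨⟨fun a b => Subsingleton.elim _ _⟩⟩
  have habs : ActsAbsolutelyIrreducibly (matrixSet ρ'.range) := by
    have h1 : ρ'.range = P.map re.toMonoidHom := by
      rw [MonoidHom.range_comp, hρ]
    rw [h1]
    exact absIrr_reGL _ hC.absIrred
  have hK : (Fintype.card K : AlgebraicClosure F) ≠ 0 := by
    intro h
    apply hKF
    apply (algebraMap F (AlgebraicClosure F)).injective
    rw [map_natCast, h, map_zero]
  obtain ⟨ψ, hψ⟩ := exists_prim (K := K) hK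
  refine ⟨ext ρ' (AlgebraicClosure F), ψ, hψ, hK, span_ext ρ' _ (span_eq_top ρ' habs), ext_ne_one ρ' _ hρ'1, ?_, ?_⟩
  · intro g
    rw [chi, trace_ext]
    congr 1
    exact trace_reGL (Fintype.equivFin ι) (ρ g)
  · intro g c hc
    have h1 : (ρ' g : Matrix (Fin (Fintype.card ι)) (Fin (Fintype.card ι)) F) = c • 1 := by
      change Matrix.reindex _ _ (ρ g : Matrix ι ι F) = _
      rw [hc]
      ext i j
      simp [Matrix.one_apply]
    rw [ext_apply, h1]
    have h2 : (c • (1 : Matrix (Fin (Fintype.card ι)) (Fin (Fintype.card ι)) F)).map (algebraMap F (AlgebraicClosure F)) =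
        algebraMap F (AlgebraicClosure F) c • 1 := by
      ext i j
      simp only [Matrix.map_apply, Matrix.smul_apply, smul_eq_mul, Matrix.one_apply, map_mul]
      split <;> simp
    rw [h2, map_smul, Matrix.toLin'_one]
    rfl

theorem fr_iff {ρ : SpecialLinearGroup (Fin 2) K →* GL ι F} (hρ : ρ.range = P) {V : Type*} [AddCommGroup V]
    [Module (AlgebraicClosure F) V]
    {R : SpecialLinearGroup (Fin 2) K →* Module.End (AlgebraicClosure F) V}
    (hchi : ∀ g, chi R g = algebraMap F (AlgebraicClosure F) (tr (ρ g))) (Q : ℕ) :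
    Fr P Q ↔ ∀ g, chi R g ^ Q = chi R g := by
  constructor
  · intro h g
    rw [hchi, ← map_pow, h (ρ g) (hρ ▸ ⟨g, rfl⟩)]
  · intro h g hg
    rw [← hρ] at hg
    obtain ⟨x, rfl⟩ := hg
    apply (algebraMap F (AlgebraicClosure F)).injective
    rw [map_pow, ← hchi, h]

section Rep

variable {k : Type*} [Field k] {V : Type*} [AddCommGroup V] [Module k V]
  [FiniteDimensional k V] (R : SpecialLinearGroup (Fin 2) K →* Module.End k V) {ψ : AddChar K k}
  (hψ : ψ.IsPrimitive) (hK : (Fintype.card K : k) ≠ 0) (hspan : Submodule.span k (Set.range R) = ⊤)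

include hψ hK hspan in
/-- The values of the character when all weights occur. -/
theorem chi_cases (h3K : 3 ≤ Fintype.card K)
    (hall : ∀ b : K, b ≠ 0 → finrank k (LinearMap.range (E R ψ b)) = 1) (g : SpecialLinearGroup (Fin 2) K) :
    (∃ m : ℤ, chi R g = m) ∨ (NonSplit (g.1 0 0 + g.1 1 1) ∧ chi R g = ct R (g.1 0 0 + g.1 1 1)) ∨
      ∃ a : Kˣ, a ^ 2 ≠ 1 ∧ chi R g = chi R (t a) := by
  have hVn : Nontrivial V := finrank_pos_of R hall
  by_cases ht : (g.1 0 0 + g.1 1 1) ^ 2 - 4 = 0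
  · left
    obtain ⟨h, ε, y, hε, rfl⟩ := exists_conj_unip g ht
    rw [chi_conj]
    obtain ⟨c, hc⟩ := central_scalar R hspan (t_sq_central hε)
    have hc2 : c * c = 1 := by
      have h1 : R (t ε) * R (t ε) = 1 := by
        rw [← map_mul, ← t_mul, ← sq, hε, t_one, map_one]
      rw [hc, smul_mul_smul_comm, one_mul] at h1
      obtain ⟨v, hv⟩ := exists_ne (0 : V)
      have h2 := congrArg (fun f : Module.End k V => f v) h1
      rw [LinearMap.smul_apply, Module.End.one_apply] at h2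
      have h3 : (c * c - 1) • v = 0 := by rw [sub_smul, one_smul, h2, sub_self]
      exact sub_eq_zero.1 ((smul_eq_zero.1 h3).resolve_right hv)
    have h1 : chi R (t ε * u y) = c * chi R (u y) := by
      rw [chi, map_mul, hc, smul_mul_assoc, one_mul, map_smul, smul_eq_mul]
      rfl
    have h2 : ∃ m : ℤ, chi R (u y) = m := by
      by_cases hy : y = 0
      · refine ⟨(finrank k V : ℤ), ?_⟩
        rw [hy, u_zero, chi, map_one, LinearMap.trace_one]
        simp
      · refine ⟨(finrank k (LinearMap.range (E R ψ 0)) : ℤ) - 1, ?_⟩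
        rw [chi_u R hψ hK hall hy]
        simp
    obtain ⟨m, hm⟩ := h2
    rw [h1, hm]
    rcases mul_self_eq_one_iff.1 hc2 with h3 | h3
    · exact ⟨m, by rw [h3, one_mul]⟩
    · exact ⟨-m, by rw [h3]; push_cast; ring⟩
  · right
    have hnc : ∀ ε : Kˣ, ε ^ 2 = 1 → g ≠ t ε := by
      intro ε hε h
      apply ht
      rw [h, t_val_of_sq hε]
      have h1 : (ε : K) ^ 2 = 1 := by rw [← Units.val_pow_eq_pow_val, hε, Units.val_one]
      change ((ε : K) + ε) ^ 2 - 4 = 0
      linear_combination 4 * h1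
    have h1 := chi_eq R hψ hK h3K hspan hall hnc
    rcases trace_cases (g.1 0 0 + g.1 1 1) with hs | hs | hs | ⟨a, ha, hs⟩
    · exact Or.inl ⟨hs, h1⟩
    · exfalso
      apply ht
      rw [hs]
      norm_num
    · exfalso
      apply ht
      rw [hs]
      norm_num
    · right
      refine ⟨a, ha, ?_⟩
      rw [h1, hs, ct_split R hψ hK h3K hspan hall ha, chi_t R hψ hK ha]

end Rep

end Cfsg.Agent.H464.Sl2
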