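import Cfsg.Agent.H464.L2F

/-!
# Row T1, stage 2: the fields of definition, II (helper464)

`P` a core in characteristic `p`, `ρ : SL₂(K) → GL` with range `P`, `p ∤ |K| = q`, `q ≥ 4`.

* `cusp_field` : degree `q - 1`;
* `prin_field` : degree `q + 1`;
* `stein_field` : degree `q`;
* `half_field` : degree `(q ± 1) / 2`.
-/

set_option autoImplicit false
set_option linter.unusedSectionVars false

namespace Cfsg.Agent.H464.Sl2

open Matrix Module Cfsg Cfsg.Geo Cfsg.Agent.H915.LD

universe u v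

variable {ι : Type} [Fintype ι] [DecidableEq ι] {F : Type u} [Field F] {P : Subgroup (GL ι F)}
  {K : Type v} [Field K] [Fintype K] [DecidableEq K]

section Rep

variable {k : Type*} [Field k] {V : Type*} [AddCommGroup V] [Module k V]
  [FiniteDimensional k V] (R : SpecialLinearGroup (Fin 2) K →* Module.End k V) {ψ : AddChar K k}
  (hψ : ψ.IsPrimitive) (hK : (Fintype.card K : k) ≠ 0) (hspan : Submodule.span k (Set.range R) = ⊤) (hR : R ≠ 1)

include hψ hK hspan hR in
theorem full_cases [IsAlgClosed k] (h4 : 4 ≤ Fintype.card K)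
    (hn : finrank k V + 1 = Fintype.card K ∨ finrank k V = Fintype.card K ∨ finrank k V = Fintype.card K + 1) :
    (∀ b : K, b ≠ 0 → finrank k (LinearMap.range (E R ψ b)) = 1) ∧
      finrank k V + 1 = Fintype.card K + finrank k (LinearMap.range (E R ψ 0)) := by
  have h1 : ∀ b : K, b ≠ 0 → finrank k (LinearMap.range (E R ψ b)) = 1 := by
    rcases dim_cases R hψ hK hspan hR with ⟨h, -⟩ | ⟨-, h⟩
    · exact h
    · omega
  refine ⟨h1, ?_⟩
  have h2 := finrank_eq R hψ hK
  rw [Finset.sum_congr rfl fun b hb => h1 b (Finset.ne_of_mem_erase hb), Finset.sum_const,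
    Finset.card_erase_of_mem (Finset.mem_univ _), Finset.card_univ, smul_eq_mul, mul_one] at h2
  omega

include hψ hK hspan hR in
theorem half_cases [IsAlgClosed k] (h4 : 4 ≤ Fintype.card K)
    (hn : 2 * finrank k V + 1 = Fintype.card K ∨ 2 * finrank k V = Fintype.card K + 1) :
    ∃ b b' : K, b ≠ 0 ∧ b' ≠ 0 ∧ E R ψ b = 0 ∧ finrank k (LinearMap.range (E R ψ b')) = 1 ∧
      2 * finrank k V + 1 = Fintype.card K + 2 * finrank k (LinearMap.range (E R ψ 0)) := by
  have hle : ∀ b : K, b ≠ 0 → finrank k (LinearMap.range (E R ψ b)) ≤ 1 :=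
    fun b hb => finrank_E_le_one R hψ hK hspan hb
  have h1 := finrank_eq R hψ hK
  rcases mult_cases R hψ hK hspan hR with h | ⟨h2, h3⟩
  · exfalso
    rw [Finset.sum_congr rfl fun b hb => h b (Finset.ne_of_mem_erase hb), Finset.sum_const,
      Finset.card_erase_of_mem (Finset.mem_univ _), Finset.card_univ, smul_eq_mul, mul_one] at h1
    omega
  · obtain ⟨b', hb', hb'2⟩ := exists_E_ne R hψ hK hR
    have hex : ∃ b : K, b ≠ 0 ∧ E R ψ b = 0 := by
      by_contra hcon
      push Not at hcon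
      have h : ∀ b : K, b ≠ 0 → finrank k (LinearMap.range (E R ψ b)) = 1 := by
        intro b hb
        have h6 := hle b hb
        have h7 : finrank k (LinearMap.range (E R ψ b)) ≠ 0 := by
          rw [Ne, Submodule.finrank_eq_zero, LinearMap.range_eq_bot]
          exact hcon b hb
        omega
      rw [Finset.sum_congr rfl fun b hb => h b (Finset.ne_of_mem_erase hb), Finset.sum_const,
        Finset.card_erase_of_mem (Finset.mem_univ _), Finset.card_univ, smul_eq_mul, mul_one] at h3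
      omega
    obtain ⟨b, hb, hb2⟩ := hex
    refine ⟨b, b', hb, hb', hb2, ?_, ?_⟩
    · have := hle b' hb'
      omega
    · omega

end Rep

section finite

variable (p : ℕ) [hp : Fact p.Prime] [CharP F p]

theorem card_cast_ne (hpK : ¬ p ∣ Fintype.card K) : (Fintype.card K : F) ≠ 0 :=
  fun h => hpK ((CharP.cast_eq_zero_iff F p _).1 h)

/-- **Degree `q - 1`.** -/
theorem cusp_field (hC : Core P) (ρ : SpecialLinearGroup (Fin 2) K →* GL ι F) (hρ : ρ.range = P)
    (hpK : ¬ p ∣ Fintype.card K) (h4 : 4 ≤ Fintype.card K) (hn : Fintype.card ι + 1 = Fintype.card K) {τ₀ : K}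
    (hg : Gen τ₀) :
    ∃ ζ : AlgebraicClosure F, ζ ≠ 0 ∧ ζ ^ (Fintype.card K + 1) = 1 ∧ (Odd (Fintype.card K) → ζ ≠ -1) ∧
      (ζ = 1 → p ∣ Fintype.card K + 1) ∧
      (Odd (Fintype.card K) → ∀ c : F, (ρ (t (-1)) : Matrix ι ι F) = c • (1 : Matrix ι ι F) →
        algebraMap F (AlgebraicClosure F) c = ζ ^ ((Fintype.card K + 1) / 2)) ∧
      (∀ n : ℕ, (Zt τ₀ ^ n).1 1 0 ≠ 0 →
        algebraMap F (AlgebraicClosure F) (tr (ρ (Zt τ₀ ^ n))) = -(ζ ^ n + (ζ⁻¹) ^ n)) ∧
      (∀ a : Kˣ, a ^ 2 ≠ 1 → tr (ρ (t a)) = 0) ∧ (∀ x : K, x ≠ 0 → tr (ρ (u x)) = -1) ∧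
      (∀ e : ℕ, Fr P (p ^ e) ↔ ζ ^ p ^ e = ζ ∨ ζ ^ p ^ e = ζ⁻¹) := by
  obtain ⟨R, ψ, hψ, hK, hspan, hR, hchi, hsc⟩ := exists_mod hC ρ hρ (card_cast_ne p hpK)
  have hcp : CharP (AlgebraicClosure F) p :=
    charP_of_injective_algebraMap (algebraMap F (AlgebraicClosure F)).injective p
  obtain ⟨hall, h0⟩ := full_cases R hψ hK hspan hR h4 (by rw [Module.finrank_fin_fun]; omega)
  rw [Module.finrank_fin_fun] at h0
  have h0 : finrank (AlgebraicClosure F) (LinearMap.range (E R ψ 0)) = 0 := by omega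
  obtain ⟨ζ, hζ0, h1, h2, h3, h5, h6, h7, h8⟩ := cusp_table R hψ hK (by omega) hspan hall h0 hg
  have hV : Nontrivial (Fin (Fintype.card ι) → AlgebraicClosure F) := finrank_pos_of R hall
  refine ⟨ζ, hζ0, h1, h2, ?_, ?_, ?_, ?_, ?_, ?_⟩
  · intro h
    have h9 := h3 h
    have h10 : ((Fintype.card K + 1 : ℕ) : AlgebraicClosure F) = 0 := by
      push_cast
      exact h9
    exact (CharP.cast_eq_zero_iff (AlgebraicClosure F) p _).1 h10
  · intro hodd c hc
    have h9 := hsc _ c hc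
    rw [h5 hodd] at h9
    obtain ⟨v, hv⟩ := exists_ne (0 : Fin (Fintype.card ι) → AlgebraicClosure F)
    have h10 := congrArg (fun f : Module.End (AlgebraicClosure F) (Fin (Fintype.card ι) → AlgebraicClosure F) => f v) h9
    rw [LinearMap.smul_apply, LinearMap.smul_apply, Module.End.one_apply] at h10
    exact (smul_left_injective _ hv h10).symm
  · intro n hn
    rw [← hchi, h6 n hn]
  · intro a ha
    apply (algebraMap F (AlgebraicClosure F)).injective
    rw [← hchi, h7 a ha, map_zero]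
  · intro x hx
    apply (algebraMap F (AlgebraicClosure F)).injective
    rw [← hchi, h8 x hx, map_neg, map_one]
  · intro e
    rw [fr_iff hρ hchi]
    constructor
    · intro h
      have h9 := h (Zt τ₀ ^ 1)
      have h10 : (Zt τ₀ ^ 1).1 1 0 ≠ 0 := by
        rw [pow_one, Zt_val]
        simp
      rw [h6 1 h10, pow_one, pow_one, neg_pow_char p, neg_inj] at h9
      exact (theta_iff p hζ0 e).1 h9
    · intro h g
      rcases chi_cases R hψ hK hspan (by omega) hall g with ⟨m, hm⟩ | ⟨hs, hm⟩ | ⟨a, ha, hm⟩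
      · rw [hm, int_pow]
      · obtain ⟨n, hn, hn0⟩ := hg.surj _ hs
        have h9 : chi R g = chi R (Zt τ₀ ^ n) := by
          rw [hm, ← hn, chi_eq R hψ hK (by omega) hspan hall (g := Zt τ₀ ^ n)]
          intro ε hε h
          apply hn0
          rw [h]
          rfl
        rw [h9, h6 n hn0, neg_pow_char p, theta_pow p h]
      · rw [hm, h7 a ha]
        exact zero_pow (pow_ne_zero e hp.out.ne_zero)

/-- **Degree `q + 1`.** -/
theorem prin_field (hC : Core P) (ρ : SpecialLinearGroup (Fin 2) K →* GL ι F) (hρ : ρ.range = P)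
    (hpK : ¬ p ∣ Fintype.card K) (h4 : 4 ≤ Fintype.card K) (hn : Fintype.card ι = Fintype.card K + 1) {a₀ : Kˣ}
    (hg : GenS a₀) :
    ∃ ζ : AlgebraicClosure F, ζ ≠ 0 ∧ ζ ^ (Fintype.card K - 1) = 1 ∧ ζ ^ 2 ≠ 1 ∧
      (Odd (Fintype.card K) → ∀ c : F, (ρ (t (-1)) : Matrix ι ι F) = c • (1 : Matrix ι ι F) →
        algebraMap F (AlgebraicClosure F) c = ζ ^ ((Fintype.card K - 1) / 2)) ∧
      (∀ n : ℕ, (a₀ ^ n) ^ 2 ≠ 1 →
        algebraMap F (AlgebraicClosure F) (tr (ρ (t (a₀ ^ n)))) = ζ ^ n + (ζ⁻¹) ^ n) ∧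
      (∀ g, NonSplit (g.1 0 0 + g.1 1 1) → tr (ρ g) = 0) ∧ (∀ x : K, x ≠ 0 → tr (ρ (u x)) = 1) ∧
      (∀ e : ℕ, Fr P (p ^ e) ↔ ζ ^ p ^ e = ζ ∨ ζ ^ p ^ e = ζ⁻¹) := by
  obtain ⟨R, ψ, hψ, hK, hspan, hR, hchi, hsc⟩ := exists_mod hC ρ hρ (card_cast_ne p hpK)
  have hcp : CharP (AlgebraicClosure F) p :=
    charP_of_injective_algebraMap (algebraMap F (AlgebraicClosure F)).injective p
  obtain ⟨hall, h0⟩ := full_cases R hψ hK hspan hR h4 (by rw [Module.finrank_fin_fun]; omega)
  rw [Module.finrank_fin_fun] at h0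
  have h0 : finrank (AlgebraicClosure F) (LinearMap.range (E R ψ 0)) = 2 := by omega
  obtain ⟨ζ, hζ0, h1, h2, h5, h6, h7, h8⟩ := prin_table R hψ hK hspan (by omega) hall h0 hg
  have hV : Nontrivial (Fin (Fintype.card ι) → AlgebraicClosure F) := finrank_pos_of R hall
  have ha₀ : a₀ ^ 2 ≠ 1 := by
    intro h
    have h9 := orderOf_dvd_of_pow_eq_one h
    rw [hg.orderOf] at h9
    have := Nat.le_of_dvd (by norm_num) h9
    omega
  have hns : ∀ g : SpecialLinearGroup (Fin 2) K, NonSplit (g.1 0 0 + g.1 1 1) →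
      chi R g = ct R (g.1 0 0 + g.1 1 1) := by
    intro g hs
    apply chi_eq R hψ hK (by omega) hspan hall
    intro ε hε h
    have h9 : (ε : K) ^ 2 = 1 := by rw [← Units.val_pow_eq_pow_val, hε, Units.val_one]
    apply hs ε
    rw [h, t_val_of_sq hε]
    change (ε : K) ^ 2 - (ε + ε) * ε + 1 = 0
    linear_combination -h9
  refine ⟨ζ, hζ0, h1, h2, ?_, ?_, ?_, ?_, ?_⟩
  · intro hodd c hc
    have h9 := hsc _ c hc
    rw [h5 hodd] at h9
    obtain ⟨v, hv⟩ := exists_ne (0 : Fin (Fintype.card ι) → AlgebraicClosure F)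
    have h10 := congrArg (fun f : Module.End (AlgebraicClosure F) (Fin (Fintype.card ι) → AlgebraicClosure F) => f v) h9
    rw [LinearMap.smul_apply, LinearMap.smul_apply, Module.End.one_apply] at h10
    exact (smul_left_injective _ hv h10).symm
  · intro n hn
    rw [← hchi, h6 n hn]
  · intro g hs
    apply (algebraMap F (AlgebraicClosure F)).injective
    rw [← hchi, hns g hs, h7 _ hs, map_zero]
  · intro x hx
    apply (algebraMap F (AlgebraicClosure F)).injective
    rw [← hchi, h8 x hx, map_one]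
  · intro e
    rw [fr_iff hρ hchi]
    constructor
    · intro h
      have h9 := h (t (a₀ ^ 1))
      rw [h6 1 (by rwa [pow_one]), pow_one, pow_one] at h9
      exact (theta_iff p hζ0 e).1 h9
    · intro h g
      rcases chi_cases R hψ hK hspan (by omega) hall g with ⟨m, hm⟩ | ⟨hs, hm⟩ | ⟨a, ha, hm⟩
      · rw [hm, int_pow]
      · rw [hm, h7 _ hs]
        exact zero_pow (pow_ne_zero e hp.out.ne_zero)
      · obtain ⟨n, rfl⟩ := hg a
        rw [hm, h6 n ha, theta_pow p h]

/-- **Degree `q`.** -/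
theorem stein_field (hC : Core P) (ρ : SpecialLinearGroup (Fin 2) K →* GL ι F) (hρ : ρ.range = P)
    (hpK : ¬ p ∣ Fintype.card K) (h4 : 4 ≤ Fintype.card K) (hn : Fintype.card ι = Fintype.card K) :
    ¬ p ∣ Fintype.card K + 1 ∧ (∀ c : F, (ρ (t (-1)) : Matrix ι ι F) = c • (1 : Matrix ι ι F) → c = 1) ∧
      (∀ a : Kˣ, a ^ 2 ≠ 1 → tr (ρ (t a)) = 1) ∧
      (∀ g, NonSplit (g.1 0 0 + g.1 1 1) → tr (ρ g) = -1) ∧ (∀ x : K, x ≠ 0 → tr (ρ (u x)) = 0) ∧ Fr P p := by
  obtain ⟨R, ψ, hψ, hK, hspan, hR, hchi, hsc⟩ := exists_mod hC ρ hρ (card_cast_ne p hpK)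
  have hcp : CharP (AlgebraicClosure F) p :=
    charP_of_injective_algebraMap (algebraMap F (AlgebraicClosure F)).injective p
  obtain ⟨hall, h0⟩ := full_cases R hψ hK hspan hR h4 (by rw [Module.finrank_fin_fun]; omega)
  rw [Module.finrank_fin_fun] at h0
  have h0 : finrank (AlgebraicClosure F) (LinearMap.range (E R ψ 0)) = 1 := by omega
  obtain ⟨h1, h2, h6, h7, h8⟩ := stein_table R hψ hK hspan (by omega) hall h0
  have hV : Nontrivial (Fin (Fintype.card ι) → AlgebraicClosure F) := finrank_pos_of R hall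
  have hns : ∀ g : SpecialLinearGroup (Fin 2) K, NonSplit (g.1 0 0 + g.1 1 1) →
      chi R g = ct R (g.1 0 0 + g.1 1 1) := by
    intro g hs
    apply chi_eq R hψ hK (by omega) hspan hall
    intro ε hε h
    have h9 : (ε : K) ^ 2 = 1 := by rw [← Units.val_pow_eq_pow_val, hε, Units.val_one]
    apply hs ε
    rw [h, t_val_of_sq hε]
    change (ε : K) ^ 2 - (ε + ε) * ε + 1 = 0
    linear_combination -h9
  refine ⟨?_, ?_, ?_, ?_, ?_, ?_⟩
  · intro h
    apply h1
    have h9 := (CharP.cast_eq_zero_iff (AlgebraicClosure F) p _).2 h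
    push_cast at h9
    exact h9
  · intro c hc
    have h9 := hsc _ c hc
    rw [h2] at h9
    obtain ⟨v, hv⟩ := exists_ne (0 : Fin (Fintype.card ι) → AlgebraicClosure F)
    have h10 := congrArg (fun f : Module.End (AlgebraicClosure F) (Fin (Fintype.card ι) → AlgebraicClosure F) => f v) h9
    rw [LinearMap.smul_apply, Module.End.one_apply] at h10
    have h11 : (1 : AlgebraicClosure F) • v = algebraMap F (AlgebraicClosure F) c • v := by rw [one_smul]; exact h10
    have h12 := smul_left_injective _ hv h11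
    apply (algebraMap F (AlgebraicClosure F)).injective
    rw [map_one]
    exact h12.symm
  · intro a ha
    apply (algebraMap F (AlgebraicClosure F)).injective
    rw [← hchi, h6 a ha, map_one]
  · intro g hs
    apply (algebraMap F (AlgebraicClosure F)).injective
    rw [← hchi, hns g hs, h7 _ hs, map_neg, map_one]
  · intro x hx
    apply (algebraMap F (AlgebraicClosure F)).injective
    rw [← hchi, h8 x hx, map_zero]
  · have h9 : Fr P (p ^ 1) := by
      rw [fr_iff hρ hchi]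
      intro g
      rcases chi_cases R hψ hK hspan (by omega) hall g with ⟨m, hm⟩ | ⟨hs, hm⟩ | ⟨a, ha, hm⟩
      · rw [hm, int_pow]
      · rw [hm, h7 _ hs]
        have := int_pow (k := AlgebraicClosure F) p (-1) 1
        push_cast at this
        exact this
      · rw [hm, h6 a ha, one_pow]
    rwa [pow_one] at h9

end finite

end Cfsg.Agent.H464.Sl2
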