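import Cfsg.Agent.H464.L2G

/-!
# Row T1, stage 2: the fields of definition, III: the halves; the order of the field (helper464)

* `half_field` : degree `(q ± 1) / 2`;
* `card_field` : `|F| = p ^ f` and `Fr P (p ^ k) ↔ f ∣ k`.
-/

set_option autoImplicit false
set_option linter.unusedSectionVars false

namespace Cfsg.Agent.H464.Sl2

open Matrix Module Cfsg Cfsg.Geo Cfsg.Agent.H915.LD

universe u v

variable {ι : Type} [Fintype ι] [DecidableEq ι] {F : Type u} [Field F] {P : Subgroup (GL ι F)}
  {K : Type v} [Field K] [Fintype K] [DecidableEq K]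

theorem rep_fin (hC : Core P) (ρ : SpecialLinearGroup (Fin 2) K →* GL ι F) (hρ : ρ.range = P) :
    ∃ ρ' : SpecialLinearGroup (Fin 2) K →* GL (Fin (Fintype.card ι)) F,
      (∀ g, (ρ' g : Matrix (Fin (Fintype.card ι)) (Fin (Fintype.card ι)) F).trace = tr (ρ g)) ∧ ρ' ≠ 1 ∧
      ActsAbsolutelyIrreducibly (matrixSet ρ'.range) := by
  let re := reGL (F := F) (Fintype.equivFin ι)
  refine ⟨re.toMonoidHom.comp ρ, fun g => trace_reGL (Fintype.equivFin ι) (ρ g), ?_, ?_⟩
  · intro h
    have h1 : ρ = 1 := by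
      ext1 g
      apply re.injective
      have h2 := DFunLike.congr_fun h g
      rw [MonoidHom.one_apply, map_one]
      exact h2
    rw [h1] at hρ
    apply hC.nonabelian
    have h3 : Subsingleton P := by
      constructor
      rintro ⟨a, ha⟩ ⟨b, hb⟩
      rw [← hρ] at ha hb
      obtain ⟨x, rfl⟩ := ha
      obtain ⟨y, rfl⟩ := hb
      rfl
    have h2 : Subsingleton (P ⧸ (scalars ι F).subgroupOf P) := by
      constructor
      intro a b
      induction a using QuotientGroup.induction_on with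
      | H a =>
        induction b using QuotientGroup.induction_on with
        | H b => rw [Subsingleton.elim a b]
    exact ⟨⟨fun a b => Subsingleton.elim _ _⟩⟩
  · have h1 : (re.toMonoidHom.comp ρ).range = P.map re.toMonoidHom := by
      rw [MonoidHom.range_comp, hρ]
    rw [h1]
    exact absIrr_reGL _ hC.absIrred

section finite

variable [Finite F] (p : ℕ) [hp : Fact p.Prime] [CharP F p]

theorem pow_u {G : Type*} [Group G] (f : SpecialLinearGroup (Fin 2) K →* G) (x : K) (n : ℕ) :
    f (u x) ^ n = f (u ((n : K) * x)) := by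
  induction n with
  | zero => rw [pow_zero, Nat.cast_zero, zero_mul, u_zero, map_one]
  | succ n ih =>
    rw [pow_succ, ih, ← map_mul, ← u_add]
    congr 2
    push_cast
    ring

/-- **Degree `(q ± 1) / 2`.** -/
theorem half_field (hC : Core P) (ρ : SpecialLinearGroup (Fin 2) K →* GL ι F) (hρ : ρ.range = P)
    (hpK : ¬ p ∣ Fintype.card K) (h5 : 5 ≤ Fintype.card K)
    (hn : 2 * Fintype.card ι + 1 = Fintype.card K ∨ 2 * Fintype.card ι = Fintype.card K + 1) :
    (2 * Fintype.card ι = Fintype.card K + 1 → p ≠ 2 ∧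
      (∀ c : F, (ρ (t (-1)) : Matrix ι ι F) = c • (1 : Matrix ι ι F) → c = eta F (-1 : K)) ∧
      (∀ a : Kˣ, a ^ 2 ≠ 1 → tr (ρ (t a)) = eta F (a : K))) ∧
    (2 * Fintype.card ι + 1 = Fintype.card K →
      (∀ c : F, (ρ (t (-1)) : Matrix ι ι F) = c • (1 : Matrix ι ι F) → c = -eta F (-1 : K)) ∧
      (∀ a : Kˣ, a ^ 2 ≠ 1 → tr (ρ (t a)) = 0)) ∧
    (∀ x y : K, ¬ IsSquare (x * y) → tr (ρ (u x)) ≠ tr (ρ (u y))) ∧
    (∀ e : ℕ, Fr P (p ^ e) ↔ IsSquare ((p : K) ^ e)) ∧
    (∀ e : ℕ, Cj P (p ^ e) ↔ IsSquare (-(p : K) ^ e)) ∧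
    (SD P ↔ Fintype.card K % 4 = 1) := by
  obtain ⟨R, ψ, hψ, hK, hspan, hR, hchi, hsc⟩ := exists_mod hC ρ hρ (card_cast_ne p hpK)
  have hcp : CharP (AlgebraicClosure F) p :=
    charP_of_injective_algebraMap (algebraMap F (AlgebraicClosure F)).injective p
  obtain ⟨b, b', hb, hb', hE, hE', h0⟩ := half_cases R hψ hK hspan hR (by omega)
    (by rw [Module.finrank_fin_fun]; omega)
  rw [Module.finrank_fin_fun] at h0
  have hodd : Odd (Fintype.card K) := by
    rw [Nat.odd_iff]
    omega
  have h4 : Fintype.card K % 4 = 1 ∨ Fintype.card K % 4 = 3 := by omega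
  have hV : Nontrivial (Fin (Fintype.card ι) → AlgebraicClosure F) := by
    have : 0 < Fintype.card ι := by omega
    have : Nonempty (Fin (Fintype.card ι)) := ⟨⟨0, this⟩⟩
    infer_instance
  have hinj : Function.Injective (algebraMap F (AlgebraicClosure F)) := (algebraMap F (AlgebraicClosure F)).injective
  have heta : ∀ x : K, algebraMap F (AlgebraicClosure F) (eta F x) = eta (AlgebraicClosure F) x := by
    intro x
    unfold eta
    rw [map_intCast]
  have hscal : ∀ (c : F) (ω : AlgebraicClosure F), R (t (-1)) = ω • 1 →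
      (ρ (t (-1)) : Matrix ι ι F) = c • (1 : Matrix ι ι F) → algebraMap F (AlgebraicClosure F) c = ω := by
    intro c ω hω hc
    have h9 := hsc _ c hc
    rw [hω] at h9
    obtain ⟨v, hv⟩ := exists_ne (0 : Fin (Fintype.card ι) → AlgebraicClosure F)
    have h10 := congrArg (fun f : Module.End (AlgebraicClosure F) (Fin (Fintype.card ι) → AlgebraicClosure F) => f v) h9
    rw [LinearMap.smul_apply, LinearMap.smul_apply, Module.End.one_apply] at h10
    exact (smul_left_injective _ hv h10).symm
  have hne : ∀ x y : K, ¬ IsSquare (x * y) → tr (ρ (u x)) ≠ tr (ρ (u y)) := by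
    intro x y hxy h
    apply chi_u_ne R hψ hK hb hE hb' hE' hxy
    rw [hchi, hchi, h]
  have hpK0 : (p : K) ≠ 0 := frob_natCast_ne_zero (F := F) (card_cast_ne p hpK)
  have hpow : ∀ (e : ℕ) (x : K), tr (ρ (u x)) ^ p ^ e = tr (ρ (u ((p : K) ^ e * x))) := by
    intro e x
    rw [← tr_pow_char p, pow_u]
    push_cast
    rfl
  obtain ⟨ρ', htr, hρ', habs⟩ := rep_fin hC ρ hρ
  have hw := weil_frob (p := p) ρ' (card_cast_ne p hpK) h5 (ringChar_ne_of_odd hodd) hn hρ' habs
  have hmem : ∀ g, ρ g ∈ P := fun g => hρ ▸ ⟨g, rfl⟩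
  have hinvu : ∀ x : K, (u x)⁻¹ = u (-x) := by
    intro x
    rw [inv_eq_iff_mul_eq_one, ← u_add, add_neg_cancel, u_zero]
  refine ⟨?_, ?_, hne, ?_, ?_, ?_⟩
  · intro h1
    have h0 : finrank (AlgebraicClosure F) (LinearMap.range (E R ψ 0)) = 1 := by omega
    obtain ⟨h2, h3, h4⟩ := half_omega_plus R hψ hK hspan hb hE hb' hE' h0
    refine ⟨?_, ?_, ?_⟩
    · rintro rfl
      apply h2
      exact_mod_cast CharP.cast_eq_zero (AlgebraicClosure F) 2
    · intro c hc
      apply hinj
      rw [heta]
      exact hscal c _ h3 hc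
    · intro a ha
      apply hinj
      rw [← hchi, h4 a ha, heta]
  · intro h1
    have h0 : finrank (AlgebraicClosure F) (LinearMap.range (E R ψ 0)) = 0 := by omega
    refine ⟨?_, ?_⟩
    · intro c hc
      obtain ⟨ω, hω⟩ := central_scalar R hspan (t_sq_central (K := K) (a := -1) neg_one_sq)
      have h2 := half_omega_minus R hψ hK hodd hb hE hb' hE' h0 hω
      apply hinj
      rw [map_neg, heta, ← h2]
      exact hscal c ω hω hc
    · intro a ha
      apply hinj
      have hE0 : E R ψ 0 = 0 := by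
        rw [Submodule.finrank_eq_zero, LinearMap.range_eq_bot] at h0
        exact h0
      rw [← hchi, chi_t R hψ hK ha, hE0, mul_zero, map_zero, map_zero]
  · intro e
    constructor
    · intro h
      by_contra hs
      apply hne ((p : K) ^ e) 1 (by rwa [mul_one])
      have h1 := hpow e 1
      rw [mul_one] at h1
      rw [← h1, h _ (hmem _)]
    · intro h g hg
      rw [← hρ] at hg
      obtain ⟨x, rfl⟩ := hg
      rw [← htr]
      exact (hw e).1 h x
  · intro e
    constructor
    · intro h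
      by_contra hs
      apply hne ((p : K) ^ e) (-1) (by rwa [mul_neg, mul_one])
      have h1 := hpow e 1
      rw [mul_one] at h1
      rw [← h1, h _ (hmem _), ← map_inv, hinvu]
    · intro h g hg
      rw [← hρ] at hg
      obtain ⟨x, rfl⟩ := hg
      rw [← map_inv, ← htr, ← htr]
      exact (hw e).2 h x
  · constructor
    · intro h
      rcases h4 with h1 | h1
      · exact h1
      · exfalso
        have h3 : ¬ IsSquare (-1 : K) := by
          rw [FiniteField.isSquare_neg_one_iff, h1]
          simp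
        apply hne (-1) 1 (by rwa [mul_one])
        rw [← h _ (hmem (u 1)), ← map_inv, hinvu]
    · intro h1 g hg
      have h3 := sl2_selfdual (K := K) (r := ringChar K) (CharP.char_is_prime K _) rfl (by omega)
        (card_coprime (F := F) (K := K) p hpK).2 ρ' hρ' habs (Or.inl (by omega))
      rw [← hρ] at hg
      obtain ⟨x, rfl⟩ := hg
      rw [← map_inv, ← htr, ← htr, h3]

/-- **The order of the field.** -/
theorem card_field [Fintype F] (hC : Core P) : ∃ f : ℕ, 0 < f ∧ Fintype.card F = p ^ f ∧ ∀ e, Fr P (p ^ e) ↔ f ∣ e := by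
  classical
  obtain ⟨f, -, hf⟩ := FiniteField.card F p
  refine ⟨f, f.pos, hf, fun e => ?_⟩
  constructor
  · intro h
    have h1 := hC.pow_eq p h
    obtain ⟨g, hg⟩ := IsCyclic.exists_generator (α := Fˣ)
    have h2 : orderOf g = p ^ (f : ℕ) - 1 := by
      rw [← hf, ← Fintype.card_units, ← Nat.card_eq_fintype_card]
      exact orderOf_eq_card_of_forall_mem_zpowers hg
    have h3 : orderOf g ∣ p ^ e - 1 := by
      apply orderOf_dvd_of_pow_eq_one
      have h4 := h1 (g : F)
      have h5 : 0 < p ^ e := pow_pos hp.out.pos e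
      have h6 : (g : F) ^ (p ^ e - 1) * g = 1 * g := by
        rw [← pow_succ, one_mul]
        have : p ^ e - 1 + 1 = p ^ e := by omega
        rw [this, h4]
      have h7 := mul_right_cancel₀ g.ne_zero h6
      exact Units.ext (by rw [Units.val_pow_eq_pow_val, h7, Units.val_one])
    rw [h2] at h3
    have h4 := Nat.gcd_eq_left h3
    rw [Nat.pow_sub_one_gcd_pow_sub_one] at h4
    have h5 : p ^ Nat.gcd f e = p ^ (f : ℕ) := by
      have h6 : 0 < p ^ Nat.gcd f e := pow_pos hp.out.pos _
      have h7 : 0 < p ^ (f : ℕ) := pow_pos hp.out.pos _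
      omega
    have h6 := Nat.pow_right_injective hp.out.two_le h5
    rw [← h6]
    exact Nat.gcd_dvd_right _ _
  · rintro ⟨m, rfl⟩ g _
    have h1 : ∀ x : F, x ^ p ^ (f : ℕ) = x := by
      intro x
      rw [← hf, FiniteField.pow_card]
    have h2 : ∀ (m : ℕ) (x : F), x ^ p ^ ((f : ℕ) * m) = x := by
      intro m
      induction m with
      | zero => intro x; simp
      | succ m ih =>
        intro x
        rw [mul_add, mul_one, pow_add, pow_mul, ih, h1]
    exact h2 m _

end finite

end Cfsg.Agent.H464.Sl2
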