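import Cfsg.Agent.H464.Sl2Dims

/-!
# Traces of `SL₂(q)`, I: the fixed space of the unipotent group (helper464)
-/

set_option autoImplicit false
set_option linter.unusedSectionVars false

namespace Cfsg.Agent.H464.Sl2

open Matrix Module

/-- Splitting off zero in a sum over a field. -/
theorem sum_units {K : Type*} [Field K] [Fintype K] [DecidableEq K] {M : Type*} [AddCommMonoid M] (f : K → M) :
    ∑ x, f x = f 0 + ∑ x : Kˣ, f x := by
  rw [← Finset.add_sum_erase _ _ (Finset.mem_univ (0 : K))]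
  congr 1
  symm
  refine Finset.sum_bij (fun (x : Kˣ) _ => (x : K)) ?_ ?_ ?_ ?_
  · intro x _
    exact Finset.mem_erase.2 ⟨x.ne_zero, Finset.mem_univ _⟩
  · intro x _ y _ h
    exact Units.ext h
  · intro x hx
    exact ⟨Units.mk0 x (Finset.ne_of_mem_erase hx), Finset.mem_univ _, rfl⟩
  · intro x _
    rfl

section TrA

variable {K : Type*} [Field K] [Fintype K] {k : Type*} [Field k] {V : Type*} [AddCommGroup V] [Module k V]
  (R : SpecialLinearGroup (Fin 2) K →* Module.End k V) {ψ : AddChar K k}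

theorem t_mul_w (a c : Kˣ) : t a * w c = w c * t a⁻¹ := by
  apply Subtype.ext
  ext i j
  fin_cases i <;> fin_cases j <;> simp [mul_comm]

theorem E_zero_u (x : K) (y : V) : E R ψ 0 (R (u x) y) = E R ψ 0 y := by
  have h3 := congrArg (fun f : Module.End k V => f y) (E_mul_R R ψ 0 x)
  simp only [Module.End.mul_apply, zero_mul, AddChar.map_zero_eq_one, one_smul] at h3
  exact h3

theorem E_zero_t (a : Kˣ) (y : V) : E R ψ 0 (R (t a) y) = R (t a) (E R ψ 0 y) := by
  have h3 := congrArg (fun f : Module.End k V => f y) (t_mul_E R ψ a 0)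
  simp only [Module.End.mul_apply, zero_div] at h3
  exact h3.symm

variable (ψ) in
/-- A highest weight vector: fixed by `U`, an eigenvector of the torus with character `lam`. -/
structure Hw (v : V) (lam : Kˣ →* k) : Prop where
  ne : v ≠ 0
  fix : E R ψ 0 v = v
  tor : ∀ a, R (t a) v = lam a • v

variable {R} {v : V} {lam : Kˣ →* k}

theorem Hw.u (h : Hw R ψ v lam) (x : K) : R (u x) v = v := by
  have h3 := congrArg (fun f : Module.End k V => f v) (R_mul_E R ψ 0 x)
  simp only [Module.End.mul_apply, h.fix, zero_mul, AddChar.map_zero_eq_one, one_smul] at h3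
  exact h3

theorem Hw.w (h : Hw R ψ v lam) (c : Kˣ) : R (w c) v = lam c • R (w 1) v := by
  rw [← w_one_mul_t, map_mul, Module.End.mul_apply, h.tor, map_smul]

theorem lam_ne (lam : Kˣ →* k) (a : Kˣ) : lam a ≠ 0 := by
  intro h
  have h1 : lam a * lam a⁻¹ = 1 := by rw [← map_mul, mul_inv_cancel, map_one]
  rw [h, zero_mul] at h1
  exact zero_ne_one h1

theorem lam_inv (lam : Kˣ →* k) (a : Kˣ) : lam a⁻¹ = (lam a)⁻¹ := by
  apply eq_inv_of_mul_eq_one_left
  rw [← map_mul, inv_mul_cancel, map_one]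

variable (R ψ v) in
/-- The second vector. -/
noncomputable def vs : V := E R ψ 0 (R (Sl2.w 1) v)

theorem Hw.t_vs (h : Hw R ψ v lam) (a : Kˣ) : R (t a) (vs R ψ v) = (lam a)⁻¹ • vs R ψ v := by
  unfold vs
  rw [← E_zero_t, ← Module.End.mul_apply (R (t a)), ← map_mul, t_mul_w, map_mul, Module.End.mul_apply, h.tor,
    map_smul, map_smul, lam_inv]

theorem E_zero_eq (y : V) : E R ψ 0 y = (Fintype.card K : k)⁻¹ • ∑ x, R (u x) y := by
  unfold E
  rw [LinearMap.smul_apply, LinearMap.sum_apply]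
  congr 1
  refine Finset.sum_congr rfl fun x _ => ?_
  rw [zero_mul, neg_zero, AddChar.map_zero_eq_one, one_smul]

theorem Hw.R_w_u_w (h : Hw R ψ v lam) (x : Kˣ) :
    R (Sl2.w 1) (R (Sl2.u (x : K)) (R (Sl2.w 1) v)) = lam x • R (Sl2.u (-((x⁻¹ : Kˣ) : K))) (R (Sl2.w 1) v) := by
  rw [← Module.End.mul_apply, ← Module.End.mul_apply, ← map_mul, ← map_mul, w_u_w, map_mul, map_mul,
    Module.End.mul_apply, Module.End.mul_apply, h.u, h.w, map_smul]
  congr 2
  · simp
  · congr 3; simp

theorem Hw.R_w_w (h : Hw R ψ v lam) : R (Sl2.w 1) (R (Sl2.w 1) v) = lam (-1) • v := by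
  rw [← Module.End.mul_apply, ← map_mul, w_mul_w, div_one, h.tor]

/-- The quadratic relation. -/
theorem Hw.hecke [DecidableEq K] (h : Hw R ψ v lam) : E R ψ 0 (R (Sl2.w 1) (vs R ψ v)) =
    (Fintype.card K : k)⁻¹ • (lam (-1) • v + (∑ x : Kˣ, lam x) • vs R ψ v) := by
  have h1 : vs R ψ v = (Fintype.card K : k)⁻¹ • ∑ x, R (Sl2.u x) (R (Sl2.w 1) v) := by
    unfold vs
    rw [E_zero_eq]
  conv_lhs => rw [h1]
  rw [map_smul, map_smul, map_sum, map_sum, sum_units]
  congr 1
  rw [u_zero, map_one, Module.End.one_apply, h.R_w_w, map_smul, h.fix, Finset.sum_smul]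
  congr 1
  refine Finset.sum_congr rfl fun x _ => ?_
  rw [h.R_w_u_w, map_smul, E_zero_u]
  rfl

/-- Commuting compressions. -/
theorem finrank_le_one_of_comm [FiniteDimensional k V] (P : Module.End k V) (hP : P * P = P)
    (key : ∀ A B : Module.End k V, (P * A * P) * (P * B * P) = (P * B * P) * (P * A * P)) :
    finrank k (LinearMap.range P) ≤ 1 := by
  have hE : ∀ v ∈ LinearMap.range P, P v = v := by
    rintro _ ⟨x, rfl⟩
    rw [← Module.End.mul_apply, hP]
  by_cases h0 : LinearMap.range P = ⊥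
  · rw [h0, finrank_bot]
    exact Nat.zero_le _
  · obtain ⟨v, hv, hv0⟩ := Submodule.exists_mem_ne_zero_of_ne_bot h0
    obtain ⟨φ, hφ⟩ := exists_dual (k := k) hv0
    refine finrank_le_one (⟨v, hv⟩ : LinearMap.range P) ?_
    rintro ⟨y, hy⟩
    refine ⟨φ y, Subtype.ext ?_⟩
    change φ y • v = y
    have h1 := congrArg (fun f : Module.End k V => f v) (key (φ.smulRight v) (φ.smulRight y))
    simp only [Module.End.mul_apply, LinearMap.smulRight_apply, hE v hv, hE y hy, hφ, one_smul, map_smul] at h1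
    exact h1

variable [FiniteDimensional k V] (hψ : ψ.IsPrimitive) (hK : (Fintype.card K : k) ≠ 0)
  (hspan : Submodule.span k (Set.range R) = ⊤)

include hψ hK

theorem exists_hw [IsAlgClosed k] (h0 : LinearMap.range (E R ψ 0) ≠ ⊥) : ∃ v lam, Hw R ψ v lam := by
  obtain ⟨v, hv0, hv, ht⟩ := exists_eigen R hψ hK h0
  choose f hf using ht
  have hinj : ∀ a b : k, a • v = b • v → a = b := by
    intro a b h
    have h1 : (a - b) • v = 0 := by rw [sub_smul, h, sub_self]
    exact sub_eq_zero.1 ((smul_eq_zero.1 h1).resolve_right hv0)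
  refine ⟨v, { toFun := f, map_one' := ?_, map_mul' := ?_ }, hv0, hv, hf⟩
  · apply hinj
    rw [← hf, t_one, map_one, Module.End.one_apply, one_smul]
  · intro a b
    apply hinj
    rw [← hf, t_mul, map_mul, Module.End.mul_apply, hf, map_smul, hf, smul_smul, mul_comm (f b)]

include hspan

theorem Hw.range_le (h : Hw R ψ v lam) : LinearMap.range (E R ψ 0) ≤ Submodule.span k {v, vs R ψ v} :=
  fixed_aux R hψ hK hspan h.ne h.fix fun a => ⟨_, h.tor a⟩

/-- Two-dimensional fixed space: linear independence. -/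
theorem Hw.indep (h : Hw R ψ v lam) (h2 : finrank k (LinearMap.range (E R ψ 0)) = 2) :
    vs R ψ v ∉ Submodule.span k {v} ∧ v ∉ Submodule.span k {vs R ψ v} := by
  have hle := h.range_le hψ hK hspan
  have h1 : ∀ x y : V, y ∈ Submodule.span k {x} → Submodule.span k {x, y} ≤ Submodule.span k {x} := by
    intro x y hy
    rw [Submodule.span_le]
    rintro z (rfl | rfl)
    · exact Submodule.mem_span_singleton_self _
    · exact hy
  have h3 : ∀ x : V, ¬ LinearMap.range (E R ψ 0) ≤ Submodule.span k {x} := by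
    intro x hx
    have h4 := Submodule.finrank_mono hx
    have h5 : finrank k (Submodule.span k {x}) ≤ 1 := by
      have h6 := finrank_span_le_card (R := k) ({x} : Set V)
      simpa using h6
    omega
  refine ⟨fun hy => h3 v (hle.trans (h1 _ _ hy)), fun hy => h3 (vs R ψ v) ?_⟩
  refine hle.trans ?_
  rw [Set.pair_comm]
  exact h1 _ _ hy

/-- Coordinates on the two-dimensional fixed space. -/
theorem Hw.coords (h : Hw R ψ v lam) (h2 : finrank k (LinearMap.range (E R ψ 0)) = 2) :
    ∃ φ φ' : V →ₗ[k] k, φ v = 1 ∧ φ (vs R ψ v) = 0 ∧ φ' v = 0 ∧ φ' (vs R ψ v) = 1 ∧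
      E R ψ 0 = φ.smulRight v + φ'.smulRight (vs R ψ v) := by
  have hli := h.indep hψ hK hspan h2
  have hE : ∀ x, E R ψ 0 (E R ψ 0 x) = E R ψ 0 x := by
    intro x
    rw [← Module.End.mul_apply, E_mul_self R hψ hK]
  have hvs : E R ψ 0 (vs R ψ v) = vs R ψ v := hE _
  have hex : ∀ x y : V, y ∉ Submodule.span k {x} → ∃ φ : V →ₗ[k] k, φ x = 0 ∧ φ y = 1 := by
    intro x y hy
    obtain ⟨f, hf, hf'⟩ := Submodule.exists_dual_map_eq_bot_of_notMem hy inferInstance
    have hx : f x = 0 := by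
      have h6 : f x ∈ (Submodule.span k {x}).map f := ⟨x, Submodule.mem_span_singleton_self x, rfl⟩
      rw [hf'] at h6
      exact h6
    refine ⟨(f y)⁻¹ • f, ?_, ?_⟩
    · rw [LinearMap.smul_apply, hx, smul_zero]
    · rw [LinearMap.smul_apply, smul_eq_mul, inv_mul_cancel₀ hf]
  obtain ⟨φ', h3, h3'⟩ := hex _ _ hli.1
  obtain ⟨φ, h1', h1⟩ := hex _ _ hli.2
  refine ⟨φ.comp (E R ψ 0), φ'.comp (E R ψ 0), ?_, ?_, ?_, ?_, ?_⟩
  · rw [LinearMap.comp_apply, h.fix, h1]
  · rw [LinearMap.comp_apply, hvs, h1']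
  · rw [LinearMap.comp_apply, h.fix, h3]
  · rw [LinearMap.comp_apply, hvs, h3']
  · ext x
    have h4 := h.range_le hψ hK hspan (LinearMap.mem_range_self (E R ψ 0) x)
    rw [Submodule.mem_span_pair] at h4
    obtain ⟨α, β, h5⟩ := h4
    rw [LinearMap.add_apply, LinearMap.smulRight_apply, LinearMap.smulRight_apply, LinearMap.comp_apply,
      LinearMap.comp_apply, ← h5]
    simp only [map_add, map_smul, h1, h1', h3, h3', smul_eq_mul, mul_one, mul_zero, add_zero, zero_add]

/-- Two-dimensional fixed space: the torus. -/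
theorem Hw.trace_two (h : Hw R ψ v lam) (h2 : finrank k (LinearMap.range (E R ψ 0)) = 2) (a : Kˣ) :
    LinearMap.trace k V (R (t a) * E R ψ 0) = lam a + (lam a)⁻¹ := by
  obtain ⟨φ, φ', h3, h4, h5, h6, h7⟩ := h.coords hψ hK hspan h2
  have h8 : R (t a) * E R ψ 0 = (φ.smulRight (lam a • v) + φ'.smulRight ((lam a)⁻¹ • vs R ψ v)) := by
    rw [h7]
    ext x
    rw [Module.End.mul_apply, LinearMap.add_apply, LinearMap.smulRight_apply, LinearMap.smulRight_apply, map_add,
      map_smul, map_smul, h.tor, h.t_vs, LinearMap.add_apply, LinearMap.smulRight_apply,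
      LinearMap.smulRight_apply]
  rw [h8, map_add, LinearMap.trace_smulRight, LinearMap.trace_smulRight, map_smul, map_smul, h3, h6, smul_eq_mul,
    smul_eq_mul, mul_one, mul_one]

/-- Two-dimensional fixed space: the Weyl element. -/
theorem Hw.trace_w_two [DecidableEq K] (h : Hw R ψ v lam) (h2 : finrank k (LinearMap.range (E R ψ 0)) = 2) :
    LinearMap.trace k V (R (Sl2.w 1) * E R ψ 0) = (Fintype.card K : k)⁻¹ * ∑ x : Kˣ, lam x := by
  obtain ⟨φ, φ', h3, h4, h5, h6, h7⟩ := h.coords hψ hK hspan h2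
  have h8 : LinearMap.trace k V (R (Sl2.w 1) * E R ψ 0) =
      LinearMap.trace k V (E R ψ 0 * R (Sl2.w 1) * E R ψ 0) := by
    conv_lhs => rw [← E_mul_self R hψ hK 0, ← mul_assoc, LinearMap.trace_mul_comm]
    rw [mul_assoc]
  have h9 : E R ψ 0 * R (Sl2.w 1) * E R ψ 0 = φ.smulRight (vs R ψ v) +
      φ'.smulRight ((Fintype.card K : k)⁻¹ • (lam (-1) • v + (∑ x : Kˣ, lam x) • vs R ψ v)) := by
    rw [← h.hecke]
    ext x
    have h10 := congrArg (fun f : Module.End k V => f x) h7
    simp only [LinearMap.add_apply, LinearMap.smulRight_apply] at h10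
    rw [Module.End.mul_apply, Module.End.mul_apply, LinearMap.add_apply, LinearMap.smulRight_apply,
      LinearMap.smulRight_apply, h10, map_add, map_add, map_smul, map_smul, map_smul, map_smul]
    rfl
  rw [h8, h9, map_add, LinearMap.trace_smulRight, LinearMap.trace_smulRight, h4, map_smul, map_add, map_smul,
    map_smul, h5, h6]
  simp

/-- Two-dimensional fixed space: the torus character is not quadratic. -/
theorem Hw.exists_sq_ne (h : Hw R ψ v lam) (h2 : finrank k (LinearMap.range (E R ψ 0)) = 2) :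
    ∃ a, lam a ^ 2 ≠ 1 := by
  by_contra hcon
  push Not at hcon
  obtain ⟨φ, φ', h3, h4, h5, h6, h7⟩ := h.coords hψ hK hspan h2
  have hinv : ∀ a, (lam a)⁻¹ = lam a := by
    intro a
    apply inv_eq_of_mul_eq_one_left
    rw [← sq, hcon]
  have ht : ∀ a, R (t a) * E R ψ 0 = lam a • E R ψ 0 := by
    intro a
    rw [h7]
    ext x
    rw [Module.End.mul_apply, LinearMap.add_apply, LinearMap.smulRight_apply, LinearMap.smulRight_apply, map_add,
      map_smul, map_smul, h.tor, h.t_vs, hinv, LinearMap.smul_apply, LinearMap.add_apply, LinearMap.smulRight_apply,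
      LinearMap.smulRight_apply, smul_add, smul_comm, smul_comm (φ' x)]
  set e := E R ψ 0 with he
  set W := e * R (Sl2.w 1) * e with hW
  have hee : e * e = e := E_mul_self R hψ hK 0
  have heu : ∀ x, e * R (Sl2.u x) = e := by
    intro x
    have h8 := E_mul_R R ψ 0 x
    rwa [zero_mul, AddChar.map_zero_eq_one, one_smul] at h8
  have hue : ∀ x, R (Sl2.u x) * e = e := by
    intro x
    have h8 := R_mul_E R ψ 0 x
    rwa [zero_mul, AddChar.map_zero_eq_one, one_smul] at h8
  have key : ∀ A : Module.End k V, ∃ α β : k, e * A * e = α • e + β • W := by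
    intro A
    have hA : A ∈ Submodule.span k (Set.range R) := by rw [hspan]; trivial
    induction hA using Submodule.span_induction with
    | mem x hx =>
      obtain ⟨g, rfl⟩ := hx
      rcases bruhat g with ⟨x, a, rfl⟩ | ⟨x, c, y, rfl⟩
      · refine ⟨lam a, 0, ?_⟩
        rw [map_mul, mul_assoc, mul_assoc, ht, mul_smul_comm, hue, mul_smul_comm, hee, zero_smul, add_zero]
      · refine ⟨0, lam c, ?_⟩
        rw [map_mul, map_mul, ← mul_assoc, ← mul_assoc, heu, mul_assoc, hue, ← w_one_mul_t, map_mul, mul_assoc,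
          mul_assoc, ht, mul_smul_comm, mul_smul_comm, zero_smul, zero_add, hW, mul_assoc]
    | zero => exact ⟨0, 0, by simp⟩
    | add x y _ _ hx hy =>
      obtain ⟨α, β, h8⟩ := hx
      obtain ⟨α', β', h9⟩ := hy
      refine ⟨α + α', β + β', ?_⟩
      rw [mul_add, add_mul, h8, h9, add_smul, add_smul]
      abel
    | smul a x _ hx =>
      obtain ⟨α, β, h8⟩ := hx
      refine ⟨a * α, a * β, ?_⟩
      rw [mul_smul_comm, smul_mul_assoc, h8, smul_add, smul_smul, smul_smul]
  have heW : e * W = W := by rw [hW, ← mul_assoc, ← mul_assoc, hee]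
  have hWe : W * e = W := by rw [hW, mul_assoc, hee]
  have h8 := finrank_le_one_of_comm e hee (by
    intro A B
    obtain ⟨α, β, h8⟩ := key A
    obtain ⟨α', β', h9⟩ := key B
    rw [h8, h9]
    simp only [mul_add, add_mul, smul_mul_smul_comm, hee, heW, hWe, mul_comm α' α, mul_comm α' β, mul_comm β' α,
      mul_comm β' β]
    abel)
  rw [h2] at h8
  omega

/-- One-dimensional fixed space. -/
theorem Hw.one [DecidableEq K] (h : Hw R ψ v lam) (h1 : finrank k (LinearMap.range (E R ψ 0)) = 1) :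
    ∃ c : k, c ≠ 0 ∧ vs R ψ v = c • v ∧ (Fintype.card K : k) * c ^ 2 = lam (-1) + c * ∑ x : Kˣ, lam x ∧
      (∀ a, lam a ^ 2 = 1) ∧ (∀ a, LinearMap.trace k V (R (t a) * E R ψ 0) = lam a) ∧
      LinearMap.trace k V (R (Sl2.w 1) * E R ψ 0) = c ∧ ∃ φ : V →ₗ[k] k, φ v = 1 ∧ E R ψ 0 = φ.smulRight v := by
  have hv : v ∈ LinearMap.range (E R ψ 0) := ⟨v, h.fix⟩
  obtain ⟨φ₀, hφ₀⟩ := exists_dual (k := k) h.ne
  have hE : E R ψ 0 = (φ₀.comp (E R ψ 0)).smulRight v := by
    ext x
    rw [LinearMap.smulRight_apply, LinearMap.comp_apply]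
    have h3 := (finrank_eq_one_iff_of_nonzero' (⟨v, hv⟩ : LinearMap.range (E R ψ 0))
      (fun h0 => h.ne (congrArg Subtype.val h0))).1 h1 ⟨E R ψ 0 x, LinearMap.mem_range_self _ _⟩
    obtain ⟨c, hc⟩ := h3
    have h4 : c • v = E R ψ 0 x := congrArg Subtype.val hc
    rw [← h4, map_smul, hφ₀, smul_eq_mul, mul_one]
  set φ := φ₀.comp (E R ψ 0) with hφdef
  have hφ : φ v = 1 := by rw [hφdef, LinearMap.comp_apply, h.fix, hφ₀]
  have hEx : ∀ x, E R ψ 0 x = φ x • v := fun x => congrArg (fun f : Module.End k V => f x) hE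
  have hvs : vs R ψ v = φ (R (Sl2.w 1) v) • v := hEx _
  set c := φ (R (Sl2.w 1) v) with hc
  have hinj : ∀ a b : k, a • v = b • v → a = b := by
    intro a b h'
    have h1 : (a - b) • v = 0 := by rw [sub_smul, h', sub_self]
    exact sub_eq_zero.1 ((smul_eq_zero.1 h1).resolve_right h.ne)
  have hq : (Fintype.card K : k) * c ^ 2 = lam (-1) + c * ∑ x : Kˣ, lam x := by
    have h3 := h.hecke
    rw [hvs, map_smul, map_smul, hEx, ← hc, smul_smul, smul_smul, ← add_smul, smul_smul] at h3
    have h4 := hinj _ _ h3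
    have h5 : (Fintype.card K : k) * (c * c) = lam (-1) + (∑ x : Kˣ, lam x) * c := by
      rw [h4, ← mul_assoc, mul_inv_cancel₀ hK, one_mul]
    rw [sq, h5, mul_comm c]
  have hc0 : c ≠ 0 := by
    intro h0
    rw [h0] at hq
    apply lam_ne lam (-1)
    rw [zero_pow two_ne_zero, mul_zero, zero_mul, add_zero] at hq
    exact hq.symm
  have hsq : ∀ a, lam a ^ 2 = 1 := by
    intro a
    have h3 := h.t_vs a
    rw [hvs, map_smul, h.tor, smul_smul, smul_smul] at h3
    have h4 := hinj _ _ h3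
    rw [mul_comm] at h4
    have h5 := mul_right_cancel₀ hc0 h4
    rw [sq]
    nth_rewrite 2 [h5]
    exact mul_inv_cancel₀ (lam_ne lam a)
  refine ⟨c, hc0, hvs, hq, hsq, ?_, ?_, φ, hφ, hE⟩
  · intro a
    have h3 : R (t a) * E R ψ 0 = φ.smulRight (lam a • v) := by
      ext x
      rw [Module.End.mul_apply, hEx, map_smul, h.tor, LinearMap.smulRight_apply]
    rw [h3, LinearMap.trace_smulRight, map_smul, hφ, smul_eq_mul, mul_one]
  · have h3 : R (Sl2.w 1) * E R ψ 0 = φ.smulRight (R (Sl2.w 1) v) := by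
      ext x
      rw [Module.End.mul_apply, hEx, map_smul, LinearMap.smulRight_apply]
    rw [h3, LinearMap.trace_smulRight]

end TrA

end Cfsg.Agent.H464.Sl2
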