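import Cfsg.Agent.H464.Sl2Dims

/-!
# Representations of `SL₂(K)` missing a weight are determined by their restriction to `U` and the centre (helper464)
-/

set_option autoImplicit false
set_option linter.unusedSectionVars false

namespace Cfsg.Agent.H464.Sl2

open Matrix Module

section Uniq

variable {K : Type*} [Field K] [Fintype K] {k : Type*} [Field k]
  {V : Type*} [AddCommGroup V] [Module k V] [FiniteDimensional k V]
  {V' : Type*} [AddCommGroup V'] [Module k V'] [FiniteDimensional k V']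
  (R : SpecialLinearGroup (Fin 2) K →* Module.End k V) (R' : SpecialLinearGroup (Fin 2) K →* Module.End k V')
  {ψ : AddChar K k} (hψ : ψ.IsPrimitive) (hK : (Fintype.card K : k) ≠ 0)

/-- The difference of the two characters. -/
noncomputable def Dif (g : SpecialLinearGroup (Fin 2) K) : k :=
  LinearMap.trace k V (R g) - LinearMap.trace k V' (R' g)

theorem Dif_comm (g h : SpecialLinearGroup (Fin 2) K) : Dif R R' (g * h) = Dif R R' (h * g) := by
  unfold Dif
  rw [MonoidHom.map_mul, MonoidHom.map_mul, MonoidHom.map_mul, MonoidHom.map_mul, LinearMap.trace_mul_comm,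
    LinearMap.trace_mul_comm k (R' g)]

theorem Dif_conj (h g : SpecialLinearGroup (Fin 2) K) : Dif R R' (h * g * h⁻¹) = Dif R R' g := by
  rw [Dif_comm]
  congr 1
  group

theorem Dif_big (x y : K) (c : Kˣ) : Dif R R' (u x * w c * u y) = Dif R R' (u (x + y) * w c) := by
  rw [Dif_comm, ← mul_assoc, ← u_add, add_comm]

theorem sum_trace {W : Type*} [AddCommGroup W] [Module k W] [FiniteDimensional k W]
    (S : SpecialLinearGroup (Fin 2) K →* Module.End k W) {b : K} (hS : E S ψ b = 0) (c : Kˣ)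
    (hK : (Fintype.card K : k) ≠ 0) :
    ∑ x : K, ψ (-(b * x)) * LinearMap.trace k W (S (u x * w c)) = 0 := by
  have h1 : ∑ x : K, ψ (-(b * x)) • S (u x) = 0 := by
    have h2 := congrArg (fun f => (Fintype.card K : k) • f) hS
    simp only [E, smul_smul, mul_inv_cancel₀ hK, one_smul, smul_zero] at h2
    exact h2
  have h2 := congrArg (fun f => LinearMap.trace k W (f * S (w c))) h1
  simp only [Finset.sum_mul, zero_mul, map_sum, map_zero, smul_mul_assoc, map_smul, smul_eq_mul] at h2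
  rw [← h2]
  refine Finset.sum_congr rfl fun x _ => ?_
  rw [MonoidHom.map_mul]

theorem sum_Dif {b : K} (hb : E R ψ b = 0) (hb' : E R' ψ b = 0) (c : Kˣ) (hK : (Fintype.card K : k) ≠ 0) :
    ∑ x : K, ψ (-(b * x)) * Dif R R' (u x * w c) = 0 := by
  unfold Dif
  simp only [mul_sub, Finset.sum_sub_distrib]
  rw [sum_trace R hb c hK, sum_trace R' hb' c hK, sub_zero]

variable (h2 : ringChar K ≠ 2)
  (htr : ∀ x, LinearMap.trace k V (R (u x)) = LinearMap.trace k V' (R' (u x)))
  (hz : ∃ c : k, R (t (-1)) = c • 1 ∧ R' (t (-1)) = c • 1)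

include htr hz in
/-- The difference vanishes on the elements of trace `± 2`. -/
theorem Dif_pm {g : SpecialLinearGroup (Fin 2) K} (ht : (g.1 0 0 + g.1 1 1) ^ 2 - 4 = 0) : Dif R R' g = 0 := by
  obtain ⟨h, ε, y, hε, rfl⟩ := exists_conj_unip g ht
  rw [Dif_conj]
  have h1 : ε = 1 ∨ ε = -1 := by
    have h2 : (ε : K) ^ 2 = 1 := by
      rw [← Units.val_pow_eq_pow_val, hε, Units.val_one]
    rw [sq] at h2
    rcases mul_self_eq_one_iff.1 h2 with h | h
    · exact Or.inl (Units.ext h)
    · exact Or.inr (Units.ext h)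
  rcases h1 with rfl | rfl
  · rw [t_one, one_mul, Dif, htr, sub_self]
  · obtain ⟨c, hc, hc'⟩ := hz
    rw [Dif, MonoidHom.map_mul, MonoidHom.map_mul, hc, hc', smul_mul_assoc, smul_mul_assoc, one_mul, one_mul,
      map_smul, map_smul, htr, sub_self]

/-- Conjugating into the big cell with a given lower left entry. -/
theorem exists_lower (h2 : (2 : K) ≠ 0) (τ : K) (hτ : τ ^ 2 - 4 ≠ 0) (c : Kˣ) :
    ∃ (h : SpecialLinearGroup (Fin 2) K) (x y : K), h * (u τ * w 1) * h⁻¹ = u x * w c * u y ∧ c * (x + y) = τ := by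
  have h4 : (4 : K) ≠ 0 := by
    have : (4 : K) = 2 * 2 := by norm_num
    rw [this]
    exact mul_ne_zero h2 h2
  have hD : (τ ^ 2 - 4) / 4 ≠ 0 := div_ne_zero hτ h4
  obtain ⟨X, Y, hXY⟩ := Cfsg.Agent.H906.exists_sq_sub h2 ((τ ^ 2 - 4) / 4) (c : K) hD
  obtain ⟨z, w', hzw⟩ : ∃ z w' : K, z ^ 2 + τ * z * w' + w' ^ 2 = c := by
    refine ⟨X - τ * Y / 2, Y, ?_⟩
    have h5 : (2 : K)⁻¹ * 2 = 1 := inv_mul_cancel₀ h2
    have h6 : (4 : K)⁻¹ = 2⁻¹ * 2⁻¹ := by
      rw [← mul_inv]; norm_num
    rw [← hXY, div_eq_mul_inv, div_eq_mul_inv, h6]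
    linear_combination (-τ * X * Y + τ ^ 2 * Y ^ 2 * 2⁻¹ - Y ^ 2 * (1 + 2⁻¹ * 2)) * h5
  obtain ⟨x', y', hdet⟩ : ∃ x' y' : K, x' * w' - y' * z = 1 := by
    by_cases hw : w' = 0
    · have hz : z ≠ 0 := by
        rintro rfl
        rw [hw] at hzw
        apply c.ne_zero
        rw [← hzw]
        ring
      exact ⟨0, -z⁻¹, by rw [hw]; field_simp; ring⟩
    · exact ⟨w'⁻¹, 0, by field_simp; ring⟩
  let h : SpecialLinearGroup (Fin 2) K := ⟨!![x', y'; z, w'], by rw [Matrix.det_fin_two]; simpa using hdet⟩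
  have hg : (h * (u τ * w 1) * h⁻¹).1 = !![x' * τ * w' + y' * w' + x' * z, -(x' * τ * y') - y' ^ 2 - x' ^ 2;
      z * τ * w' + w' ^ 2 + z ^ 2, -(z * τ * y') - w' * y' - z * x'] := by
    change (!![x', y'; z, w'] * (!![1, τ; 0, 1] * !![0, -((1⁻¹ : Kˣ) : K); ((1 : Kˣ) : K), 0])) *
      (adjugate !![x', y'; z, w']) = _
    rw [Matrix.adjugate_fin_two_of]
    ext i j
    fin_cases i <;> fin_cases j <;> simp [Matrix.mul_apply, Fin.sum_univ_two] <;> ring
  refine ⟨h, ?_⟩
  have e10 : (h * (u τ * w 1) * h⁻¹).1 1 0 = (c : K) := by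
    rw [hg, ← hzw]
    simp
    ring
  have etr : (h * (u τ * w 1) * h⁻¹).1 0 0 + (h * (u τ * w 1) * h⁻¹).1 1 1 = τ := by
    rw [hg]
    simp
    linear_combination τ * hdet
  generalize h * (u τ * w 1) * h⁻¹ = g at *
  rcases bruhat g with ⟨x, a, rfl⟩ | ⟨x, c', y, rfl⟩
  · exfalso
    apply c.ne_zero
    rw [← e10]
    change ((u x).1 * (t a).1) 1 0 = 0
    have e1 : (u x).1 = !![1, x; 0, 1] := rfl
    have e2 : (t a).1 = !![(a : K), 0; 0, ((a⁻¹ : Kˣ) : K)] := rfl
    rw [e1, e2]
    simp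
  · have e1 : (u x * w c' * u y).1 = !![x * c', x * c' * y - ((c'⁻¹ : Kˣ) : K); (c' : K), c' * y] := by
      change (!![1, x; 0, 1] * !![0, -((c'⁻¹ : Kˣ) : K); (c' : K), 0]) * !![1, y; 0, 1] = _
      ext i j
      fin_cases i <;> fin_cases j <;> simp [Matrix.mul_apply, Fin.sum_univ_two]
      ring
    rw [e1] at e10 etr
    have hc : c' = c := Units.ext (by simpa using e10)
    rw [hc] at etr ⊢
    refine ⟨x, y, rfl, ?_⟩
    rw [← etr]
    simp
    ring

include hψ hK h2 htr hz

/-- The difference vanishes on the big cell. -/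
theorem Dif_eq_zero_big {b : K} (hb0 : b ≠ 0) (hb : E R ψ b = 0) (hb' : E R' ψ b = 0) (c : Kˣ) (x : K) :
    Dif R R' (u x * w c) = 0 := by
  classical
  have h2' : (2 : K) ≠ 0 := by
    intro h
    apply h2
    have h3 : ringChar K ∣ 2 := (ringChar.spec K 2).1 (by exact_mod_cast h)
    exact (Nat.prime_dvd_prime_iff_eq (CharP.char_is_prime K (ringChar K)) Nat.prime_two).1 h3
  have htrace : ∀ (z : K) (c : Kˣ), (u z * w c).1 0 0 + (u z * w c).1 1 1 = c * z := by
    intro z c
    have e1 : (u z * w c).1 = !![z * c, -((c⁻¹ : Kˣ) : K); (c : K), 0] := by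
      change !![1, z; 0, 1] * !![0, -((c⁻¹ : Kˣ) : K); (c : K), 0] = _
      ext i j
      fin_cases i <;> fin_cases j <;> simp [Matrix.mul_apply, Fin.sum_univ_two]
    rw [e1]
    simp
    ring
  -- independence of `c`
  have hc : ∀ (c : Kˣ) (z : K), Dif R R' (u z * w c) = Dif R R' (u (c * z) * w 1) := by
    intro c z
    by_cases hτ : ((c : K) * z) ^ 2 - 4 = 0
    · rw [Dif_pm R R' htr hz (by rw [htrace]; exact hτ),
        Dif_pm R R' htr hz (by rw [htrace, Units.val_one, one_mul]; exact hτ)]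
    · obtain ⟨h, x, y, e1, e2⟩ := exists_lower h2' ((c : K) * z) hτ c
      rw [← Dif_conj R R' h (u ((c : K) * z) * w 1), e1, Dif_big]
      congr 3
      exact (mul_left_cancel₀ c.ne_zero e2).symm
  -- the Fourier transform
  have hF : ∀ s : K, s ≠ 0 → ∑ y : K, ψ (-(s * y)) * Dif R R' (u y * w 1) = 0 := by
    intro s hs
    have h3 := sum_Dif R R' hb hb' (Units.mk0 (b / s) (div_ne_zero hb0 hs)) hK
    rw [← h3, ← Equiv.sum_comp (Equiv.mulLeft₀ (b / s) (div_ne_zero hb0 hs))]
    refine Finset.sum_congr rfl fun x _ => ?_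
    rw [hc (Units.mk0 (b / s) (div_ne_zero hb0 hs)) x]
    change ψ (-(s * (b / s * x))) * Dif R R' (u (b / s * x) * w 1) = _
    rw [Units.val_mk0]
    congr 3
    field_simp
  have hconst : ∀ z : K, (Fintype.card K : k) * Dif R R' (u z * w 1) = ∑ y : K, Dif R R' (u y * w 1) := by
    intro z
    have h3 : ∑ s : K, ψ (s * z) * ∑ y : K, ψ (-(s * y)) * Dif R R' (u y * w 1) =
        (Fintype.card K : k) * Dif R R' (u z * w 1) := by
      simp only [Finset.mul_sum]
      rw [Finset.sum_comm]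
      have h4 : ∀ y : K, ∑ s : K, ψ (s * z) * (ψ (-(s * y)) * Dif R R' (u y * w 1)) =
          if y = z then (Fintype.card K : k) * Dif R R' (u z * w 1) else 0 := by
        intro y
        have h5 : ∀ s : K, ψ (s * z) * (ψ (-(s * y)) * Dif R R' (u y * w 1)) =
            ψ (s * (z - y)) * Dif R R' (u y * w 1) := by
          intro s
          rw [← mul_assoc, ← AddChar.map_add_eq_mul]
          congr 2
          ring
        rw [Finset.sum_congr rfl fun s _ => h5 s, ← Finset.sum_mul, AddChar.sum_mulShift _ hψ]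
        by_cases hy : y = z
        · rw [if_pos hy, if_pos (by rw [hy, sub_self]), hy]
        · rw [if_neg hy, if_neg (fun h => hy (sub_eq_zero.1 h).symm), Nat.cast_zero, zero_mul]
      rw [Finset.sum_congr rfl fun y _ => h4 y, Finset.sum_ite_eq' Finset.univ z, if_pos (Finset.mem_univ _)]
    rw [← h3, Finset.sum_eq_single (0 : K)]
    · rw [zero_mul, AddChar.map_zero_eq_one, one_mul]
      refine Finset.sum_congr rfl fun y _ => ?_
      rw [zero_mul, neg_zero, AddChar.map_zero_eq_one, one_mul]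
    · intro s _ hs
      rw [hF s hs, mul_zero]
    · intro h
      exact absurd (Finset.mem_univ _) h
  have h0 : Dif R R' (u 2 * w 1) = 0 := by
    apply Dif_pm R R' htr hz
    rw [htrace, Units.val_one]
    norm_num
  have hall : ∀ z, Dif R R' (u z * w 1) = 0 := by
    intro z
    have h3 := hconst z
    rw [← hconst 2, h0, mul_zero, mul_eq_zero] at h3
    exact h3.resolve_left hK
  rw [hc, hall]

/-- **Uniqueness.** -/
theorem trace_eq {b : K} (hb0 : b ≠ 0) (hb : E R ψ b = 0) (hb' : E R' ψ b = 0)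
    (g : SpecialLinearGroup (Fin 2) K) :
    LinearMap.trace k V (R g) = LinearMap.trace k V' (R' g) := by
  have hbig := Dif_eq_zero_big R R' hψ hK h2 htr hz hb0 hb hb'
  suffices h : Dif R R' g = 0 from sub_eq_zero.1 h
  have key : ∀ g : SpecialLinearGroup (Fin 2) K, g.1 1 0 ≠ 0 → Dif R R' g = 0 := by
    intro g hg
    rcases bruhat g with ⟨x, a, rfl⟩ | ⟨x, c', y, rfl⟩
    · exfalso
      apply hg
      change ((u x).1 * (t a).1) 1 0 = 0
      have e1 : (u x).1 = !![1, x; 0, 1] := rfl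
      have e2 : (t a).1 = !![(a : K), 0; 0, ((a⁻¹ : Kˣ) : K)] := rfl
      rw [e1, e2]
      simp
    · rw [Dif_big, hbig]
  by_cases hg : g.1 1 0 = 0
  · by_cases ht : (g.1 0 0 + g.1 1 1) ^ 2 - 4 = 0
    · exact Dif_pm R R' htr hz ht
    · have hdet : g.1 0 0 * g.1 1 1 - g.1 0 1 * g.1 1 0 = 1 := by
        have := g.2
        rwa [Matrix.det_fin_two] at this
      have hlow : ∀ y : K, ∃ h : SpecialLinearGroup (Fin 2) K,
          (h * g * h⁻¹).1 1 0 = y * (g.1 0 0 - g.1 1 1 - y * g.1 0 1) := by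
        intro y
        refine ⟨⟨!![1, 0; y, 1], by simp [Matrix.det_fin_two]⟩, ?_⟩
        change ((!![1, 0; y, 1] * g.1) * (adjugate !![1, 0; y, 1])) 1 0 = _
        rw [Matrix.adjugate_fin_two_of, Matrix.mul_apply, Fin.sum_univ_two, Matrix.mul_apply, Matrix.mul_apply,
          Fin.sum_univ_two, Fin.sum_univ_two]
        simp [hg]
        ring
      obtain ⟨h, hh⟩ := hlow 1
      by_cases h3 : g.1 0 0 - g.1 1 1 - g.1 0 1 = 0
      · obtain ⟨h', hh'⟩ := hlow (-1)
        by_cases h4 : g.1 0 0 - g.1 1 1 + g.1 0 1 = 0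
        · exfalso
          apply ht
          have h2' : (2 : K) ≠ 0 := by
            intro h
            apply h2
            have h3 : ringChar K ∣ 2 := (ringChar.spec K 2).1 (by exact_mod_cast h)
            exact (Nat.prime_dvd_prime_iff_eq (CharP.char_is_prime K (ringChar K)) Nat.prime_two).1 h3
          have h5 : g.1 0 0 - g.1 1 1 = 0 := by
            have : 2 * (g.1 0 0 - g.1 1 1) = 0 := by linear_combination h3 + h4
            exact (mul_eq_zero.1 this).resolve_left h2'
          rw [hg, mul_zero, sub_zero] at hdet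
          linear_combination (g.1 0 0 - g.1 1 1) * h5 + 4 * hdet
        · rw [← Dif_conj R R' h' g]
          apply key
          rw [hh']
          intro h5
          apply h4
          linear_combination -h5
      · rw [← Dif_conj R R' h g]
        apply key
        rw [hh, one_mul, one_mul]
        exact h3
  · exact key g hg

end Uniq

end Cfsg.Agent.H464.Sl2
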