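import Cfsg.Agent.H464.L2TrA
import Cfsg.Agent.H464.Sl2Uniq

/-!
# Traces of `SL₂(q)`, II: the character as a function of the trace (helper464)
-/

set_option autoImplicit false
set_option linter.unusedSectionVars false

namespace Cfsg.Agent.H464.Sl2

open Matrix Module

section Group

variable {K : Type*} [Field K]

theorem tr_big (x y : K) (c : Kˣ) : (u x * w c * u y).1 0 0 + (u x * w c * u y).1 1 1 = c * (x + y) := by
  have e1 : (u x * w c * u y).1 = !![x * c, x * c * y - ((c⁻¹ : Kˣ) : K); (c : K), c * y] := by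
    change (!![1, x; 0, 1] * !![0, -((c⁻¹ : Kˣ) : K); (c : K), 0]) * !![1, y; 0, 1] = _
    ext i j
    fin_cases i <;> fin_cases j <;> simp [Matrix.mul_apply, Fin.sum_univ_two]
    ring
  rw [e1]
  simp
  ring

theorem tr_uw (x : K) (c : Kˣ) : (u x * w c).1 0 0 + (u x * w c).1 1 1 = c * x := by
  have h := tr_big x 0 c
  rwa [u_zero, mul_one, add_zero] at h

theorem tr_conj (h g : SpecialLinearGroup (Fin 2) K) :
    (h * g * h⁻¹).1 0 0 + (h * g * h⁻¹).1 1 1 = g.1 0 0 + g.1 1 1 := by
  have h1 : ∀ g : SpecialLinearGroup (Fin 2) K, g.1 0 0 + g.1 1 1 = g.1.trace := fun g => by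
    rw [Matrix.trace_fin_two]
  rw [h1, h1]
  change ((h.1 * g.1) * (h⁻¹ : SpecialLinearGroup (Fin 2) K).1).trace = _
  rw [Matrix.trace_mul_comm, ← Matrix.mul_assoc]
  have h2 : (h⁻¹ : SpecialLinearGroup (Fin 2) K).1 * h.1 = 1 := by
    have := congrArg Subtype.val (inv_mul_cancel h)
    exact this
  rw [h2, Matrix.one_mul]

/-- The central elements. -/
theorem lower_ne_of_uw (x : K) (c : Kˣ) : (u x * w c).1 1 0 = c := by
  change (!![1, x; 0, 1] * !![0, -((c⁻¹ : Kˣ) : K); (c : K), 0]) 1 0 = _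
  simp [Matrix.mul_apply, Fin.sum_univ_two]

theorem conj_central {h g : SpecialLinearGroup (Fin 2) K} {ε : Kˣ} (hε : ε ^ 2 = 1) (hg : h * g * h⁻¹ = t ε) : g = t ε := by
  have h1 : g = h⁻¹ * t ε * h := by rw [← hg]; group
  rw [h1, mul_assoc, t_sq_central hε, ← mul_assoc, inv_mul_cancel, one_mul]

variable [Fintype K]

/-- Conjugating into the big cell with a given lower left entry, characteristic two. -/
theorem exists_lower_two (h2 : (2 : K) = 0) (τ : K) (c : Kˣ) :
    ∃ (h : SpecialLinearGroup (Fin 2) K), h * (u τ * w 1) * h⁻¹ = u (τ / c) * w c := by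
  have hp2 : CharP K 2 := CharTwo.of_one_ne_zero_of_two_eq_zero one_ne_zero h2
  obtain ⟨z, hz⟩ : IsSquare (c : K) := FiniteField.isSquare_of_char_two (ringChar.eq K 2 ▸ rfl) _
  have hz0 : z ≠ 0 := by
    rintro rfl
    rw [mul_zero] at hz
    exact c.ne_zero hz
  refine ⟨(t (Units.mk0 z hz0))⁻¹, ?_⟩
  rw [inv_inv, mul_assoc, inv_mul_eq_iff_eq_mul]
  apply Subtype.ext
  change (!![1, τ; 0, 1] * !![0, -((1⁻¹ : Kˣ) : K); ((1 : Kˣ) : K), 0]) * !![z, 0; 0, ((Units.mk0 z hz0)⁻¹ : Kˣ)] =
    (!![z, 0; 0, ((Units.mk0 z hz0)⁻¹ : Kˣ)] : Matrix (Fin 2) (Fin 2) K) *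
    (!![1, τ / c; 0, 1] * !![0, -((c⁻¹ : Kˣ) : K); (c : K), 0])
  rw [hz]
  ext i j
  fin_cases i <;> fin_cases j <;> simp [Matrix.mul_apply, Fin.sum_univ_two, hz] <;> field_simp

end Group

section Chi

variable {K : Type*} [Field K] [Fintype K] {k : Type*} [Field k] {V : Type*} [AddCommGroup V] [Module k V]
  [FiniteDimensional k V] (R : SpecialLinearGroup (Fin 2) K →* Module.End k V) {ψ : AddChar K k}

/-- The character. -/
noncomputable def chi (g : SpecialLinearGroup (Fin 2) K) : k := LinearMap.trace k V (R g)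

theorem chi_comm (g h : SpecialLinearGroup (Fin 2) K) : chi R (g * h) = chi R (h * g) := by
  unfold chi
  rw [MonoidHom.map_mul, MonoidHom.map_mul, LinearMap.trace_mul_comm]

theorem chi_conj (h g : SpecialLinearGroup (Fin 2) K) : chi R (h * g * h⁻¹) = chi R g := by
  rw [chi_comm]
  congr 1
  group

theorem chi_big (x y : K) (c : Kˣ) : chi R (u x * w c * u y) = chi R (u (x + y) * w c) := by
  rw [chi_comm, ← mul_assoc, ← u_add, add_comm]

/-- The character as a function of the trace. -/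
noncomputable def ct (s : K) : k := chi R (u s * w 1)

theorem chi_u_mul_w {τ : K} (hτ : τ ^ 2 - 4 ≠ 0) (x : K) (c : Kˣ) (hx : c * x = τ) :
    chi R (u x * w c) = ct R τ := by
  by_cases h2 : (2 : K) = 0
  · obtain ⟨h, hh⟩ := exists_lower_two h2 τ c
    rw [ct, ← chi_conj R h (u τ * w 1), hh]
    congr 3
    rw [eq_div_iff c.ne_zero, ← hx, mul_comm]
  · obtain ⟨h, x', y', h1, h3⟩ := exists_lower h2 τ hτ c
    rw [ct, ← chi_conj R h (u τ * w 1), h1, chi_big]
    congr 3
    apply mul_left_cancel₀ c.ne_zero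
    rw [h3, hx]

variable (hψ : ψ.IsPrimitive) (hK : (Fintype.card K : k) ≠ 0)

theorem trace_w_mul_E (c : Kˣ) (b : K) : (Fintype.card K : k) * LinearMap.trace k V (E R ψ b * R (w c)) =
    (Fintype.card K : k) * ((Fintype.card K : k)⁻¹ * ∑ x, ψ (-(b * x)) * chi R (u x * w c)) := by
  congr 1
  unfold E
  rw [smul_mul_assoc, map_smul, Finset.sum_mul, map_sum, smul_eq_mul]
  congr 1
  refine Finset.sum_congr rfl fun x _ => ?_
  rw [smul_mul_assoc, map_smul, smul_eq_mul, chi, MonoidHom.map_mul]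

include hK in
theorem trace_E_w (c : Kˣ) (b : K) : (Fintype.card K : k) * LinearMap.trace k V (E R ψ b * R (w c)) =
    ∑ x, ψ (-(b * x)) * chi R (u x * w c) := by
  rw [trace_w_mul_E, ← mul_assoc, mul_inv_cancel₀ hK, one_mul]

include hK in
theorem sum_ct : (Fintype.card K : k) * LinearMap.trace k V (R (w 1) * E R ψ 0) = ∑ s, ct R s := by
  rw [LinearMap.trace_mul_comm, trace_E_w R hK]
  refine Finset.sum_congr rfl fun x _ => ?_
  rw [zero_mul, neg_zero, AddChar.map_zero_eq_one, one_mul]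
  rfl

include hψ hK in
/-- Split elements. -/
theorem chi_t {a : Kˣ} (ha : a ^ 2 ≠ 1) : chi R (t a) = LinearMap.trace k V (R (t a) * E R ψ 0) := by
  classical
  have h1 : R (t a) = ∑ b, R (t a) * E R ψ b := by
    rw [← Finset.mul_sum, sum_E R hψ hK, mul_one]
  rw [chi]
  conv_lhs => rw [h1]
  rw [map_sum, Finset.sum_eq_single (0 : K)]
  · intro b _ hb
    have h2 : LinearMap.trace k V (R (t a) * E R ψ b) = LinearMap.trace k V (E R ψ b * R (t a) * E R ψ b) := by
      conv_lhs => rw [← E_mul_self R hψ hK b, ← mul_assoc, LinearMap.trace_mul_comm]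
      rw [mul_assoc]
    rw [h2, E_t_E R hψ hK hb ha, map_zero]
  · intro h
    exact absurd (Finset.mem_univ _) h

include hψ hK in
/-- Unipotent elements, all weights present. -/
theorem chi_u (hall : ∀ b : K, b ≠ 0 → finrank k (LinearMap.range (E R ψ b)) = 1) {x : K} (hx : x ≠ 0) :
    chi R (u x) = (finrank k (LinearMap.range (E R ψ 0)) : k) - 1 := by
  classical
  rw [chi, trace_u R hψ hK, ← Finset.add_sum_erase _ _ (Finset.mem_univ (0 : K)), zero_mul, AddChar.map_zero_eq_one,
    one_mul, sub_eq_add_neg]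
  congr 1
  have h1 : ∑ b : K, ψ (b * x) = 0 := by
    have h2 := AddChar.sum_mulShift x hψ
    rw [if_neg hx] at h2
    simpa using h2
  rw [← Finset.add_sum_erase _ _ (Finset.mem_univ (0 : K)), zero_mul, AddChar.map_zero_eq_one] at h1
  rw [← eq_neg_iff_add_eq_zero.2 (add_comm (1 : k) _ ▸ h1)]
  refine Finset.sum_congr rfl fun b hb => ?_
  rw [hall b (Finset.ne_of_mem_erase hb), Nat.cast_one, mul_one]

include hψ hK in
/-- **The character depends only on the trace, off the centre.** -/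
theorem chi_eq (h3K : 3 ≤ Fintype.card K) (hspan : Submodule.span k (Set.range R) = ⊤)
    (hall : ∀ b : K, b ≠ 0 → finrank k (LinearMap.range (E R ψ b)) = 1)
    {g : SpecialLinearGroup (Fin 2) K} (hg : ∀ ε : Kˣ, ε ^ 2 = 1 → g ≠ t ε) :
    chi R g = ct R (g.1 0 0 + g.1 1 1) := by
  by_cases hτ : (g.1 0 0 + g.1 1 1) ^ 2 - 4 = 0
  · obtain ⟨h, ε, y, hε, h1⟩ := exists_conj_unip g hτ
    have hy : y ≠ 0 := by
      rintro rfl
      apply hg ε hε
      rw [h1, u_zero, mul_one, ← t_sq_central hε h, mul_inv_cancel_right]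
    obtain ⟨h', ε', y', hε', h1'⟩ := exists_conj_unip (u (g.1 0 0 + g.1 1 1) * w 1)
      (by rw [tr_uw, Units.val_one, one_mul]; exact hτ)
    have hy' : y' ≠ 0 := by
      rintro rfl
      rw [u_zero, mul_one, ← t_sq_central hε' h', mul_inv_cancel_right] at h1'
      have h2 := lower_ne_of_uw (g.1 0 0 + g.1 1 1) 1
      rw [h1'] at h2
      have h3 : (t ε').1 1 0 = 0 := rfl
      rw [h3] at h2
      exact (Units.ne_zero 1 h2.symm)
    have htr : ∀ (δ : Kˣ) (z : K), δ ^ 2 = 1 → (t δ * u z).1 0 0 + (t δ * u z).1 1 1 = 2 * (δ : K) := by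
      intro δ z hδ
      have e1 : ((δ⁻¹ : Kˣ) : K) = δ := by
        congr 1
        rw [inv_eq_iff_mul_eq_one, ← sq, hδ]
      have e2 : (t δ * u z).1 = !![(δ : K), δ * z; 0, ((δ⁻¹ : Kˣ) : K)] := by
        change !![(δ : K), 0; 0, ((δ⁻¹ : Kˣ) : K)] * !![1, z; 0, 1] = _
        ext i j
        fin_cases i <;> fin_cases j <;> simp [Matrix.mul_apply, Fin.sum_univ_two]
      rw [e2, e1]
      simp
      ring
    have h3 : 2 * (ε : K) = 2 * (ε' : K) := by
      have e1 := tr_conj h (t ε * u y)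
      have e2 := tr_conj h' (t ε' * u y')
      rw [← h1, htr ε y hε] at e1
      rw [← h1', htr ε' y' hε', tr_uw, Units.val_one, one_mul] at e2
      rw [← e1, ← e2]
    have h4 : ε = ε' := by
      by_cases h2 : (2 : K) = 0
      · have h5 : ∀ δ : Kˣ, δ ^ 2 = 1 → δ = 1 := by
          intro δ hδ
          apply Units.ext
          have h6 : ((δ : K) - 1) ^ 2 = 0 := by
            have h7 : (δ : K) ^ 2 = 1 := by rw [← Units.val_pow_eq_pow_val, hδ, Units.val_one]
            linear_combination h7 + (1 - (δ : K)) * h2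
          rw [sq_eq_zero_iff, sub_eq_zero] at h6
          rw [h6, Units.val_one]
        rw [h5 ε hε, h5 ε' hε']
      · exact Units.ext (mul_left_cancel₀ h2 h3)
    obtain ⟨c, hc⟩ := central_scalar R hspan (t_sq_central hε)
    have key : ∀ z : K, z ≠ 0 → chi R (t ε * u z) = c * ((finrank k (LinearMap.range (E R ψ 0)) : k) - 1) := by
      intro z hz
      rw [← chi_u R hψ hK hall hz, chi, MonoidHom.map_mul, hc, smul_mul_assoc, one_mul, map_smul, smul_eq_mul]
      rfl
    rw [ct, h1', chi_conj, ← h4, key y' hy']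
    conv_lhs => rw [h1]
    rw [chi_conj, key y hy]
  · -- conjugate into the big cell
    have hdet : g.1 0 0 * g.1 1 1 - g.1 0 1 * g.1 1 0 = 1 := by
      have := g.2
      rwa [Matrix.det_fin_two] at this
    have hbig : ∀ g' : SpecialLinearGroup (Fin 2) K, g'.1 1 0 ≠ 0 → g'.1 0 0 + g'.1 1 1 = g.1 0 0 + g.1 1 1 →
        chi R g' = ct R (g.1 0 0 + g.1 1 1) := by
      intro g' hg' htr
      rcases bruhat g' with ⟨x, a, rfl⟩ | ⟨x, c, y, rfl⟩
      · exfalso
        apply hg'
        change ((u x).1 * (t a).1) 1 0 = 0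
        have e1 : (u x).1 = !![1, x; 0, 1] := rfl
        have e2 : (t a).1 = !![(a : K), 0; 0, ((a⁻¹ : Kˣ) : K)] := rfl
        rw [e1, e2]
        simp
      · rw [chi_big]
        rw [tr_big] at htr
        exact chi_u_mul_w R hτ _ c htr
    by_cases hg10 : g.1 1 0 = 0
    · have hlow : ∀ y : K, ∃ h : SpecialLinearGroup (Fin 2) K,
          (h * g * h⁻¹).1 1 0 = y * (g.1 0 0 - g.1 1 1 - y * g.1 0 1) := by
        intro y
        refine ⟨⟨!![1, 0; y, 1], by simp [Matrix.det_fin_two]⟩, ?_⟩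
        change ((!![1, 0; y, 1] * g.1) * (adjugate !![1, 0; y, 1])) 1 0 = _
        rw [Matrix.adjugate_fin_two_of, Matrix.mul_apply, Fin.sum_univ_two, Matrix.mul_apply, Matrix.mul_apply,
          Fin.sum_univ_two, Fin.sum_univ_two]
        simp [hg10]
        ring
      obtain ⟨y, hy0, hy⟩ : ∃ y : K, y ≠ 0 ∧ g.1 0 0 - g.1 1 1 - y * g.1 0 1 ≠ 0 := by
        classical
        obtain ⟨y, hy⟩ : ∃ y : K, y ∉ ({0, (g.1 0 0 - g.1 1 1) / g.1 0 1} : Finset K) := by
          by_contra hcon
          push Not at hcon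
          have h1 : Fintype.card K ≤ 2 := by
            rw [← Finset.card_univ]
            exact (Finset.card_le_card fun y _ => hcon y).trans Finset.card_le_two
          omega
        rw [Finset.mem_insert, Finset.mem_singleton, not_or] at hy
        refine ⟨y, hy.1, ?_⟩
        intro h0
        by_cases hb : g.1 0 1 = 0
        · apply hτ
          rw [hb, mul_zero, sub_zero] at h0
          rw [hg10, mul_zero, sub_zero] at hdet
          linear_combination (g.1 0 0 - g.1 1 1) * h0 + 4 * hdet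
        · apply hy.2
          rw [eq_div_iff hb]
          linear_combination -h0
      obtain ⟨h, hh⟩ := hlow y
      rw [← chi_conj R h g]
      apply hbig
      · rw [hh]
        exact mul_ne_zero hy0 hy
      · exact tr_conj h g
    · exact hbig g hg10 rfl

end Chi

end Cfsg.Agent.H464.Sl2
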