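import Cfsg.Agent.H464.L2TrB

/-!
# Traces of `SL₂(q)`, III: class sums of nonsplit elements (helper464)
-/

set_option autoImplicit false
set_option linter.unusedSectionVars false

namespace Cfsg.Agent.H464.Sl2

open Matrix Module

variable {K : Type*} [Field K] [Fintype K]

/-- No eigenvalues. -/
def NonSplit (τ : K) : Prop := ∀ x : K, x ^ 2 - τ * x + 1 ≠ 0

/-- The elements of trace `τ`. -/
noncomputable def Cl (τ : K) : Finset (SpecialLinearGroup (Fin 2) K) :=
  (Set.toFinite {g : SpecialLinearGroup (Fin 2) K | g.1 0 0 + g.1 1 1 = τ}).toFinset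

theorem mem_Cl {τ : K} {g : SpecialLinearGroup (Fin 2) K} : g ∈ Cl τ ↔ g.1 0 0 + g.1 1 1 = τ := by
  unfold Cl
  rw [Set.Finite.mem_toFinset]
  rfl

theorem NonSplit.lower_ne {τ : K} (hτ : NonSplit τ) {g : SpecialLinearGroup (Fin 2) K} (hg : g ∈ Cl τ) :
    g.1 1 0 ≠ 0 := by
  intro h
  rw [mem_Cl] at hg
  have hdet : g.1 0 0 * g.1 1 1 - g.1 0 1 * g.1 1 0 = 1 := by
    have := g.2
    rwa [Matrix.det_fin_two] at this
  apply hτ (g.1 0 0)
  rw [h, mul_zero, sub_zero] at hdet
  linear_combination (g.1 0 0) * hg - hdet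

theorem u_w_u_inj {x y x' y' : K} {c c' : Kˣ} (h : u x * w c * u y = u x' * w c' * u y') : x = x' ∧ c = c' ∧ y = y' := by
  have e1 : ∀ (x y : K) (c : Kˣ), (u x * w c * u y).1 = !![x * c, x * c * y - ((c⁻¹ : Kˣ) : K); (c : K), c * y] := by
    intro x y c
    change (!![1, x; 0, 1] * !![0, -((c⁻¹ : Kˣ) : K); (c : K), 0]) * !![1, y; 0, 1] = _
    ext i j
    fin_cases i <;> fin_cases j <;> simp [Matrix.mul_apply, Fin.sum_univ_two]
    ring
  have h1 := congrArg Subtype.val h
  rw [e1, e1] at h1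
  have hc : (c : K) = c' := by simpa using congrFun (congrFun h1 1) 0
  have hc' : c = c' := Units.ext hc
  subst hc'
  have hx : x * c = x' * c := by simpa using congrFun (congrFun h1 0) 0
  have hy : (c : K) * y = c * y' := by simpa using congrFun (congrFun h1 1) 1
  exact ⟨mul_right_cancel₀ c.ne_zero hx, rfl, mul_left_cancel₀ c.ne_zero hy⟩

/-- Parametrisation of the elements of nonsplit trace. -/
theorem sum_Cl [DecidableEq K] {τ : K} (hτ : NonSplit τ) {M : Type*} [AddCommMonoid M]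
    (F : SpecialLinearGroup (Fin 2) K → M) :
    ∑ g ∈ Cl τ, F g = ∑ c : Kˣ, ∑ x : K, F (u x * w c * u (τ * ((c⁻¹ : Kˣ) : K) - x)) := by
  rw [← Finset.sum_product', ]
  symm
  refine Finset.sum_bij (fun p _ => u p.2 * w p.1 * u (τ * ((p.1⁻¹ : Kˣ) : K) - p.2)) ?_ ?_ ?_ ?_
  · rintro ⟨c, x⟩ _
    rw [mem_Cl, tr_big]
    dsimp only
    rw [add_sub_cancel, mul_comm τ, ← mul_assoc, ← Units.val_mul, mul_inv_cancel, Units.val_one, one_mul]
  · rintro ⟨c, x⟩ _ ⟨c', x'⟩ _ h
    obtain ⟨h1, h2, -⟩ := u_w_u_inj h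
    dsimp only at h1 h2
    rw [h1, h2]
  · intro g hg
    have h1 := hτ.lower_ne hg
    rcases bruhat g with ⟨x, a, rfl⟩ | ⟨x, c, y, rfl⟩
    · exfalso
      apply h1
      change ((u x).1 * (t a).1) 1 0 = 0
      have e1 : (u x).1 = !![1, x; 0, 1] := rfl
      have e2 : (t a).1 = !![(a : K), 0; 0, ((a⁻¹ : Kˣ) : K)] := rfl
      rw [e1, e2]
      simp
    · refine ⟨(c, x), by simp, ?_⟩
      rw [mem_Cl, tr_big] at hg
      dsimp only
      congr 2
      rw [← hg, mul_comm (c : K), mul_assoc, ← Units.val_mul, mul_inv_cancel, Units.val_one, mul_one, add_sub_cancel_left]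
  · intro p _
    rfl

section Rep

variable {k : Type*} [Field k] {V : Type*} [AddCommGroup V] [Module k V]
  [FiniteDimensional k V] (R : SpecialLinearGroup (Fin 2) K →* Module.End k V) {ψ : AddChar K k}

/-- An endomorphism commuting with everything is a scalar. -/
theorem scalar_of_comm (hspan : Submodule.span k (Set.range R) = ⊤) {Z : Module.End k V}
    (hz : ∀ g, Z * R g = R g * Z) : ∃ c : k, Z = c • 1 := by
  have h1 : ∀ A : Module.End k V, Z * A = A * Z := by
    intro A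
    have hA : A ∈ Submodule.span k (Set.range R) := by rw [hspan]; trivial
    induction hA using Submodule.span_induction with
    | mem x hx =>
      obtain ⟨h, rfl⟩ := hx
      exact hz h
    | zero => simp
    | add x y _ _ hx hy => rw [mul_add, add_mul, hx, hy]
    | smul a x _ hx => rw [mul_smul_comm, smul_mul_assoc, hx]
  by_cases hV : ∀ v : V, v = 0
  · refine ⟨0, ?_⟩
    ext v
    rw [hV v, map_zero, map_zero]
  · push Not at hV
    obtain ⟨v, hv⟩ := hV
    obtain ⟨φ, hφ⟩ := exists_dual (k := k) hv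
    refine ⟨φ (Z v), ?_⟩
    ext y
    have h2 := congrArg (fun f : Module.End k V => f v) (h1 (φ.smulRight y))
    simp only [Module.End.mul_apply, LinearMap.smulRight_apply, hφ, one_smul] at h2
    rw [h2]
    rfl

/-- The class sum. -/
noncomputable def S (τ : K) : Module.End k V := ∑ g ∈ Cl τ, R g

theorem S_comm (τ : K) (h : SpecialLinearGroup (Fin 2) K) : S R τ * R h = R h * S R τ := by
  unfold S
  rw [Finset.sum_mul, Finset.mul_sum]
  refine Finset.sum_bij (fun g _ => h⁻¹ * g * h) ?_ ?_ ?_ ?_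
  · intro g hg
    rw [mem_Cl] at hg ⊢
    have h1 := tr_conj h⁻¹ g
    rw [inv_inv] at h1
    rw [h1, hg]
  · intro g _ g' _ h1
    exact mul_left_cancel (mul_right_cancel h1)
  · intro g hg
    refine ⟨h * g * h⁻¹, ?_, by group⟩
    rw [mem_Cl] at hg ⊢
    rw [tr_conj, hg]
  · intro g _
    rw [← MonoidHom.map_mul, ← MonoidHom.map_mul]
    congr 1
    group

variable (hψ : ψ.IsPrimitive) (hK : (Fintype.card K : k) ≠ 0)

theorem trace_E_big (b x y : K) (c : Kˣ) : LinearMap.trace k V (E R ψ b * R (u x * w c * u y)) =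
    ψ (b * (x + y)) * LinearMap.trace k V (E R ψ b * R (w c)) := by
  rw [MonoidHom.map_mul, MonoidHom.map_mul, ← mul_assoc, ← mul_assoc, LinearMap.trace_mul_comm, ← mul_assoc, ← mul_assoc,
    R_mul_E, smul_mul_assoc, E_mul_R, smul_mul_assoc, smul_mul_assoc, map_smul, map_smul, smul_eq_mul, smul_eq_mul,
    ← mul_assoc, ← AddChar.map_add_eq_mul, mul_add, add_comm (b * y)]

include hψ hK in
/-- **The class sum of a nonsplit element.** -/
theorem exists_S (h3K : 3 ≤ Fintype.card K) (hspan : Submodule.span k (Set.range R) = ⊤)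
    (hall : ∀ b : K, b ≠ 0 → finrank k (LinearMap.range (E R ψ b)) = 1) {τ : K} (hτ : NonSplit τ) :
    S R τ = ((Fintype.card K : k) * ct R τ - ∑ s, ct R s) • 1 := by
  classical
  obtain ⟨ω, hω⟩ := scalar_of_comm R hspan (S_comm R τ)
  rw [hω]
  congr 1
  have h1 : LinearMap.trace k V (E R ψ 1 * S R τ) = ω := by
    rw [hω, mul_smul_comm, mul_one, map_smul, trace_E R hψ hK, hall 1 one_ne_zero, Nat.cast_one, smul_eq_mul, mul_one]
  rw [← h1, S, Finset.mul_sum, map_sum, sum_Cl hτ]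
  have h2 : ∀ c : Kˣ, ∑ x : K, LinearMap.trace k V (E R ψ 1 * R (u x * w c * u (τ * ((c⁻¹ : Kˣ) : K) - x))) =
      ∑ s : K, ψ (((c⁻¹ : Kˣ) : K) * (τ - s)) * ct R s := by
    intro c
    have h3 : ∀ x : K, LinearMap.trace k V (E R ψ 1 * R (u x * w c * u (τ * ((c⁻¹ : Kˣ) : K) - x))) =
        ψ (τ * ((c⁻¹ : Kˣ) : K)) * LinearMap.trace k V (E R ψ 1 * R (w c)) := by
      intro x
      rw [trace_E_big, add_sub_cancel, one_mul]
    rw [Finset.sum_congr rfl fun x _ => h3 x, Finset.sum_const, Finset.card_univ, nsmul_eq_mul, mul_left_comm,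
      trace_E_w R hK, Finset.mul_sum]
    rw [← Equiv.sum_comp (Units.mulLeft c) (fun s : K => ψ (((c⁻¹ : Kˣ) : K) * (τ - s)) * ct R s)]
    refine Finset.sum_congr rfl fun x _ => ?_
    rw [← mul_assoc, ← AddChar.map_add_eq_mul]
    have h4 : (Units.mulLeft c x : K) = c * x := rfl
    rw [h4]
    have h5 : chi R (u x * w c) = ct R (c * x) := by
      rw [← tr_uw x c]
      apply chi_eq R hψ hK h3K hspan hall
      intro ε _ h6
      have h7 := lower_ne_of_uw x c
      rw [h6] at h7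
      exact c.ne_zero h7.symm
    rw [h5]
    congr 2
    have h8 : ((c⁻¹ : Kˣ) : K) * c = 1 := by rw [← Units.val_mul, inv_mul_cancel, Units.val_one]
    linear_combination x * h8
  rw [Finset.sum_congr rfl fun c _ => h2 c, Finset.sum_comm]
  have h3 : ∀ s : K, ∑ c : Kˣ, ψ (((c⁻¹ : Kˣ) : K) * (τ - s)) * ct R s =
      (if s = τ then (Fintype.card K : k) * ct R τ else 0) - ct R s := by
    intro s
    rw [← Finset.sum_mul]
    have h4 : ∑ c : Kˣ, ψ (((c⁻¹ : Kˣ) : K) * (τ - s)) = ∑ c : Kˣ, ψ ((c : K) * (τ - s)) :=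
      Equiv.sum_comp (Equiv.inv Kˣ) (fun c : Kˣ => ψ ((c : K) * (τ - s)))
    have h5 : ∑ c : Kˣ, ψ ((c : K) * (τ - s)) = (if s = τ then (Fintype.card K : k) else 0) - 1 := by
      have h6 := sum_units (fun c : K => ψ (c * (τ - s)))
      rw [AddChar.sum_mulShift _ hψ, zero_mul, AddChar.map_zero_eq_one] at h6
      rw [eq_sub_iff_add_eq, add_comm, ← h6]
      by_cases hs : s = τ
      · rw [if_pos hs, if_pos (sub_eq_zero.2 hs.symm)]
      · rw [if_neg hs, if_neg fun h => hs (sub_eq_zero.1 h).symm, Nat.cast_zero]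
    rw [h4, h5, sub_mul, one_mul]
    split_ifs with hs
    · rw [hs]
    · rw [zero_mul]
  rw [Finset.sum_congr rfl fun s _ => h3 s, Finset.sum_sub_distrib, Finset.sum_ite_eq' Finset.univ τ,
    if_pos (Finset.mem_univ _)]

end Rep

end Cfsg.Agent.H464.Sl2
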