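import Cfsg.Agent.H464.L2TrC

/-!
# Traces of `SL₂(q)`, IV: counting (helper464)
-/

set_option autoImplicit false
set_option linter.unusedSectionVars false

namespace Cfsg.Agent.H464.Sl2

open Matrix Module

section Count

variable {K : Type*} [Field K] [Fintype K] [DecidableEq K]

theorem NonSplit.neg {τ : K} (h : NonSplit τ) : NonSplit (-τ) := by
  intro x hx
  apply h (-x)
  linear_combination hx

theorem NonSplit.sq_sub_ne {τ : K} (h : NonSplit τ) : τ ^ 2 - 4 ≠ 0 := by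
  intro h0
  by_cases h2 : (2 : K) = 0
  · have hp2 : CharP K 2 := CharTwo.of_one_ne_zero_of_two_eq_zero one_ne_zero h2
    apply h 1
    have h1 : τ = 0 := by
      have : τ ^ 2 = 0 := by linear_combination h0 + 2 * h2
      exact pow_eq_zero_iff two_ne_zero |>.1 this
    rw [h1]
    linear_combination h2
  · apply h (τ / 2)
    field_simp
    linear_combination -h0

/-- The norm form. -/
def N (τ : K) (p : K × K) : K := p.1 ^ 2 + τ * p.1 * p.2 + p.2 ^ 2

theorem N_eq_zero {τ : K} (h : NonSplit τ) {p : K × K} : N τ p = 0 ↔ p = 0 := by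
  constructor
  · intro h0
    unfold N at h0
    by_cases h2 : p.2 = 0
    · rw [h2] at h0
      have h1 : p.1 = 0 := by
        have : p.1 ^ 2 = 0 := by linear_combination h0
        exact pow_eq_zero_iff two_ne_zero |>.1 this
      exact Prod.ext h1 h2
    · exfalso
      apply h (-p.1 / p.2)
      field_simp
      linear_combination h0
  · rintro rfl
    simp [N]

/-- The norm form is surjective. -/
theorem exists_N {τ : K} (h : τ ^ 2 - 4 ≠ 0) (ν : K) : ∃ p, N τ p = ν := by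
  by_cases h2 : (2 : K) = 0
  · have hp2 : CharP K 2 := CharTwo.of_one_ne_zero_of_two_eq_zero one_ne_zero h2
    obtain ⟨z, hz⟩ : IsSquare ν := FiniteField.isSquare_of_char_two (ringChar.eq K 2 ▸ rfl) _
    exact ⟨(z, 0), by unfold N; rw [hz]; ring⟩
  · have h4 : (4 : K) ≠ 0 := by
      have : (4 : K) = 2 * 2 := by norm_num
      rw [this]
      exact mul_ne_zero h2 h2
    have hD : (τ ^ 2 - 4) / 4 ≠ 0 := div_ne_zero h h4
    obtain ⟨X, Y, hXY⟩ := Cfsg.Agent.H906.exists_sq_sub h2 ((τ ^ 2 - 4) / 4) ν hD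
    refine ⟨(X - τ * Y / 2, Y), ?_⟩
    unfold N
    dsimp only
    have h5 : (2 : K)⁻¹ * 2 = 1 := inv_mul_cancel₀ h2
    have h6 : (4 : K)⁻¹ = 2⁻¹ * 2⁻¹ := by
      rw [← mul_inv]; norm_num
    rw [← hXY, div_eq_mul_inv, div_eq_mul_inv, h6]
    linear_combination (-τ * X * Y + τ ^ 2 * Y ^ 2 * 2⁻¹ - Y ^ 2 * (1 + 2⁻¹ * 2)) * h5

/-- The number of solutions. -/
def cN (τ ν : K) : ℕ := (Finset.univ.filter fun p : K × K => N τ p = ν).card

theorem cN_le {τ : K} (h : NonSplit τ) {ν μ : K} (hν : ν ≠ 0) : cN τ μ ≤ cN τ (ν * μ) := by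
  obtain ⟨⟨a, b⟩, hab⟩ := exists_N h.sq_sub_ne ν
  refine Finset.card_le_card_of_injOn (fun p : K × K => (a * p.1 - b * p.2, a * p.2 + b * p.1 + τ * b * p.2)) ?_ ?_
  · rintro ⟨x, y⟩ hp
    rw [Finset.coe_filter, Set.mem_ofPred_eq] at hp ⊢
    refine ⟨Finset.mem_univ _, ?_⟩
    rw [← hp.2, ← hab]
    unfold N
    dsimp only
    ring
  · rintro ⟨x, y⟩ _ ⟨x', y'⟩ _ hxy
    simp only [Prod.mk.injEq] at hxy
    obtain ⟨h1, h2⟩ := hxy
    have hz : N τ (x - x', y - y') = 0 := by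
      have h3 : N τ (a, b) * N τ (x - x', y - y') = 0 := by
        have h4 : N τ (a, b) * N τ (x - x', y - y') =
            N τ ((a * x - b * y) - (a * x' - b * y'), (a * y + b * x + τ * b * y) - (a * y' + b * x' + τ * b * y')) := by
          unfold N
          dsimp only
          ring
        rw [h4, h1, h2, sub_self, sub_self]
        simp [N]
      rw [hab] at h3
      exact (mul_eq_zero.1 h3).resolve_left hν
    rw [N_eq_zero h] at hz
    have h5 : x - x' = 0 := congrArg Prod.fst hz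
    have h6 : y - y' = 0 := congrArg Prod.snd hz
    rw [sub_eq_zero.1 h5, sub_eq_zero.1 h6]

theorem cN_eq {τ : K} (h : NonSplit τ) {ν : K} (hν : ν ≠ 0) : cN τ ν = cN τ 1 := by
  apply le_antisymm
  · have h1 := cN_le h (ν := ν⁻¹) (μ := ν) (inv_ne_zero hν)
    rwa [inv_mul_cancel₀ hν] at h1
  · have h1 := cN_le h (ν := ν) (μ := 1) hν
    rwa [mul_one] at h1

theorem cN_zero {τ : K} (h : NonSplit τ) : cN τ 0 = 1 := by
  unfold cN
  rw [Finset.card_eq_one]
  refine ⟨0, ?_⟩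
  ext p
  rw [Finset.mem_filter, Finset.mem_singleton, N_eq_zero h]
  simp

/-- The norm form represents every non-zero element `q + 1` times. -/
theorem cN_of_ne {τ : K} (h : NonSplit τ) {ν : K} (hν : ν ≠ 0) : cN τ ν = Fintype.card K + 1 := by
  have h1 : ∑ ν : K, cN τ ν = Fintype.card K * Fintype.card K := by
    rw [← Fintype.card_prod, ← Finset.card_univ (α := K × K)]
    exact (Finset.card_eq_sum_card_fiberwise (f := N τ) (t := Finset.univ) fun _ _ => Finset.mem_univ _).symm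
  rw [← Finset.add_sum_erase _ _ (Finset.mem_univ (0 : K)), cN_zero h,
    Finset.sum_congr rfl fun ν hν => cN_eq h (Finset.ne_of_mem_erase hν), Finset.sum_const,
    Finset.card_erase_of_mem (Finset.mem_univ _), Finset.card_univ, smul_eq_mul] at h1
  rw [cN_eq h hν]
  have h2 : 1 < Fintype.card K := Fintype.one_lt_card
  obtain ⟨m, hm⟩ : ∃ m, Fintype.card K = m + 2 := ⟨Fintype.card K - 2, by omega⟩
  rw [hm] at h1 ⊢
  have h3 : m + 2 - 1 = m + 1 := by omega
  rw [h3] at h1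
  have h4 : (m + 1) * cN τ 1 = (m + 1) * (m + 2 + 1) := by nlinarith
  exact Nat.eq_of_mul_eq_mul_left (by omega) h4

/-- The number of `g` of trace `τ` with `tr (g Z) = s`. -/
theorem card_fiber {τ : K} (hτ : NonSplit τ) (s : K) :
    ((Cl τ).filter fun g => g.1 0 0 * τ + g.1 0 1 - g.1 1 0 = s).card = cN (-τ) ((s - 2) * (s - τ ^ 2 + 2) / (4 - τ ^ 2)) := by
  have hD : 4 - τ ^ 2 ≠ 0 := fun h => hτ.sq_sub_ne (by linear_combination -h)
  obtain ⟨a₀, ha₀⟩ : ∃ a₀ : K, a₀ * (4 - τ ^ 2) = τ * (2 - s) := ⟨τ * (2 - s) / (4 - τ ^ 2), div_mul_cancel₀ _ hD⟩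
  obtain ⟨c₀, hc₀⟩ : ∃ c₀ : K, c₀ * (4 - τ ^ 2) = τ ^ 2 - 2 * s := ⟨(τ ^ 2 - 2 * s) / (4 - τ ^ 2), div_mul_cancel₀ _ hD⟩
  have h1 : 2 * a₀ - τ * c₀ = τ := by
    apply mul_right_cancel₀ hD
    linear_combination 2 * ha₀ - τ * hc₀
  have h2 : -τ * a₀ + 2 * c₀ = -s := by
    apply mul_right_cancel₀ hD
    linear_combination -τ * ha₀ + 2 * hc₀
  have h3 : ∀ x y : K, N (-τ) (x, y) = (s - 2) * (s - τ ^ 2 + 2) / (4 - τ ^ 2) ↔
      (a₀ + x) * (τ - a₀ - x) - (s + (c₀ + y) - (a₀ + x) * τ) * (c₀ + y) = 1 := by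
    intro x y
    rw [eq_div_iff hD]
    have e1 : N (-τ) (x, y) * (4 - τ ^ 2) - (s - 2) * (s - τ ^ 2 + 2) =
        (4 - τ ^ 2) * (1 - ((a₀ + x) * (τ - a₀ - x) - (s + (c₀ + y) - (a₀ + x) * τ) * (c₀ + y))) := by
      unfold N
      dsimp only
      have e2 : (4 - τ ^ 2) * (a₀ ^ 2 - τ * a₀ * c₀ + c₀ ^ 2 - 1) = (s - 2) * (s - τ ^ 2 + 2) := by
        have e3 : (4 - τ ^ 2) * (a₀ ^ 2 - τ * a₀ * c₀ + c₀ ^ 2) =
            (2 * a₀ - τ * c₀) ^ 2 + (-τ * a₀ + 2 * c₀) ^ 2 + τ * (2 * a₀ - τ * c₀) * (-τ * a₀ + 2 * c₀) := by ring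
        rw [mul_sub, e3, h1, h2]
        ring
      rw [← e2]
      linear_combination -(4 - τ ^ 2) * (x + a₀) * h1 - (4 - τ ^ 2) * (y + c₀) * h2
    constructor
    · intro h
      rw [h, sub_self] at e1
      have e2 := (mul_eq_zero.1 e1.symm).resolve_left hD
      linear_combination -e2
    · intro h
      rw [h, sub_self, mul_zero] at e1
      linear_combination e1
  unfold cN
  symm
  refine Finset.card_bij (fun p hp => (⟨!![a₀ + p.1, s + (c₀ + p.2) - (a₀ + p.1) * τ; c₀ + p.2, τ - a₀ - p.1], by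
    rw [Finset.mem_filter] at hp
    rw [Matrix.det_fin_two_of]
    exact (h3 p.1 p.2).1 hp.2⟩ : SpecialLinearGroup (Fin 2) K)) ?_ ?_ ?_
  · intro p hp
    refine Finset.mem_filter.2 ⟨mem_Cl.2 ?_, ?_⟩
    · change (a₀ + p.1) + (τ - a₀ - p.1) = τ
      ring
    · change (a₀ + p.1) * τ + (s + (c₀ + p.2) - (a₀ + p.1) * τ) - (c₀ + p.2) = s
      ring
  · intro p _ p' _ h
    have h5 := congrArg Subtype.val h
    have h6 : a₀ + p.1 = a₀ + p'.1 := congrFun (congrFun h5 0) 0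
    have h7 : c₀ + p.2 = c₀ + p'.2 := congrFun (congrFun h5 1) 0
    exact Prod.ext (add_left_cancel h6) (add_left_cancel h7)
  · intro g hg
    rw [Finset.mem_filter, mem_Cl] at hg
    have hdet : g.1 0 0 * g.1 1 1 - g.1 0 1 * g.1 1 0 = 1 := by
      have := g.2
      rwa [Matrix.det_fin_two] at this
    have e1 : g.1 1 1 = τ - g.1 0 0 := by linear_combination hg.1
    have e2 : g.1 0 1 = s + g.1 1 0 - g.1 0 0 * τ := by linear_combination hg.2
    refine ⟨(g.1 0 0 - a₀, g.1 1 0 - c₀), ?_, ?_⟩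
    · rw [Finset.mem_filter]
      refine ⟨Finset.mem_univ _, ?_⟩
      rw [h3]
      rw [e2, e1] at hdet
      linear_combination hdet
    · apply Subtype.ext
      change !![a₀ + (g.1 0 0 - a₀), s + (c₀ + (g.1 1 0 - c₀)) - (a₀ + (g.1 0 0 - a₀)) * τ; c₀ + (g.1 1 0 - c₀),
        τ - a₀ - (g.1 0 0 - a₀)] = g.1
      ext i j
      fin_cases i <;> fin_cases j
      · change a₀ + (g.1 0 0 - a₀) = g.1 0 0
        ring
      · change s + (c₀ + (g.1 1 0 - c₀)) - (a₀ + (g.1 0 0 - a₀)) * τ = g.1 0 1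
        rw [e2]
        ring
      · change c₀ + (g.1 1 0 - c₀) = g.1 1 0
        ring
      · change τ - a₀ - (g.1 0 0 - a₀) = g.1 1 1
        rw [e1]
        ring

theorem card_fiber_ne {τ : K} (hτ : NonSplit τ) {s : K} (h1 : s ≠ 2) (h2 : s ≠ τ ^ 2 - 2) :
    ((Cl τ).filter fun g => g.1 0 0 * τ + g.1 0 1 - g.1 1 0 = s).card = Fintype.card K + 1 := by
  rw [card_fiber hτ, cN_of_ne hτ.neg]
  have hD : 4 - τ ^ 2 ≠ 0 := fun h => hτ.sq_sub_ne (by linear_combination -h)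
  refine div_ne_zero (mul_ne_zero (sub_ne_zero.2 h1) fun h => h2 ?_) hD
  linear_combination h

theorem card_fiber_eq {τ : K} (hτ : NonSplit τ) {s : K} (h : s = 2 ∨ s = τ ^ 2 - 2) :
    ((Cl τ).filter fun g => g.1 0 0 * τ + g.1 0 1 - g.1 1 0 = s).card = 1 := by
  rw [card_fiber hτ]
  have : (s - 2) * (s - τ ^ 2 + 2) / (4 - τ ^ 2) = 0 := by
    rcases h with h | h
    · rw [h, sub_self, zero_mul, zero_div]
    · rw [h]
      ring
  rw [this, cN_zero hτ.neg]

end Count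

end Cfsg.Agent.H464.Sl2
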