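import Cfsg.Agent.H464.L2TrE

/-!
# Traces of `SL₂(q)`, VI: representations with `U`-fixed vectors (helper464)
-/

set_option autoImplicit false
set_option linter.unusedSectionVars false

namespace Cfsg.Agent.H464.Sl2

open Matrix Module

variable {K : Type*} [Field K] [Fintype K] [DecidableEq K] {k : Type*} [Field k] {V : Type*} [AddCommGroup V]
  [Module k V] [FiniteDimensional k V] {R : SpecialLinearGroup (Fin 2) K →* Module.End k V} {ψ : AddChar K k} {v : V} {lam : Kˣ →* k}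

theorem E_u (b x : K) (y : V) : E R ψ b (R (u x) y) = ψ (b * x) • E R ψ b y := by
  have h3 := congrArg (fun f : Module.End k V => f y) (E_mul_R R ψ b x)
  simpa only [Module.End.mul_apply, LinearMap.smul_apply] using h3

variable (hψ : ψ.IsPrimitive) (hK : (Fintype.card K : k) ≠ 0) (hspan : Submodule.span k (Set.range R) = ⊤)

include hψ hK in
theorem Hw.E_v (h : Hw R ψ v lam) {b : K} (hb : b ≠ 0) : E R ψ b v = 0 := by
  conv_lhs => rw [← h.fix]
  rw [← Module.End.mul_apply, E_mul_of_ne R hψ hK hb, LinearMap.zero_apply]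

include hψ hK hspan in
/-- The weight spaces are generated by the images of `w v`. -/
theorem Hw.E_eq_zero (h : Hw R ψ v lam) {b : K} (hb : b ≠ 0) (h0 : E R ψ b (R (Sl2.w 1) v) = 0) : E R ψ b = 0 := by
  have key : ∀ A : Module.End k V, E R ψ b (A v) = 0 := by
    intro A
    have hA : A ∈ Submodule.span k (Set.range R) := by rw [hspan]; trivial
    induction hA using Submodule.span_induction with
    | mem x hx =>
      obtain ⟨g, rfl⟩ := hx
      rcases bruhat g with ⟨x, a, rfl⟩ | ⟨x, c, y, rfl⟩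
      · rw [map_mul, Module.End.mul_apply, E_u, h.tor, map_smul, h.E_v hψ hK hb, smul_zero, smul_zero]
      · rw [map_mul, map_mul, Module.End.mul_apply, Module.End.mul_apply, E_u, h.u, h.w, map_smul, h0, smul_zero,
          smul_zero]
    | zero => simp
    | add x y _ _ hx hy => rw [LinearMap.add_apply, map_add, hx, hy, add_zero]
    | smul a x _ hx => rw [LinearMap.smul_apply, map_smul, hx, smul_zero]
  obtain ⟨φ, hφ⟩ := exists_dual (k := k) h.ne
  ext y
  have h1 := key (φ.smulRight y)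
  rw [LinearMap.smulRight_apply, hφ, one_smul] at h1
  rw [h1, LinearMap.zero_apply]

include hψ hK hspan in
/-- The Gauss sum relation. -/
theorem Hw.gauss (h : Hw R ψ v lam) {c : k} (hc : vs R ψ v = c • v) {b : K} (hb : b ≠ 0) (hE : E R ψ b ≠ 0) :
    (Fintype.card K : k) * c = ∑ x : Kˣ, lam x * ψ (-(b * ((x⁻¹ : Kˣ) : K))) := by
  have h1 : c • v = (Fintype.card K : k)⁻¹ • ∑ x, R (Sl2.u x) (R (Sl2.w 1) v) := by
    rw [← hc, vs, E_zero_eq]
  have h2 := congrArg (fun y => E R ψ b (R (Sl2.w 1) y)) h1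
  simp only [map_smul, map_sum] at h2
  rw [sum_units, u_zero, map_one, Module.End.one_apply, h.R_w_w, map_smul, h.E_v hψ hK hb, smul_zero, zero_add] at h2
  have h3 : ∀ x : Kˣ, E R ψ b (R (Sl2.w 1) (R (Sl2.u (x : K)) (R (Sl2.w 1) v))) =
      (lam x * ψ (-(b * ((x⁻¹ : Kˣ) : K)))) • E R ψ b (R (Sl2.w 1) v) := by
    intro x
    rw [h.R_w_u_w, map_smul, E_u, smul_smul, mul_neg]
  rw [Finset.sum_congr rfl fun x _ => h3 x, ← Finset.sum_smul, smul_smul] at h2
  have h4 : E R ψ b (R (Sl2.w 1) v) ≠ 0 := fun h0 => hE (h.E_eq_zero hψ hK hspan hb h0)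
  have h5 : c = (Fintype.card K : k)⁻¹ * ∑ x : Kˣ, lam x * ψ (-(b * ((x⁻¹ : Kˣ) : K))) := by
    have h6 : (c - (Fintype.card K : k)⁻¹ * ∑ x : Kˣ, lam x * ψ (-(b * ((x⁻¹ : Kˣ) : K)))) •
        E R ψ b (R (Sl2.w 1) v) = 0 := by
      rw [sub_smul, h2, sub_self]
    exact sub_eq_zero.1 ((smul_eq_zero.1 h6).resolve_right h4)
  rw [h5, ← mul_assoc, mul_inv_cancel₀ hK, one_mul]

/-- Evaluation of the sum. -/
theorem gauss_eval (hl : ∀ a, lam a ^ 2 = 1) (b : Kˣ) :
    ∑ x : Kˣ, lam x * ψ (-((b : K) * ((x⁻¹ : Kˣ) : K))) = lam b * ∑ y : Kˣ, lam (-1) * lam y * ψ (y : K) := by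
  rw [Finset.mul_sum, ← Equiv.sum_comp ((Equiv.inv Kˣ).trans (Equiv.mulLeft (-b)))
    (fun y : Kˣ => lam b * (lam (-1) * lam y * ψ (y : K)))]
  refine Finset.sum_congr rfl fun x _ => ?_
  change _ = lam b * (lam (-1) * lam (-b * x⁻¹) * ψ ((-b * x⁻¹ : Kˣ) : K))
  have h1 : lam x⁻¹ = lam x := by
    rw [lam_inv]
    apply inv_eq_of_mul_eq_one_left
    rw [← sq, hl]
  have h2 : lam (-b) = lam (-1) * lam b := by rw [← map_mul]; congr 1; simp
  have h3 : lam (-1) * lam (-1) = 1 := by rw [← sq, hl]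
  have h4 : lam b * lam b = 1 := by rw [← sq, hl]
  have h5 : ((-b * x⁻¹ : Kˣ) : K) = -((b : K) * ((x⁻¹ : Kˣ) : K)) := by push_cast; ring
  rw [map_mul, h1, h2, h5]
  linear_combination (-(lam x) * ψ (-((b : K) * ((x⁻¹ : Kˣ) : K))) * (lam b * lam b)) * h3 +
    (-(lam x) * ψ (-((b : K) * ((x⁻¹ : Kˣ) : K)))) * h4

include hψ hK hspan

/-- The torus character is constant on the weights. -/
theorem Hw.lam_eq (h : Hw R ψ v lam) (h1 : finrank k (LinearMap.range (E R ψ 0)) = 1) {b b' : Kˣ}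
    (hb : E R ψ (b : K) ≠ 0) (hb' : E R ψ (b' : K) ≠ 0) : lam b = lam b' := by
  obtain ⟨c, hc0, hc, -, hl, -⟩ := h.one hψ hK hspan h1
  have h2 := h.gauss hψ hK hspan hc b.ne_zero hb
  have h3 := h.gauss hψ hK hspan hc b'.ne_zero hb'
  rw [gauss_eval hl] at h2 h3
  have h4 : ∑ y : Kˣ, lam (-1) * lam y * ψ (y : K) ≠ 0 := by
    intro h0
    rw [h0, mul_zero] at h2
    exact mul_ne_zero hK hc0 h2
  exact mul_right_cancel₀ h4 (h2.symm.trans h3)

omit hK hspan in
theorem sum_units_psi {b : K} (hb : b ≠ 0) : ∑ x : Kˣ, ψ (-(b * ((x⁻¹ : Kˣ) : K))) = -1 := by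
  have h4 : ∑ x : Kˣ, ψ (-(b * ((x⁻¹ : Kˣ) : K))) = ∑ x : Kˣ, ψ ((x : K) * (-b)) := by
    rw [← Equiv.sum_comp (Equiv.inv Kˣ) (fun x : Kˣ => ψ ((x : K) * (-b)))]
    refine Finset.sum_congr rfl fun x _ => ?_
    congr 1
    change _ = ((x⁻¹ : Kˣ) : K) * (-b)
    ring
  have h6 := sum_units (fun x : K => ψ (x * (-b)))
  rw [AddChar.sum_mulShift _ hψ, zero_mul, AddChar.map_zero_eq_one, if_neg (neg_ne_zero.2 hb), Nat.cast_zero] at h6
  rw [h4]
  linear_combination -h6

/-- If `λ = 1` and a weight occurs then `q c = -1`. -/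
theorem Hw.c_eq (h : Hw R ψ v lam) {c : k} (hc : vs R ψ v = c • v) (hl : ∀ a, lam a = 1) {b : K} (hb : b ≠ 0)
    (hE : E R ψ b ≠ 0) : (Fintype.card K : k) * c = -1 := by
  rw [h.gauss hψ hK hspan hc hb hE, ← sum_units_psi hψ hb]
  refine Finset.sum_congr rfl fun x _ => ?_
  rw [hl, one_mul]

/-- All weights: the torus acts trivially. -/
theorem Hw.lam_one (h : Hw R ψ v lam) (h1 : finrank k (LinearMap.range (E R ψ 0)) = 1)
    (hall : ∀ b : K, b ≠ 0 → E R ψ b ≠ 0) (a : Kˣ) : lam a = 1 := by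
  rw [← map_one lam]
  exact h.lam_eq hψ hK hspan h1 (hall _ a.ne_zero) (hall _ (Units.ne_zero 1))

omit hψ hK in
/-- An invariant functional kills everything. -/
theorem Hw.invariant (h : Hw R ψ v lam) (hinv : ∀ g, E R ψ 0 (R g v) = v) {b : K} (hb : E R ψ 0 * E R ψ b = 0) :
    E R ψ b = 0 := by
  obtain ⟨φ₀, hφ₀⟩ := exists_dual (k := k) h.ne
  have key : ∀ (g : SpecialLinearGroup (Fin 2) K) (A : Module.End k V), E R ψ 0 (R g (A v)) = E R ψ 0 (A v) := by
    intro g A
    have hA : A ∈ Submodule.span k (Set.range R) := by rw [hspan]; trivial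
    induction hA using Submodule.span_induction with
    | mem x hx =>
      obtain ⟨g', rfl⟩ := hx
      rw [← Module.End.mul_apply (R g), ← map_mul, hinv, hinv]
    | zero => simp
    | add x y _ _ hx hy => rw [LinearMap.add_apply, map_add, map_add, hx, hy, map_add]
    | smul a x _ hx => rw [LinearMap.smul_apply, map_smul, map_smul, hx, map_smul]
  have key2 : ∀ (g : SpecialLinearGroup (Fin 2) K) (y : V), E R ψ 0 (R g y) = E R ψ 0 y := by
    intro g y
    have h1 := key g (φ₀.smulRight y)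
    rwa [LinearMap.smulRight_apply, hφ₀, one_smul] at h1
  have key3 : ∀ A : Module.End k V, ∀ y : V, E R ψ 0 (A (E R ψ b y)) = 0 := by
    intro A y
    have hA : A ∈ Submodule.span k (Set.range R) := by rw [hspan]; trivial
    induction hA using Submodule.span_induction with
    | mem x hx =>
      obtain ⟨g', rfl⟩ := hx
      rw [key2, ← Module.End.mul_apply, hb, LinearMap.zero_apply]
    | zero => simp
    | add x y _ _ hx hy => rw [LinearMap.add_apply, map_add, hx, hy, add_zero]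
    | smul a x _ hx => rw [LinearMap.smul_apply, map_smul, hx, smul_zero]
  by_contra hne
  have : ∃ y, E R ψ b y ≠ 0 := by
    by_contra hcon
    push Not at hcon
    exact hne (LinearMap.ext hcon)
  obtain ⟨y, hy⟩ := this
  obtain ⟨φ, hφ⟩ := exists_dual (k := k) hy
  have h1 := key3 (φ.smulRight v) y
  rw [LinearMap.smulRight_apply, hφ, one_smul, h.fix] at h1
  exact h.ne h1

/-- If a weight is missing and another one occurs then `λ ≠ 1`. -/
theorem Hw.lam_ne_one (h : Hw R ψ v lam) (h1 : finrank k (LinearMap.range (E R ψ 0)) = 1) {b b' : K}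
    (hb : b ≠ 0) (hE : E R ψ b = 0) (hb' : b' ≠ 0) (hE' : E R ψ b' ≠ 0) : ∃ a, lam a ≠ 1 := by
  by_contra hcon
  push Not at hcon
  obtain ⟨c, hc0, hc, -⟩ := h.one hψ hK hspan h1
  have hvs : E R ψ 0 (R (Sl2.w 1) v) = c • v := hc
  -- `c = 1`
  have h2 : c = 1 := by
    have h3 : ∑ z : K, ψ (-(b * z)) • R (Sl2.u z) (R (Sl2.w 1) v) = 0 := by
      have h4 := congrArg (fun f : Module.End k V => (Fintype.card K : k) • f (R (Sl2.w 1) v)) hE
      simp only [E, LinearMap.smul_apply, LinearMap.sum_apply, smul_smul, mul_inv_cancel₀ hK, one_smul,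
        LinearMap.zero_apply, smul_zero] at h4
      exact h4
    have h4 := congrArg (fun y => E R ψ 0 (R (Sl2.w 1) y)) h3
    simp only [map_sum, map_smul, map_zero] at h4
    rw [sum_units, mul_zero, neg_zero, AddChar.map_zero_eq_one, one_smul, u_zero, map_one, Module.End.one_apply,
      h.R_w_w, map_smul, h.fix, hcon, one_smul] at h4
    have h5 : ∀ x : Kˣ, ψ (-(b * (x : K))) • E R ψ 0 (R (Sl2.w 1) (R (Sl2.u (x : K)) (R (Sl2.w 1) v))) =
        (ψ (-(b * (x : K))) * c) • v := by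
      intro x
      rw [h.R_w_u_w, map_smul, E_zero_u, hvs, hcon, one_smul, smul_smul]
    rw [Finset.sum_congr rfl fun x _ => h5 x, ← Finset.sum_smul, ← Finset.sum_mul] at h4
    have h6 : ∑ x : Kˣ, ψ (-(b * (x : K))) = -1 := by
      rw [← sum_units_psi hψ hb, ← Equiv.sum_comp (Equiv.inv Kˣ) (fun x : Kˣ => ψ (-(b * (x : K))))]
      rfl
    rw [h6] at h4
    have h7 : (1 - c) • v = 0 := by
      rw [sub_smul, one_smul, ← h4]
      simp [sub_eq_add_neg]
    exact (sub_eq_zero.1 ((smul_eq_zero.1 h7).resolve_right h.ne)).symm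
  rw [h2, one_smul] at hvs
  -- the functional `E 0` is invariant
  apply hE'
  apply h.invariant hspan
  · intro g
    rcases bruhat g with ⟨x, a, rfl⟩ | ⟨x, c', y, rfl⟩
    · rw [map_mul, Module.End.mul_apply, E_zero_u, h.tor, hcon, one_smul, h.fix]
    · rw [map_mul, map_mul, Module.End.mul_apply, Module.End.mul_apply, E_zero_u, h.u, h.w, hcon, one_smul, hvs]
  · exact E_mul_of_ne R hψ hK hb'.symm

/-- The class sum on the highest weight vector. -/
theorem Hw.S (h : Hw R ψ v lam) {τ : K} (hτ : NonSplit τ) :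
    E R ψ 0 (Sl2.S R τ v) = ((Fintype.card K : k) * ∑ x : Kˣ, lam x) • vs R ψ v := by
  rw [Sl2.S, LinearMap.sum_apply, map_sum, sum_Cl hτ]
  have h1 : ∀ c : Kˣ, ∑ x : K, E R ψ 0 (R (Sl2.u x * Sl2.w c * Sl2.u (τ * ((c⁻¹ : Kˣ) : K) - x)) v) =
      ((Fintype.card K : k) * lam c) • vs R ψ v := by
    intro c
    have h2 : ∀ x : K, E R ψ 0 (R (Sl2.u x * Sl2.w c * Sl2.u (τ * ((c⁻¹ : Kˣ) : K) - x)) v) =
        lam c • vs R ψ v := by
      intro x
      rw [map_mul, map_mul, Module.End.mul_apply, Module.End.mul_apply, E_zero_u, h.u, h.w, map_smul]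
      rfl
    rw [Finset.sum_congr rfl fun x _ => h2 x, Finset.sum_const, Finset.card_univ, ← Nat.cast_smul_eq_nsmul k,
      smul_smul]
  rw [Finset.sum_congr rfl fun c _ => h1 c, ← Finset.sum_smul, Finset.mul_sum]

/-- **Principal series**: nonsplit elements have trace zero. -/
theorem Hw.nonsplit_two (h : Hw R ψ v lam) (h3K : 3 ≤ Fintype.card K)
    (hall : ∀ b : K, b ≠ 0 → finrank k (LinearMap.range (E R ψ b)) = 1)
    (h2 : finrank k (LinearMap.range (E R ψ 0)) = 2) {τ : K} (hτ : NonSplit τ) : ct R τ = 0 := by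
  have h3 := h.S hψ hK hspan hτ
  rw [exists_S R hψ hK h3K hspan hall hτ, LinearMap.smul_apply, Module.End.one_apply, map_smul, h.fix] at h3
  have hli := h.indep hψ hK hspan h2
  have h4 : (Fintype.card K : k) * ∑ x : Kˣ, lam x = 0 := by
    by_contra h0
    apply hli.1
    rw [Submodule.mem_span_singleton]
    refine ⟨((Fintype.card K : k) * ∑ x : Kˣ, lam x)⁻¹ * ((Fintype.card K : k) * ct R τ - ∑ s, ct R s), ?_⟩
    rw [mul_smul, h3, smul_smul, inv_mul_cancel₀ h0, one_smul]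
  rw [h4, zero_smul] at h3
  have h5 := (smul_eq_zero.1 h3).resolve_right h.ne
  have h6 : ∑ s, ct R s = 0 := by
    rw [← sum_ct R hK (ψ := ψ), h.trace_w_two hψ hK hspan h2, ← mul_assoc, mul_inv_cancel₀ hK, one_mul]
    exact (mul_eq_zero.1 h4).resolve_left hK
  rw [h6, sub_zero] at h5
  exact (mul_eq_zero.1 h5).resolve_left hK

/-- **Steinberg**: nonsplit elements have trace `-1`. -/
theorem Hw.nonsplit_one (h : Hw R ψ v lam) (h3K : 3 ≤ Fintype.card K)
    (hall : ∀ b : K, b ≠ 0 → finrank k (LinearMap.range (E R ψ b)) = 1)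
    (h1 : finrank k (LinearMap.range (E R ψ 0)) = 1) {τ : K} (hτ : NonSplit τ) : ct R τ = -1 := by
  have hne : ∀ b : K, b ≠ 0 → E R ψ b ≠ 0 := by
    intro b hb h0
    have h2 := hall b hb
    rw [h0, LinearMap.range_zero, finrank_bot] at h2
    exact zero_ne_one h2
  have hl := h.lam_one hψ hK hspan h1 hne
  obtain ⟨c, hc0, hc, -, -, -, hw, -⟩ := h.one hψ hK hspan h1
  have hqc := h.c_eq hψ hK hspan hc hl one_ne_zero (hne 1 one_ne_zero)
  have h3 := h.S hψ hK hspan hτ
  rw [exists_S R hψ hK h3K hspan hall hτ, LinearMap.smul_apply, Module.End.one_apply, map_smul, h.fix, hc, smul_smul]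
    at h3
  have h4 : (Fintype.card K : k) * ct R τ - ∑ s, ct R s = (Fintype.card K : k) * (∑ x : Kˣ, lam x) * c := by
    have h5 : ((Fintype.card K : k) * ct R τ - ∑ s, ct R s - (Fintype.card K : k) * (∑ x : Kˣ, lam x) * c) • v = 0 := by
      rw [sub_smul, h3, sub_self]
    exact sub_eq_zero.1 ((smul_eq_zero.1 h5).resolve_right h.ne)
  have h5 : ∑ x : Kˣ, lam x = (Fintype.card K : k) - 1 := by
    rw [Finset.sum_congr rfl fun x _ => hl x, Finset.sum_const, Finset.card_univ, Fintype.card_units, nsmul_eq_mul,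
      mul_one, Nat.cast_sub Fintype.card_pos, Nat.cast_one]
  rw [← sum_ct R hK (ψ := ψ), hw, h5] at h4
  apply mul_left_cancel₀ hK
  linear_combination h4 + (Fintype.card K : k) * hqc

end Cfsg.Agent.H464.Sl2
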