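import Cfsg.Agent.H464.L2TrF

/-!
# Traces of `SL₂(q)`, VII: the sign character of the nonsplit torus does not occur (helper464)
-/

set_option autoImplicit false
set_option linter.unusedSectionVars false

namespace Cfsg.Agent.H464.Sl2

open Matrix Module

variable {K : Type*} [Field K] [Fintype K] [DecidableEq K] {k : Type*} [Field k]

variable (k) in
/-- The quadratic character with values in `k`. -/
def eta (s : K) : k := ((quadraticChar K s : ℤ) : k)

theorem eta_mul (a b : K) : eta k (a * b) = eta k a * eta k b := by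
  unfold eta
  rw [map_mul, Int.cast_mul]

theorem eta_zero : eta k (0 : K) = 0 := by
  unfold eta
  rw [MulChar.map_zero, Int.cast_zero]

theorem eta_one : eta k (1 : K) = 1 := by
  unfold eta
  rw [map_one, Int.cast_one]

theorem eta_sq {a : K} (ha : a ≠ 0) : eta k a * eta k a = 1 := by
  rw [← eta_mul, ← sq]
  unfold eta
  rw [quadraticChar_sq_one' ha, Int.cast_one]

theorem eta_sq' {a : K} (ha : a ≠ 0) : eta k (a * a) = 1 := by rw [eta_mul, eta_sq ha]

theorem eta_inv {a : K} (ha : a ≠ 0) : eta k a⁻¹ = eta k a := by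
  have h1 : eta k a * eta k a⁻¹ = 1 := by rw [← eta_mul, mul_inv_cancel₀ ha, eta_one]
  have h2 := eta_sq (k := k) ha
  have h3 : eta k a ≠ 0 := fun h => by rw [h, zero_mul] at h2; exact zero_ne_one h2
  exact mul_left_cancel₀ h3 (h1.trans h2.symm)

theorem eta_nonsquare {a : K} (ha : ¬ IsSquare a) : eta k a = -1 := by
  unfold eta
  rw [quadraticChar_neg_one_iff_not_isSquare.2 ha]
  simp

variable {ψ : AddChar K k}

/-- Twisted Kloosterman sums. -/
noncomputable def Sal (ψ : AddChar K k) (α β : K) : k := ∑ x : Kˣ, eta k (x : K) * ψ (α * x + β * ((x⁻¹ : Kˣ) : K))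

/-- The sums with `αβ` a nonsquare vanish, in every characteristic. -/
theorem Sal_eq_zero {α β : K} (h : ¬ IsSquare (α * β)) : Sal ψ α β = 0 := by
  have hα : α ≠ 0 := by
    rintro rfl
    rw [zero_mul] at h
    exact h ⟨0, by simp⟩
  have hβ : β ≠ 0 := by
    rintro rfl
    rw [mul_zero] at h
    exact h ⟨0, by simp⟩
  obtain ⟨a, ha⟩ : ∃ a : Kˣ, (a : K) = α := ⟨Units.mk0 α hα, rfl⟩
  obtain ⟨b, hb⟩ : ∃ b : Kˣ, (b : K) = β := ⟨Units.mk0 β hβ, rfl⟩
  unfold Sal
  refine Finset.sum_involution (fun x _ => b * a⁻¹ * x⁻¹) ?_ ?_ ?_ ?_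
  · intro x _
    have h1 : eta k ((b * a⁻¹ * x⁻¹ : Kˣ) : K) = -eta k (x : K) := by
      rw [Units.val_mul, Units.val_mul, eta_mul, eta_mul, Units.val_inv_eq_inv_val, Units.val_inv_eq_inv_val,
        eta_inv a.ne_zero, eta_inv x.ne_zero, ← eta_mul, ha, hb, mul_comm β, eta_nonsquare h]
      ring
    have h2 : α * ((b * a⁻¹ * x⁻¹ : Kˣ) : K) + β * (((b * a⁻¹ * x⁻¹)⁻¹ : Kˣ) : K) = α * x + β * ((x⁻¹ : Kˣ) : K) := by
      rw [← ha, ← hb]
      push_cast
      field_simp
      ring
    rw [h1, h2]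
    ring
  · intro x _ _ hx
    apply h
    refine ⟨α * x, ?_⟩
    have h1 : (b : K) * (a : K)⁻¹ * (x : K)⁻¹ = x := by
      have := congrArg (fun y : Kˣ => (y : K)) hx
      simpa using this
    rw [ha, hb] at h1
    have h2 : β = α * (x * x) := by
      rw [← h1]
      have hx0 : (x : K) ≠ 0 := x.ne_zero
      have h3 : β * α⁻¹ * (x : K)⁻¹ * (β * α⁻¹ * (x : K)⁻¹) = β * α⁻¹ * (x : K)⁻¹ * x := by
        rw [h1]
      rw [h3]
      field_simp
    rw [h2]
    ring
  · intro x _
    exact Finset.mem_univ _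
  · intro x _
    rw [mul_inv, inv_inv, ← mul_assoc, mul_inv_cancel, one_mul]

/-- The Gauss sum. -/
noncomputable def Gs (ψ : AddChar K k) : k := ∑ x : Kˣ, eta k (x : K) * ψ (x : K)

theorem Sal_zero {α : K} (hα : α ≠ 0) : Sal ψ α 0 = eta k α * Gs ψ := by
  unfold Sal Gs
  rw [← Equiv.sum_comp (Equiv.mulLeft (Units.mk0 α hα)) (fun x : Kˣ => eta k (x : K) * ψ (x : K)), Finset.mul_sum]
  refine Finset.sum_congr rfl fun x _ => ?_
  change _ = eta k α * (eta k (α * x) * ψ (α * x))
  rw [zero_mul, add_zero, eta_mul, ← mul_assoc, ← mul_assoc, eta_sq hα, one_mul]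

theorem sum_eta_psi {a : K} (ha : a ≠ 0) : ∑ s : K, ψ (a * s) * eta k s = eta k a * Gs ψ := by
  rw [sum_units, eta_zero, mul_zero, zero_add, ← Sal_zero ha]
  unfold Sal
  refine Finset.sum_congr rfl fun x _ => ?_
  rw [zero_mul, add_zero, mul_comm]

/-- The square of the Gauss sum. -/
theorem Gs_sq (hψ : ψ.IsPrimitive) (h2 : ringChar K ≠ 2) : Gs ψ ^ 2 = eta k (-1 : K) * (Fintype.card K : k) := by
  have hG : Gs ψ = gaussSum ((quadraticChar K).ringHomComp (Int.castRingHom k)) ψ := by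
    unfold Gs gaussSum
    rw [sum_units (fun a : K => ((quadraticChar K).ringHomComp (Int.castRingHom k)) a * ψ a), MulChar.map_zero,
      zero_mul, zero_add]
    rfl
  by_cases hk : ringChar k = 2
  · -- characteristic two
    have h2k : (2 : k) = 0 := by
      have := ringChar.Nat.cast_ringChar (R := k)
      rw [hk] at this
      exact_mod_cast this
    have hη : ∀ a : K, a ≠ 0 → eta k a = 1 := by
      intro a ha
      unfold eta
      rcases quadraticChar_dichotomy ha with h | h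
      · rw [h, Int.cast_one]
      · rw [h, Int.cast_neg, Int.cast_one]
        linear_combination -h2k
    have h3 : Gs ψ = -1 := by
      unfold Gs
      rw [Finset.sum_congr rfl fun x _ => by rw [hη _ x.ne_zero, one_mul]]
      have h6 := sum_units (fun x : K => ψ x)
      have h7 := AddChar.sum_mulShift (1 : K) hψ
      rw [if_neg one_ne_zero, Nat.cast_zero] at h7
      simp only [mul_one] at h7
      rw [h7, AddChar.map_zero_eq_one] at h6
      linear_combination -h6
    have h4 : (Fintype.card K : k) = 1 := by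
      have h5 : Fintype.card K % 2 = 1 := FiniteField.odd_card_of_char_ne_two h2
      have h6 : Fintype.card K = 2 * (Fintype.card K / 2) + 1 := by omega
      rw [h6]
      push_cast
      rw [h2k]
      ring
    rw [h3, hη (-1) (neg_ne_zero.2 one_ne_zero), h4]
    ring
  · rw [hG, gaussSum_sq]
    · rfl
    · intro h
      obtain ⟨a, ha⟩ := quadraticChar_exists_neg_one' h2
      have h3 := congrArg (fun χ : MulChar K k => χ a) h
      have h4 : ((quadraticChar K).ringHomComp (Int.castRingHom k)) (a : K) = -1 := by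
        change ((quadraticChar K (a : K) : ℤ) : k) = -1
        rw [ha]
        simp
      rw [h4, MulChar.one_apply_coe] at h3
      apply hk
      have h5 : (2 : k) = 0 := by linear_combination -h3
      have h6 : ringChar k ∣ 2 := (ringChar.spec k 2).1 (by exact_mod_cast h5)
      exact (Nat.prime_dvd_prime_iff_eq (CharP.char_is_prime_or_zero k (ringChar k) |>.resolve_right (by
        intro h0
        rw [h0] at h6
        exact absurd (zero_dvd_iff.1 h6) (by norm_num))) Nat.prime_two).1 h6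
    · exact (quadraticChar_isQuadratic K).comp _
    · exact hψ

section Rep

variable {V : Type*} [AddCommGroup V] [Module k V] [FiniteDimensional k V]
  {R : SpecialLinearGroup (Fin 2) K →* Module.End k V}

/-- Compression to a weight of multiplicity one. -/
theorem compress {P : Module.End k V} (hP : P * P = P) (h1 : finrank k (LinearMap.range P) = 1) (A : Module.End k V) :
    P * A * P = LinearMap.trace k V (P * A) • P := by
  have hne : LinearMap.range P ≠ ⊥ := by
    intro h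
    rw [h, finrank_bot] at h1
    exact zero_ne_one h1
  obtain ⟨v, hv, hv0⟩ := Submodule.exists_mem_ne_zero_of_ne_bot hne
  obtain ⟨φ₀, hφ₀⟩ := exists_dual (k := k) hv0
  have hPv : P v = v := by
    obtain ⟨x, rfl⟩ := hv
    rw [← Module.End.mul_apply, hP]
  have hE : P = (φ₀.comp P).smulRight v := by
    ext x
    rw [LinearMap.smulRight_apply, LinearMap.comp_apply]
    have h3 := (finrank_eq_one_iff_of_nonzero' (⟨v, hv⟩ : LinearMap.range P)
      (fun h0 => hv0 (congrArg Subtype.val h0))).1 h1 ⟨P x, LinearMap.mem_range_self _ _⟩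
    obtain ⟨c, hc⟩ := h3
    have h4 : c • v = P x := congrArg Subtype.val hc
    rw [← h4, map_smul, hφ₀, smul_eq_mul, mul_one]
  set φ := φ₀.comp P with hφdef
  have hEx : ∀ x, P x = φ x • v := fun x => congrArg (fun f : Module.End k V => f x) hE
  have h2 : LinearMap.trace k V (P * A) = φ (A v) := by
    rw [LinearMap.trace_mul_comm]
    have h3 : A * P = φ.smulRight (A v) := by
      ext x
      rw [Module.End.mul_apply, hEx, map_smul, LinearMap.smulRight_apply]
    rw [h3, LinearMap.trace_smulRight]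
  rw [h2]
  ext x
  rw [Module.End.mul_apply, Module.End.mul_apply, hEx x, map_smul, map_smul, hEx (A v), LinearMap.smul_apply, hEx x,
    smul_comm]

theorem exists_compress_ne (hspan : Submodule.span k (Set.range R) = ⊤) {P Q : Module.End k V} (hP : P ≠ 0) (hQ : Q ≠ 0) :
    ∃ g, P * R g * Q ≠ 0 := by
  by_contra hcon
  push Not at hcon
  have key : ∀ A : Module.End k V, P * A * Q = 0 := by
    intro A
    have hA : A ∈ Submodule.span k (Set.range R) := by rw [hspan]; trivial
    induction hA using Submodule.span_induction with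
    | mem x hx =>
      obtain ⟨g, rfl⟩ := hx
      exact hcon g
    | zero => simp
    | add x y _ _ hx hy => rw [mul_add, add_mul, hx, hy, add_zero]
    | smul a x _ hx => rw [mul_smul_comm, smul_mul_assoc, hx, smul_zero]
  obtain ⟨x, hx⟩ : ∃ x, P x ≠ 0 := by
    by_contra h
    push Not at h
    exact hP (LinearMap.ext h)
  obtain ⟨y, hy⟩ : ∃ y, Q y ≠ 0 := by
    by_contra h
    push Not at h
    exact hQ (LinearMap.ext h)
  obtain ⟨φ, hφ⟩ := exists_dual (k := k) hy
  have h1 := congrArg (fun f : Module.End k V => f y) (key (φ.smulRight x))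
  simp only [Module.End.mul_apply, LinearMap.smulRight_apply, hφ, one_smul, LinearMap.zero_apply] at h1
  exact hx h1

variable (hψ : ψ.IsPrimitive) (hK : (Fintype.card K : k) ≠ 0) (hspan : Submodule.span k (Set.range R) = ⊤)

include hψ hK hspan in
/-- A nonzero compression between different square classes comes from the big cell. -/
theorem exists_w_ne {b b' : K} (hb : E R ψ b ≠ 0) (hb' : E R ψ b' ≠ 0) (hbb : ¬ IsSquare (b * b')) :
    ∃ c : Kˣ, E R ψ b * R (w c) * E R ψ b' ≠ 0 := by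
  obtain ⟨g, hg⟩ := exists_compress_ne hspan hb hb'
  rcases bruhat g with ⟨x, a, rfl⟩ | ⟨x, c, y, rfl⟩
  · exfalso
    apply hg
    rw [map_mul, ← mul_assoc, E_mul_R, smul_mul_assoc, smul_mul_assoc, mul_assoc, t_mul_E, ← mul_assoc,
      E_mul_of_ne R hψ hK, zero_mul, smul_zero]
    intro h
    apply hbb
    have ha : (a : K) ≠ 0 := a.ne_zero
    refine ⟨b * a, ?_⟩
    have h1 : b' = b * (a : K) ^ 2 := by
      rw [h]
      field_simp
    rw [h1]
    ring
  · refine ⟨c, fun h => hg ?_⟩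
    rw [map_mul, map_mul, ← mul_assoc, ← mul_assoc, E_mul_R, smul_mul_assoc, smul_mul_assoc, smul_mul_assoc,
      mul_assoc, mul_assoc, R_mul_E, mul_smul_comm, mul_smul_comm, ← mul_assoc, h, smul_zero, smul_zero]

include hψ hK hspan in
/-- **The sign character of the nonsplit torus does not occur in an irreducible representation of degree `q - 1`.** -/
theorem not_sign (h2 : ringChar K ≠ 2) (h3K : 3 ≤ Fintype.card K)
    (hall : ∀ b : K, b ≠ 0 → finrank k (LinearMap.range (E R ψ b)) = 1)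
    (h0 : finrank k (LinearMap.range (E R ψ 0)) = 0)
    (hct : ∀ s, ct R s = eta k (s - 2) - eta k (s + 2)) : False := by
  have h2K : (2 : K) ≠ 0 := by
    intro h
    apply h2
    have h3 : ringChar K ∣ 2 := (ringChar.spec K 2).1 (by exact_mod_cast h)
    exact (Nat.prime_dvd_prime_iff_eq (CharP.char_is_prime K (ringChar K)) Nat.prime_two).1 h3
  have hne : ∀ b : K, b ≠ 0 → E R ψ b ≠ 0 := by
    intro b hb h0
    have h2 := hall b hb
    rw [h0, LinearMap.range_zero, finrank_bot] at h2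
    exact zero_ne_one h2
  have hee : ∀ b, E R ψ b * E R ψ b = E R ψ b := E_mul_self R hψ hK
  obtain ⟨ν, hν⟩ := FiniteField.exists_nonsquare h2
  have hν0 : ν ≠ 0 := by
    rintro rfl
    exact hν ⟨0, by simp⟩
  have hGs := Gs_sq hψ h2
  -- the centre
  have hm1 : (-1 : Kˣ) ^ 2 = 1 := by rw [neg_one_sq]
  obtain ⟨ω, hω⟩ := central_scalar R hspan (t_sq_central hm1)
  have hωval : ω = -eta k (-1 : K) := by
    have h4 := ct_central R hψ hK h3K hspan hall hm1 hω
    rw [h0, Nat.cast_zero, zero_sub, t_val_of_sq hm1] at h4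
    have h5 : ct R (-2 : K) = ω * -1 := by
      rw [← h4]
      congr 1
      simp
      norm_num
    rw [hct] at h5
    have h6 : eta k ((-2 : K) - 2) = eta k (-1 : K) := by
      have : ((-2 : K) - 2) = (-1) * (2 * 2) := by ring
      rw [this, eta_mul, eta_sq' h2K, mul_one]
    have h7 : eta k ((-2 : K) + 2) = 0 := by
      rw [neg_add_cancel, eta_zero]
    rw [h6, h7] at h5
    linear_combination h5
  -- the compressions of the monomial elements
  have hJ : ∀ c : Kˣ, (Fintype.card K : k) * LinearMap.trace k V (E R ψ 1 * R (w c)) =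
      (ψ (-(2 * ((c⁻¹ : Kˣ) : K))) - ψ (2 * ((c⁻¹ : Kˣ) : K))) * (eta k (-1 : K) * eta k (c : K) * Gs ψ) := by
    intro c
    rw [trace_E_w R hK]
    have h4 : ∀ x : K, chi R (u x * w c) = ct R (c * x) := by
      intro x
      rw [← tr_uw x c]
      apply chi_eq R hψ hK h3K hspan hall
      intro ε _ h6
      have h7 := lower_ne_of_uw x c
      rw [h6] at h7
      exact c.ne_zero h7.symm
    have hc : ((c⁻¹ : Kˣ) : K) * c = 1 := by rw [← Units.val_mul, inv_mul_cancel, Units.val_one]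
    have h5 : ∑ x : K, ψ (-(1 * x)) * chi R (u x * w c) = ∑ s : K, ψ (-(((c⁻¹ : Kˣ) : K) * s)) * ct R s := by
      rw [← Equiv.sum_comp (Units.mulLeft c) (fun s : K => ψ (-(((c⁻¹ : Kˣ) : K) * s)) * ct R s)]
      refine Finset.sum_congr rfl fun x _ => ?_
      have h6 : (Units.mulLeft c x : K) = c * x := rfl
      rw [h6, h4, ← mul_assoc, hc]
    rw [h5]
    have h6 : ∀ d : K, ∑ s : K, ψ (-(((c⁻¹ : Kˣ) : K) * s)) * eta k (s - d) =
        ψ (-(((c⁻¹ : Kˣ) : K) * d)) * (eta k (-1 : K) * eta k (c : K) * Gs ψ) := by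
      intro d
      rw [← Equiv.sum_comp (Equiv.addRight d) (fun s : K => ψ (-(((c⁻¹ : Kˣ) : K) * s)) * eta k (s - d))]
      have h7 : ∀ s : K, ψ (-(((c⁻¹ : Kˣ) : K) * (Equiv.addRight d s))) * eta k ((Equiv.addRight d s) - d) =
          ψ (-(((c⁻¹ : Kˣ) : K) * d)) * (ψ (-((c⁻¹ : Kˣ) : K) * s) * eta k s) := by
        intro s
        change ψ (-(((c⁻¹ : Kˣ) : K) * (s + d))) * eta k (s + d - d) = _
        rw [add_sub_cancel_right, ← mul_assoc, ← AddChar.map_add_eq_mul]
        congr 2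
        ring
      rw [Finset.sum_congr rfl fun s _ => h7 s, ← Finset.mul_sum, sum_eta_psi (neg_ne_zero.2 (Units.ne_zero _))]
      congr 2
      rw [← neg_one_mul, eta_mul, Units.val_inv_eq_inv_val, eta_inv c.ne_zero]
    have h8 : ∀ s : K, ψ (-(((c⁻¹ : Kˣ) : K) * s)) * ct R s =
        ψ (-(((c⁻¹ : Kˣ) : K) * s)) * eta k (s - 2) - ψ (-(((c⁻¹ : Kˣ) : K) * s)) * eta k (s - (-2)) := by
      intro s
      rw [hct, sub_neg_eq_add]
      ring
    rw [Finset.sum_congr rfl fun s _ => h8 s, Finset.sum_sub_distrib, h6, h6]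
    have h9 : -(((c⁻¹ : Kˣ) : K) * 2) = -(2 * ((c⁻¹ : Kˣ) : K)) := by ring
    have h10 : -(((c⁻¹ : Kˣ) : K) * -2) = 2 * ((c⁻¹ : Kˣ) : K) := by ring
    rw [h9, h10]
    ring
  have hEw : ∀ c : Kˣ, (Fintype.card K : k) • (E R ψ 1 * R (w c) * E R ψ 1) =
      ((ψ (-(2 * ((c⁻¹ : Kˣ) : K))) - ψ (2 * ((c⁻¹ : Kˣ) : K))) * (eta k (-1 : K) * eta k (c : K) * Gs ψ)) • E R ψ 1 := by
    intro c
    rw [compress (hee 1) (hall 1 one_ne_zero), smul_smul, hJ]
  -- the key computation
  have hkey : ∀ c d : Kˣ, (E R ψ 1 * R (w d) * E R ψ ν) * (E R ψ ν * R (w c) * E R ψ 1) = 0 := by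
    intro c d
    have h4 : (E R ψ 1 * R (w d) * E R ψ ν) * (E R ψ ν * R (w c) * E R ψ 1) =
        (Fintype.card K : k)⁻¹ • ∑ x : K, ψ (-(ν * x)) • (E R ψ 1 * R (w d * u x * w c) * E R ψ 1) := by
      have h5 : (E R ψ 1 * R (w d) * E R ψ ν) * (E R ψ ν * R (w c) * E R ψ 1) =
          E R ψ 1 * R (w d) * E R ψ ν * (R (w c) * E R ψ 1) := by
        rw [mul_assoc (E R ψ ν), ← mul_assoc _ (E R ψ ν), mul_assoc _ (E R ψ ν) (E R ψ ν), hee]
      rw [h5]
      have h6 : E R ψ ν = (Fintype.card K : k)⁻¹ • ∑ x, ψ (-(ν * x)) • R (u x) := rfl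
      rw [h6, mul_smul_comm, smul_mul_assoc, Finset.mul_sum, Finset.sum_mul]
      congr 1
      refine Finset.sum_congr rfl fun x _ => ?_
      rw [mul_smul_comm, smul_mul_assoc, MonoidHom.map_mul, MonoidHom.map_mul]
      simp only [mul_assoc]
    rw [h4, sum_units]
    have h5 : ∀ x : Kˣ, (Fintype.card K : k) • (ψ (-(ν * (x : K))) • (E R ψ 1 * R (w d * u (x : K) * w c) * E R ψ 1)) =
        (eta k (-1 : K) * Gs ψ * eta k ((c : K) * d) * (eta k (x : K) *
          (ψ (-ν * x + (-(((c⁻¹ : Kˣ) : K) + ((d⁻¹ : Kˣ) : K)) ^ 2) * ((x⁻¹ : Kˣ) : K)) -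
           ψ (-ν * x + (-(((c⁻¹ : Kˣ) : K) - ((d⁻¹ : Kˣ) : K)) ^ 2) * ((x⁻¹ : Kˣ) : K))))) • E R ψ 1 := by
      intro x
      have h6 : E R ψ 1 * R (w d * u (x : K) * w c) * E R ψ 1 =
          (ψ (-((d ^ 2 * x)⁻¹ : Kˣ) : K) * ψ (-((c ^ 2 * x)⁻¹ : Kˣ) : K)) • (E R ψ 1 * R (w (d * c * x)) * E R ψ 1) := by
        rw [w_u_w, MonoidHom.map_mul, MonoidHom.map_mul, ← mul_assoc, ← mul_assoc, E_mul_R, smul_mul_assoc,
          smul_mul_assoc, smul_mul_assoc, mul_assoc (E R ψ 1 * R (w (d * c * x))), R_mul_E, mul_smul_comm, smul_smul,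
          one_mul, one_mul]
      rw [h6, smul_comm, smul_comm (Fintype.card K : k), hEw, smul_smul, smul_smul]
      congr 1
      have e1 : ((((d * c * x)⁻¹ : Kˣ) : K)) = ((c⁻¹ : Kˣ) : K) * ((d⁻¹ : Kˣ) : K) * ((x⁻¹ : Kˣ) : K) := by
        rw [← Units.val_mul, ← Units.val_mul]
        congr 1
        rw [mul_inv, mul_inv, mul_comm d⁻¹]
      have e2 : (-((d ^ 2 * x)⁻¹ : Kˣ) : K) = -(((d⁻¹ : Kˣ) : K) ^ 2 * ((x⁻¹ : Kˣ) : K)) := by
        rw [mul_inv, ← inv_pow]
        push_cast
        rfl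
      have e3 : (-((c ^ 2 * x)⁻¹ : Kˣ) : K) = -(((c⁻¹ : Kˣ) : K) ^ 2 * ((x⁻¹ : Kˣ) : K)) := by
        rw [mul_inv, ← inv_pow]
        push_cast
        rfl
      have e4 : eta k ((d * c * x : Kˣ) : K) = eta k ((c : K) * d) * eta k (x : K) := by
        rw [Units.val_mul, Units.val_mul, eta_mul, mul_comm (d : K)]
      rw [e1, e2, e3, e4]
      have e5 : ψ (-ν * x + (-(((c⁻¹ : Kˣ) : K) + ((d⁻¹ : Kˣ) : K)) ^ 2) * ((x⁻¹ : Kˣ) : K)) =
          ψ (-(ν * (x : K))) * (ψ (-(((d⁻¹ : Kˣ) : K) ^ 2 * ((x⁻¹ : Kˣ) : K))) *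
            ψ (-(((c⁻¹ : Kˣ) : K) ^ 2 * ((x⁻¹ : Kˣ) : K)))) *
            ψ (-(2 * (((c⁻¹ : Kˣ) : K) * ((d⁻¹ : Kˣ) : K) * ((x⁻¹ : Kˣ) : K)))) := by
        rw [← AddChar.map_add_eq_mul, ← AddChar.map_add_eq_mul, ← AddChar.map_add_eq_mul]
        congr 1
        ring
      have e6 : ψ (-ν * x + (-(((c⁻¹ : Kˣ) : K) - ((d⁻¹ : Kˣ) : K)) ^ 2) * ((x⁻¹ : Kˣ) : K)) =
          ψ (-(ν * (x : K))) * (ψ (-(((d⁻¹ : Kˣ) : K) ^ 2 * ((x⁻¹ : Kˣ) : K))) *
            ψ (-(((c⁻¹ : Kˣ) : K) ^ 2 * ((x⁻¹ : Kˣ) : K)))) *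
            ψ (2 * (((c⁻¹ : Kˣ) : K) * ((d⁻¹ : Kˣ) : K) * ((x⁻¹ : Kˣ) : K))) := by
        rw [← AddChar.map_add_eq_mul, ← AddChar.map_add_eq_mul, ← AddChar.map_add_eq_mul]
        congr 1
        ring
      rw [e5, e6]
      ring
    have h6 : (Fintype.card K : k) • ∑ x : Kˣ, ψ (-(ν * (x : K))) • (E R ψ 1 * R (w d * u (x : K) * w c) * E R ψ 1) =
        (eta k (-1 : K) * Gs ψ * eta k ((c : K) * d) *
          (Sal ψ (-ν) (-(((c⁻¹ : Kˣ) : K) + ((d⁻¹ : Kˣ) : K)) ^ 2) -
            Sal ψ (-ν) (-(((c⁻¹ : Kˣ) : K) - ((d⁻¹ : Kˣ) : K)) ^ 2))) • E R ψ 1 := by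
      rw [Finset.smul_sum, Finset.sum_congr rfl fun x _ => h5 x, ← Finset.sum_smul, ← Finset.mul_sum]
      congr 2
      unfold Sal
      rw [← Finset.sum_sub_distrib]
      refine Finset.sum_congr rfl fun x _ => ?_
      ring
    have h7 : ∀ m : K, m ≠ 0 → Sal ψ (-ν) (-m ^ 2) = 0 := by
      intro m hm
      apply Sal_eq_zero
      rintro ⟨r, hr⟩
      apply hν
      refine ⟨r / m, ?_⟩
      field_simp
      linear_combination hr
    have h8 : Sal ψ (-ν) 0 = -(eta k (-1 : K) * Gs ψ) := by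
      rw [Sal_zero (neg_ne_zero.2 hν0), ← neg_one_mul, eta_mul, eta_nonsquare hν]
      ring
    have h9 : (Fintype.card K : k) • (ψ (-(ν * 0)) • (E R ψ 1 * R (w d * u 0 * w c) * E R ψ 1) +
        ∑ x : Kˣ, ψ (-(ν * (x : K))) • (E R ψ 1 * R (w d * u (x : K) * w c) * E R ψ 1)) = 0 := by
      rw [smul_add, h6, mul_zero, neg_zero, AddChar.map_zero_eq_one, one_smul, u_zero, mul_one, w_mul_w]
      have hη1 : eta k (-1 : K) * eta k (-1 : K) = 1 := eta_sq (neg_ne_zero.2 one_ne_zero)
      have hci : ((c⁻¹ : Kˣ) : K) ≠ 0 := Units.ne_zero _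
      by_cases hcd : c = d
      · rw [hcd, div_self', hω, mul_smul_comm, mul_one, smul_mul_assoc, hee, sub_self, ← two_mul,
          h7 _ (mul_ne_zero h2K (Units.ne_zero _)), eta_sq' d.ne_zero]
        have e1 : (-(0 : K) ^ 2) = 0 := by ring
        rw [e1, h8, smul_smul, ← add_smul, hωval]
        have e2 : (Fintype.card K : k) * -eta k (-1 : K) + eta k (-1 : K) * Gs ψ * 1 * (0 - -(eta k (-1 : K) * Gs ψ)) = 0 := by
          linear_combination (Gs ψ ^ 2) * hη1 + hGs
        rw [e2, zero_smul]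
      · by_cases hcd' : c = -d
        · have e0 : -(c / d) = 1 := by rw [hcd', neg_div, div_self', neg_neg]
          have e0' : ((c⁻¹ : Kˣ) : K) = -((d⁻¹ : Kˣ) : K) := by rw [hcd', inv_neg, Units.val_neg]
          rw [e0, t_one, map_one, mul_one, hee, e0', neg_add_cancel]
          have e1 : (-(0 : K) ^ 2) = 0 := by ring
          have e3 : -((d⁻¹ : Kˣ) : K) - ((d⁻¹ : Kˣ) : K) ≠ 0 := by
            intro h
            apply mul_ne_zero h2K (Units.ne_zero d⁻¹)
            linear_combination -h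
          have e4 : eta k (-(d : K) * d) = eta k (-1 : K) := by
            rw [neg_mul, ← neg_one_mul, eta_mul, eta_sq' d.ne_zero, mul_one]
          rw [e1, h7 _ e3, h8, hcd', Units.val_neg, e4, ← add_smul]
          have e2 : (Fintype.card K : k) + eta k (-1 : K) * Gs ψ * eta k (-1 : K) * (-(eta k (-1 : K) * Gs ψ) - 0) = 0 := by
            linear_combination (-(Gs ψ ^ 2) * eta k (-1 : K) - (Fintype.card K : k)) * hη1 - (eta k (-1 : K)) * hGs
          rw [e2, zero_smul]
        · have e1 : (-(c / d)) ^ 2 ≠ 1 := by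
            intro h
            rw [neg_sq, div_pow, div_eq_one] at h
            have h10 : (c : K) ^ 2 = (d : K) ^ 2 := by
              rw [← Units.val_pow_eq_pow_val, h, Units.val_pow_eq_pow_val]
            rcases sq_eq_sq_iff_eq_or_eq_neg.1 h10 with h11 | h11
            · exact hcd (Units.ext h11)
            · exact hcd' (Units.ext (by rw [h11, Units.val_neg]))
          rw [E_t_E R hψ hK one_ne_zero e1, smul_zero, zero_add, h7, h7]
          · rw [sub_self, mul_zero, zero_smul]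
          · intro h
            apply hcd
            rw [sub_eq_zero] at h
            exact inv_injective (Units.ext h)
          · intro h
            apply hcd'
            have h10 : ((c⁻¹ : Kˣ) : K) = ((-d⁻¹ : Kˣ) : K) := by
              rw [Units.val_neg]
              exact eq_neg_of_add_eq_zero_left h
            have h11 := Units.ext h10
            rw [← inv_inv c, h11, inv_neg, inv_inv]
    have h10 := congrArg (fun A => (Fintype.card K : k)⁻¹ • A) h9
    simp only [smul_smul, inv_mul_cancel₀ hK, one_smul, smul_zero] at h10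
    rw [h10, smul_zero]
  obtain ⟨c, hc⟩ := exists_w_ne hψ hK hspan (hne ν hν0) (hne 1 one_ne_zero) (by rwa [mul_one])
  obtain ⟨d, hd⟩ := exists_w_ne hψ hK hspan (hne 1 one_ne_zero) (hne ν hν0) (by rwa [one_mul])
  -- the product of two nonzero maps through a line is nonzero
  obtain ⟨y, hy⟩ : ∃ y, (E R ψ ν * R (w c) * E R ψ 1) y ≠ 0 := by
    by_contra h
    push Not at h
    exact hc (LinearMap.ext h)
  apply hd
  ext z
  set y' := (E R ψ ν * R (w c) * E R ψ 1) y with hy'
  have hy'mem : y' ∈ LinearMap.range (E R ψ ν) := by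
    rw [hy', mul_assoc, Module.End.mul_apply]
    exact LinearMap.mem_range_self _ _
  have h3 := (finrank_eq_one_iff_of_nonzero' (⟨y', hy'mem⟩ : LinearMap.range (E R ψ ν))
      (fun h0 => hy (congrArg Subtype.val h0))).1 (hall ν hν0) ⟨E R ψ ν z, LinearMap.mem_range_self _ _⟩
  obtain ⟨s, hs⟩ := h3
  have h4 : s • y' = E R ψ ν z := congrArg Subtype.val hs
  have h5 := congrArg (fun f : Module.End k V => f y) (hkey c d)
  simp only [LinearMap.zero_apply] at h5
  rw [Module.End.mul_apply, ← hy'] at h5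
  have h6 : E R ψ ν y' = y' := by
    rw [hy', mul_assoc, Module.End.mul_apply, ← Module.End.mul_apply (E R ψ ν), hee]
  rw [Module.End.mul_apply, h6] at h5
  rw [Module.End.mul_apply, ← h4, map_smul, h5, smul_zero, LinearMap.zero_apply]

end Rep

end Cfsg.Agent.H464.Sl2
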