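import Cfsg.Agent.H464.L2TrG

/-!
# Traces of `SL₂(q)`, VIII: a generator of the nonsplit torus (helper464)

* `exists_gen` : there is `τ₀` with `NonSplit τ₀`, `Zt τ₀` of order `q + 1`, such that every nonsplit `τ` is the trace of a
  power of `Zt τ₀`.
-/

set_option autoImplicit false
set_option linter.unusedSectionVars false

namespace Cfsg.Agent.H464.Sl2

open Matrix Module Polynomial

variable {K : Type*} [Field K] [Fintype K] [DecidableEq K]

/-- The elements fixed by the Frobenius are in `K`. -/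
theorem mem_of_pow {W : Type*} [Field W] [Algebra K W] {x : W} (hx : x ^ Fintype.card K = x) :
    ∃ a : K, algebraMap K W a = x := by
  classical
  have h1 : 1 < Fintype.card K := Fintype.one_lt_card
  have h2 : (X ^ Fintype.card K - X : W[X]) ≠ 0 := FiniteField.X_pow_card_sub_X_ne_zero W h1
  set S := (X ^ Fintype.card K - X : W[X]).roots.toFinset with hS
  have h3 : S.card ≤ Fintype.card K := by
    calc S.card ≤ Multiset.card (X ^ Fintype.card K - X : W[X]).roots := Multiset.toFinset_card_le _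
      _ ≤ (X ^ Fintype.card K - X : W[X]).natDegree := Polynomial.card_roots' _
      _ = Fintype.card K := FiniteField.X_pow_card_sub_X_natDegree_eq W h1
  have hmem : ∀ y : W, y ∈ S ↔ y ^ Fintype.card K = y := by
    intro y
    rw [hS, Multiset.mem_toFinset, Polynomial.mem_roots h2, Polynomial.IsRoot.def, Polynomial.eval_sub,
      Polynomial.eval_pow, Polynomial.eval_X, sub_eq_zero]
  have h4 : Finset.univ.image (algebraMap K W) ⊆ S := by
    intro y hy
    obtain ⟨a, -, rfl⟩ := Finset.mem_image.1 hy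
    rw [hmem, ← map_pow, FiniteField.pow_card]
  have h5 : (Finset.univ.image (algebraMap K W)).card = Fintype.card K := by
    rw [Finset.card_image_of_injective _ (algebraMap K W).injective, Finset.card_univ]
  have h6 : Finset.univ.image (algebraMap K W) = S := Finset.eq_of_subset_of_card_le h4 (by rw [h5]; exact h3)
  have h7 : x ∈ Finset.univ.image (algebraMap K W) := by
    rw [h6, hmem]
    exact hx
  obtain ⟨a, -, ha⟩ := Finset.mem_image.1 h7
  exact ⟨a, ha⟩

theorem pow_map_eq {W : Type*} [Field W] [Algebra K W] (a : K) : (algebraMap K W a) ^ Fintype.card K = algebraMap K W a := by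
  rw [← map_pow, FiniteField.pow_card]

theorem add_pow_card {W : Type*} [Field W] [Algebra K W] (x y : W) :
    (x + y) ^ Fintype.card K = x ^ Fintype.card K + y ^ Fintype.card K := by
  obtain ⟨p, hp, n, hp', hn⟩ := FiniteField.card' K
  have := hp
  have : Fact p.Prime := ⟨hp'⟩
  have : CharP W p := charP_of_injective_algebraMap (algebraMap K W).injective p
  rw [hn, add_pow_char_pow]

theorem neg_pow_card {W : Type*} [Field W] [Algebra K W] (x : W) : (-x) ^ Fintype.card K = -(x ^ Fintype.card K) := by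
  have h := add_pow_card (K := K) (-x) x
  rw [neg_add_cancel, zero_pow Fintype.card_ne_zero] at h
  exact (neg_eq_of_add_eq_zero_left h.symm).symm

section Gen

variable {W : Type*} [Field W] [Algebra K W] {τ : K} {z : W}

/-- The eigenvalues of the powers of `Zt τ`. -/
theorem Zt_pow_val (hz : z ^ 2 = algebraMap K W τ * z - 1) (n : ℕ) :
    algebraMap K W ((Zt τ ^ n).1 1 1) + algebraMap K W ((Zt τ ^ n).1 1 0) * z = z ^ n := by
  induction n with
  | zero =>
    rw [pow_zero, pow_zero]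
    simp
  | succ n ih =>
    have h1 : (Zt τ ^ (n + 1)).1 = (Zt τ ^ n).1 * (Zt τ).1 := by
      rw [pow_succ]
      rfl
    rw [h1, Zt_val, Matrix.mul_apply, Matrix.mul_apply, Fin.sum_univ_two, Fin.sum_univ_two, pow_succ z, ← ih]
    simp
    linear_combination -(algebraMap K W ((Zt τ ^ n).1 1 0)) * hz

theorem Zt_pow_tr (hz : z + z⁻¹ = algebraMap K W τ) (hz0 : z ≠ 0) (n : ℕ) :
    algebraMap K W ((Zt τ ^ n).1 0 0 + (Zt τ ^ n).1 1 1) = z ^ n + (z⁻¹) ^ n := by
  have h1 : z ^ 2 = algebraMap K W τ * z - 1 := by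
    rw [← hz]
    field_simp
    ring
  have h2 : z⁻¹ ^ 2 = algebraMap K W τ * z⁻¹ - 1 := by
    rw [← hz]
    field_simp
    ring
  have h3 := Zt_pow_val h1 n
  have h4 := Zt_pow_val h2 n
  have hc : (Zt τ ^ n) * Zt τ = Zt τ * (Zt τ ^ n) := by
    rw [← pow_succ, pow_succ']
  obtain ⟨h5, h6⟩ := shape hc
  rw [← h3, ← h4, h6, map_add, map_add, map_mul, ← hz]
  ring

end Gen


/-- **A generator of the nonsplit torus.** -/
theorem exists_gen_aux (K : Type*) [Field K] [Fintype K] [DecidableEq K] (W : Type*) [Field W] [IsAlgClosed W]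
    [Algebra K W] : ∃ τ₀ : K, NonSplit τ₀ ∧ Zt τ₀ ^ (Fintype.card K + 1) = 1 ∧
    (∀ τ : K, NonSplit τ → ∃ n : ℕ, (Zt τ₀ ^ n).1 0 0 + (Zt τ₀ ^ n).1 1 1 = τ ∧ (Zt τ₀ ^ n).1 1 0 ≠ 0) ∧
    (∀ n : ℕ, (Zt τ₀ ^ n).1 1 0 = 0 ↔ Fintype.card K + 1 ∣ 2 * n) ∧
    (∀ n : ℕ, Zt τ₀ ^ n = 1 → Fintype.card K + 1 ∣ n) ∧
    (Odd (Fintype.card K) → Zt τ₀ ^ ((Fintype.card K + 1) / 2) = t (-1) ∧
      ∀ n : ℕ, (Zt τ₀ ^ n).1 1 0 ≠ 0 →
        (IsSquare ((Zt τ₀ ^ n).1 0 0 + (Zt τ₀ ^ n).1 1 1 + 2) ↔ Even n)) := by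
  set q := Fintype.card K with hq
  have hq1 : 1 < q := Fintype.one_lt_card
  have : NeZero ((q + 1 : ℕ) : W) := by
    constructor
    intro h
    have h1 : ((q + 1 : ℕ) : K) = 0 := by
      apply (algebraMap K W).injective
      rw [map_natCast, h, map_zero]
    rw [Nat.cast_add, hq, FiniteField.cast_card_eq_zero, zero_add, Nat.cast_one] at h1
    exact one_ne_zero h1
  obtain ⟨z, hz⟩ := HasEnoughRootsOfUnity.exists_primitiveRoot W (q + 1)
  have hz0 : z ≠ 0 := hz.ne_zero (by omega)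
  have hzq : z ^ q = z⁻¹ := by
    rw [← mul_eq_one_iff_eq_inv₀ hz0, ← pow_succ]
    exact hz.pow_eq_one
  obtain ⟨τ₀, hτ₀⟩ : ∃ a : K, algebraMap K W a = z + z⁻¹ := by
    apply mem_of_pow
    rw [← hq, add_pow_card, ← hq, inv_pow, hzq, inv_inv, add_comm]
  have hdvd : ∀ n : ℕ, z ^ n = (z⁻¹) ^ n ↔ q + 1 ∣ 2 * n := by
    intro n
    rw [inv_pow, ← mul_eq_one_iff_eq_inv₀ (pow_ne_zero n hz0), ← sq, ← pow_mul, mul_comm n 2]
    exact hz.pow_eq_one_iff_dvd _
  have hzz : z ≠ z⁻¹ := by
    intro h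
    have h1 := (hdvd 1).1 (by rw [pow_one, pow_one]; exact h)
    have := Nat.le_of_dvd (by omega) h1
    omega
  have hns : NonSplit τ₀ := by
    intro x hx
    have h1 : (algebraMap K W x - z) * (algebraMap K W x - z⁻¹) = 0 := by
      have h2 := congrArg (algebraMap K W) hx
      rw [map_add, map_sub, map_pow, map_mul, map_one, map_zero, hτ₀] at h2
      have h3 : z * z⁻¹ = 1 := mul_inv_cancel₀ hz0
      linear_combination h2 + h3
    rcases mul_eq_zero.1 h1 with h2 | h2
    · rw [sub_eq_zero] at h2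
      apply hzz
      rw [← hzq, ← h2, hq, pow_map_eq]
    · rw [sub_eq_zero] at h2
      apply hzz
      have h3 := pow_map_eq (K := K) (W := W) x
      rw [h2, ← hq, inv_pow, hzq, inv_inv] at h3
      exact h3
  have h1 : z ^ 2 = algebraMap K W τ₀ * z - 1 := by
    rw [hτ₀]
    field_simp
    ring
  have h2 : z⁻¹ ^ 2 = algebraMap K W τ₀ * z⁻¹ - 1 := by
    rw [hτ₀]
    field_simp
    ring
  have h10 : ∀ n : ℕ, (Zt τ₀ ^ n).1 1 0 = 0 ↔ q + 1 ∣ 2 * n := by
    intro n
    rw [← hdvd]
    have h3 := Zt_pow_val h1 n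
    have h4 := Zt_pow_val h2 n
    constructor
    · intro h
      rw [← h3, ← h4, h, map_zero, zero_mul, zero_mul]
    · intro h
      rw [← h3, ← h4] at h
      have h5 : algebraMap K W ((Zt τ₀ ^ n).1 1 0) * (z - z⁻¹) = 0 := by linear_combination h
      rcases mul_eq_zero.1 h5 with h6 | h6
      · exact (map_eq_zero_iff _ (algebraMap K W).injective).1 h6
      · exact absurd (sub_eq_zero.1 h6) hzz
  have hval : ∀ n : ℕ, q + 1 ∣ 2 * n → ∀ c : K, z ^ n = algebraMap K W c → c * c = 1 →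
      (Zt τ₀ ^ n).1 = !![c, 0; 0, c] := by
    intro n hn c hc _
    have hcm : (Zt τ₀ ^ n) * Zt τ₀ = Zt τ₀ * (Zt τ₀ ^ n) := by
      rw [← pow_succ, pow_succ']
    obtain ⟨h5, h6⟩ := shape hcm
    have h7 := (h10 n).2 hn
    have h3 := Zt_pow_val h1 n
    rw [h7, map_zero, zero_mul, add_zero, hc] at h3
    have h8 := (algebraMap K W).injective h3
    rw [h7, neg_zero] at h5
    rw [h7, zero_mul, add_zero, h8] at h6
    ext i j
    fin_cases i <;> fin_cases j
    · exact h6
    · exact h5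
    · exact h7
    · exact h8
  have hord : Zt τ₀ ^ (q + 1) = 1 := by
    apply Subtype.ext
    rw [hval (q + 1) (Dvd.intro_left 2 rfl) 1 (by rw [map_one]; exact hz.pow_eq_one) (one_mul 1)]
    change _ = (1 : Matrix (Fin 2) (Fin 2) K)
    rw [Matrix.one_fin_two]
  refine ⟨τ₀, hns, hord, ?_, h10, ?_, ?_⟩
  · intro τ hτ
    obtain ⟨x, hx⟩ := IsAlgClosed.exists_root (C (1 : W) * X ^ 2 + C (-(algebraMap K W τ)) * X + C 1) (by
      rw [Polynomial.degree_quadratic one_ne_zero]
      norm_num)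
    simp only [Polynomial.IsRoot.def, Polynomial.eval_add, Polynomial.eval_mul, Polynomial.eval_pow, Polynomial.eval_C,
      Polynomial.eval_X, one_mul] at hx
    have hx0 : x ≠ 0 := by
      rintro rfl
      simp at hx
    have hxq : x ^ q ≠ x := by
      intro h
      obtain ⟨a, ha⟩ := mem_of_pow h
      apply hτ a
      apply (algebraMap K W).injective
      rw [map_add, map_sub, map_pow, map_mul, map_one, map_zero, ha]
      linear_combination hx
    have h3 : (x ^ q) ^ 2 - algebraMap K W τ * x ^ q + 1 = 0 := by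
      have h5 : (fun y : W => y ^ q) (x ^ 2 + -(algebraMap K W τ) * x + 1) =
          (x ^ q) ^ 2 - algebraMap K W τ * x ^ q + 1 := by
        dsimp only
        rw [add_pow_card, add_pow_card, one_pow, mul_pow, neg_pow_card, pow_map_eq, ← pow_mul, ← pow_mul, mul_comm 2]
        ring
      rw [← h5, hx]
      exact zero_pow (by omega)
    have h4 : (x ^ q - x) * (x ^ q + x - algebraMap K W τ) = 0 := by
      linear_combination h3 - hx
    have h5 : x ^ q + x = algebraMap K W τ := by
      rcases mul_eq_zero.1 h4 with h6 | h6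
      · exact absurd (sub_eq_zero.1 h6) hxq
      · exact sub_eq_zero.1 h6
    have h6 : x ^ (q + 1) = 1 := by
      rw [pow_succ]
      linear_combination x * h5 - hx
    obtain ⟨n, -, hn⟩ := hz.eq_pow_of_pow_eq_one h6
    have h7 : x ^ q = x⁻¹ := by
      rw [← mul_eq_one_iff_eq_inv₀ hx0, ← pow_succ]
      exact h6
    refine ⟨n, ?_, ?_⟩
    · apply (algebraMap K W).injective
      rw [Zt_pow_tr hτ₀.symm hz0, inv_pow, hn, ← h5, h7, add_comm]
    · intro h8
      have h9 := (hdvd n).2 ((h10 n).1 h8)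
      rw [inv_pow, hn] at h9
      exact hxq (h7.trans h9.symm)
  · intro n hn
    have h3 := Zt_pow_val h1 n
    rw [hn] at h3
    rw [← hz.pow_eq_one_iff_dvd, ← h3]
    simp
  · intro hodd
    have hm : 2 * ((q + 1) / 2) = q + 1 := by
      obtain ⟨m, hm⟩ := hodd
      omega
    have hzm : z ^ ((q + 1) / 2) = -1 := by
      have h3 : (z ^ ((q + 1) / 2) - 1) * (z ^ ((q + 1) / 2) + 1) = 0 := by
        have h4 : z ^ ((q + 1) / 2) * z ^ ((q + 1) / 2) = 1 := by
          rw [← pow_add, ← two_mul, hm]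
          exact hz.pow_eq_one
        linear_combination h4
      rcases mul_eq_zero.1 h3 with h4 | h4
      · exfalso
        rw [sub_eq_zero, hz.pow_eq_one_iff_dvd] at h4
        have := Nat.le_of_dvd (by omega) h4
        omega
      · linear_combination h4
    constructor
    · apply Subtype.ext
      rw [hval _ (by rw [hm]) (-1) (by rw [map_neg, map_one]; exact hzm) (by ring)]
      change _ = !![((-1 : Kˣ) : K), 0; 0, (((-1)⁻¹ : Kˣ) : K)]
      simp
    · intro n hn
      have htr := Zt_pow_tr hτ₀.symm hz0 n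
      have hn' : ¬ q + 1 ∣ 2 * n := fun h => hn ((h10 n).2 h)
      constructor
      · rintro ⟨r, hr⟩
        by_contra hev
        rw [Nat.not_even_iff_odd] at hev
        obtain ⟨y, hy⟩ := IsAlgClosed.exists_pow_nat_eq (z ^ n) (n := 2) (by norm_num)
        have hy0 : y ≠ 0 := by
          rintro rfl
          exact pow_ne_zero n hz0 (by rw [← hy]; simp)
        have h3 : (algebraMap K W r - (y + y⁻¹)) * (algebraMap K W r + (y + y⁻¹)) = 0 := by
          have h4 : algebraMap K W r * algebraMap K W r = z ^ n + (z⁻¹) ^ n + 2 := by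
            rw [← map_mul, ← hr, map_add, htr, map_ofNat]
          have h5 : y⁻¹ ^ 2 = (z⁻¹) ^ n := by
            rw [inv_pow, hy, inv_pow]
          have h6 : y * y⁻¹ = 1 := mul_inv_cancel₀ hy0
          linear_combination h4 - hy - h5 - 2 * h6
        have h4 : (y + y⁻¹) ^ q = y + y⁻¹ := by
          rcases mul_eq_zero.1 h3 with h5 | h5
          · rw [← sub_eq_zero.1 h5, hq, pow_map_eq]
          · have h6 : y + y⁻¹ = algebraMap K W (-r) := by
              rw [map_neg]
              linear_combination h5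
            rw [h6, hq, pow_map_eq]
        have h5 : y ^ (q + 1) = -1 := by
          obtain ⟨m, hm'⟩ := hev
          have h6 : q + 1 = 2 * ((q + 1) / 2) := hm.symm
          rw [h6, pow_mul, hy, ← pow_mul, mul_comm n, pow_mul, hzm, hm', pow_succ, pow_mul, neg_one_sq, one_pow, one_mul]
        have h6 : y ^ q = -y⁻¹ := by
          have h7 : y ^ q * y = -1 := by rw [← pow_succ, h5]
          field_simp
          exact h7
        rw [hq, add_pow_card, ← hq, inv_pow, h6, inv_neg, inv_inv] at h4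
        have h2W : (2 : W) ≠ 0 := by
          intro h
          have h7 : (2 : K) = 0 := by
            apply (algebraMap K W).injective
            rw [map_ofNat, map_zero]
            exact h
          have h8 : (q : K) = 0 := FiniteField.cast_card_eq_zero K
          obtain ⟨m, hm'⟩ := hodd
          rw [hm', Nat.cast_add, Nat.cast_mul, Nat.cast_ofNat, h7, zero_mul, zero_add, Nat.cast_one] at h8
          exact one_ne_zero h8
        have h7 : y + y⁻¹ = 0 := by
          have h8 : (2 : W) * (y + y⁻¹) = 0 := by linear_combination -h4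
          exact (mul_eq_zero.1 h8).resolve_left h2W
        apply hn'
        rw [← hdvd, inv_pow, ← hy]
        have h8 : y⁻¹ = -y := by linear_combination h7
        rw [← inv_pow, h8, neg_sq]
      · intro hev
        obtain ⟨m, hm'⟩ := hev
        obtain ⟨r, hr⟩ : ∃ a : K, algebraMap K W a = z ^ m + (z⁻¹) ^ m := by
          refine ⟨(Zt τ₀ ^ m).1 0 0 + (Zt τ₀ ^ m).1 1 1, Zt_pow_tr hτ₀.symm hz0 m⟩
        refine ⟨r, ?_⟩
        apply (algebraMap K W).injective
        rw [map_add, htr, map_mul, hr, map_ofNat, hm', pow_add, pow_add]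
        have h6 : z ^ m * z⁻¹ ^ m = 1 := by rw [← mul_pow, mul_inv_cancel₀ hz0, one_pow]
        linear_combination -2 * h6

theorem exists_gen (K : Type*) [Field K] [Fintype K] [DecidableEq K] : ∃ τ₀ : K, NonSplit τ₀ ∧ Zt τ₀ ^ (Fintype.card K + 1) = 1 ∧
    (∀ τ : K, NonSplit τ → ∃ n : ℕ, (Zt τ₀ ^ n).1 0 0 + (Zt τ₀ ^ n).1 1 1 = τ ∧ (Zt τ₀ ^ n).1 1 0 ≠ 0) ∧
    (∀ n : ℕ, (Zt τ₀ ^ n).1 1 0 = 0 ↔ Fintype.card K + 1 ∣ 2 * n) ∧
    (∀ n : ℕ, Zt τ₀ ^ n = 1 → Fintype.card K + 1 ∣ n) ∧
    (Odd (Fintype.card K) → Zt τ₀ ^ ((Fintype.card K + 1) / 2) = t (-1) ∧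
      ∀ n : ℕ, (Zt τ₀ ^ n).1 1 0 ≠ 0 →
        (IsSquare ((Zt τ₀ ^ n).1 0 0 + (Zt τ₀ ^ n).1 1 1 + 2) ↔ Even n)) :=
  exists_gen_aux K (AlgebraicClosure K)

end Cfsg.Agent.H464.Sl2
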