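import Cfsg.Agent.H464.L2TrH

/-!
# Traces of `SL₂(q)`, IX: the table in degree `q - 1` (helper464)

* `Gen τ₀` : `Zt τ₀` generates a nonsplit torus; `exists_Gen`;
* `cusp_table` : `V^U = 0`, all weights: `ζ` with `ζ ^ (q + 1) = 1`, `chi (Zt τ₀ ^ n) = -(ζ ^ n + ζ⁻¹ ^ n)`, `ζ ≠ -1` for odd
  `q`, `ζ = 1` only if `q + 1 = 0` in `k`, the centre acts by `ζ ^ ((q + 1) / 2)`.
-/

set_option autoImplicit false
set_option linter.unusedSectionVars false

namespace Cfsg.Agent.H464.Sl2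

open Matrix Module

variable {K : Type*} [Field K] [Fintype K] [DecidableEq K]

/-- the trace -/
def trc (g : SpecialLinearGroup (Fin 2) K) : K := g.1 0 0 + g.1 1 1

/-- `Zt τ₀` generates a nonsplit torus. -/
structure Gen (τ₀ : K) : Prop where
  ns : NonSplit τ₀
  pow_card : Zt τ₀ ^ (Fintype.card K + 1) = 1
  surj : ∀ τ : K, NonSplit τ → ∃ n : ℕ, (Zt τ₀ ^ n).1 0 0 + (Zt τ₀ ^ n).1 1 1 = τ ∧ (Zt τ₀ ^ n).1 1 0 ≠ 0
  lower : ∀ n : ℕ, (Zt τ₀ ^ n).1 1 0 = 0 ↔ Fintype.card K + 1 ∣ 2 * n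
  one : ∀ n : ℕ, Zt τ₀ ^ n = 1 → Fintype.card K + 1 ∣ n
  neg_one : Odd (Fintype.card K) → Zt τ₀ ^ ((Fintype.card K + 1) / 2) = t (-1)
  sq : Odd (Fintype.card K) → ∀ n : ℕ, (Zt τ₀ ^ n).1 1 0 ≠ 0 →
        (IsSquare ((Zt τ₀ ^ n).1 0 0 + (Zt τ₀ ^ n).1 1 1 + 2) ↔ Even n)

theorem exists_Gen (K : Type*) [Field K] [Fintype K] [DecidableEq K] : ∃ τ₀ : K, Gen τ₀ := by
  obtain ⟨τ₀, h1, h2, h3, h4, h5, h6⟩ := exists_gen K
  exact ⟨τ₀, h1, h2, h3, h4, h5, fun h => (h6 h).1, fun h => (h6 h).2⟩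

/-- The three kinds of traces. -/
theorem trace_cases (s : K) : NonSplit s ∨ s = 2 ∨ s = -2 ∨ ∃ a : Kˣ, a ^ 2 ≠ 1 ∧ s = (a : K) + ((a⁻¹ : Kˣ) : K) := by
  by_cases h : NonSplit s
  · exact Or.inl h
  · right
    unfold NonSplit at h
    push Not at h
    obtain ⟨x, hx⟩ := h
    have hx0 : x ≠ 0 := by
      rintro rfl
      simp at hx
    have hs : s = x + x⁻¹ := by
      field_simp
      linear_combination -hx
    by_cases h1 : x ^ 2 = 1
    · rcases mul_self_eq_one_iff.1 ((sq x).symm.trans h1) with h2 | h2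
      · left
        rw [hs, h2]
        norm_num
      · right
        left
        rw [hs, h2]
        norm_num
    · right
      right
      refine ⟨Units.mk0 x hx0, fun h2 => h1 ?_, ?_⟩
      · have h3 := congrArg (fun y : Kˣ => (y : K)) h2
        simpa using h3
      · rw [hs, Units.val_inv_eq_inv_val, Units.val_mk0]

/-- Number of eigenvalues for a given trace. -/
def nr (s : K) : ℕ := (Finset.univ.filter fun x : Kˣ => (x : K) + ((x⁻¹ : Kˣ) : K) = s).card

theorem sum_nr : ∑ s : K, nr s = Fintype.card K - 1 := by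
  unfold nr
  rw [← Fintype.card_units, ← Finset.card_univ,
    Finset.card_eq_sum_card_fiberwise (f := fun x : Kˣ => (x : K) + ((x⁻¹ : Kˣ) : K)) (t := Finset.univ)
      (fun x _ => Finset.mem_univ _)]

theorem nr_root {s : K} {x : Kˣ} (h : (x : K) + ((x⁻¹ : Kˣ) : K) = s) : (x : K) ^ 2 - s * x + 1 = 0 := by
  have h3 : ((x⁻¹ : Kˣ) : K) * (x : K) = 1 := by rw [← Units.val_mul, inv_mul_cancel, Units.val_one]
  rw [← h]
  linear_combination -h3

theorem nr_nonsplit {s : K} (h : NonSplit s) : nr s = 0 := by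
  unfold nr
  rw [Finset.card_eq_zero, Finset.filter_eq_empty_iff]
  intro x _ hx
  exact h x (nr_root hx)

theorem nr_pm {s : K} (ε : Kˣ) (hε : ε ^ 2 = 1) (hs : s = 2 * (ε : K)) : nr s = 1 := by
  unfold nr
  rw [Finset.card_eq_one]
  refine ⟨ε, ?_⟩
  have hε2 : (ε : K) ^ 2 = 1 := by rw [← Units.val_pow_eq_pow_val, hε, Units.val_one]
  ext x
  rw [Finset.mem_filter, Finset.mem_singleton]
  constructor
  · rintro ⟨-, hx⟩
    have h1 := nr_root hx
    rw [hs] at h1
    have h2 : ((x : K) - ε) ^ 2 = 0 := by linear_combination h1 + hε2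
    exact Units.ext (sub_eq_zero.1 (pow_eq_zero_iff (two_ne_zero)|>.1 h2))
  · rintro rfl
    refine ⟨Finset.mem_univ _, ?_⟩
    have h3 : x⁻¹ = x := by
      rw [inv_eq_iff_mul_eq_one, ← sq, hε]
    rw [h3, hs]
    ring

theorem nr_split {a : Kˣ} (ha : a ^ 2 ≠ 1) : nr ((a : K) + ((a⁻¹ : Kˣ) : K)) = 2 := by
  unfold nr
  rw [Finset.card_eq_two]
  refine ⟨a, a⁻¹, ?_, ?_⟩
  · intro h
    apply ha
    rw [sq]
    nth_rewrite 2 [h]
    exact mul_inv_cancel a
  · ext x
    rw [Finset.mem_filter, Finset.mem_insert, Finset.mem_singleton]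
    constructor
    · rintro ⟨-, hx⟩
      have h1 := nr_root hx
      have h2 : ((x : K) - a) * ((x : K) - ((a⁻¹ : Kˣ) : K)) = 0 := by
        have h3 : (a : K) * ((a⁻¹ : Kˣ) : K) = 1 := by rw [← Units.val_mul, mul_inv_cancel, Units.val_one]
        linear_combination h1 + h3
      rcases mul_eq_zero.1 h2 with h3 | h3
      · exact Or.inl (Units.ext (sub_eq_zero.1 h3))
      · exact Or.inr (Units.ext (sub_eq_zero.1 h3))
    · rintro (rfl | rfl)
      · exact ⟨Finset.mem_univ _, rfl⟩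
      · refine ⟨Finset.mem_univ _, ?_⟩
        rw [inv_inv, add_comm]

theorem two_ne_of_odd (h : Odd (Fintype.card K)) : (2 : K) ≠ 0 := by
  intro h7
  have h8 : (Fintype.card K : K) = 0 := FiniteField.cast_card_eq_zero K
  obtain ⟨m, hm'⟩ := h
  rw [hm', Nat.cast_add, Nat.cast_mul, Nat.cast_ofNat, h7, zero_mul, zero_add, Nat.cast_one] at h8
  exact one_ne_zero h8

theorem ringChar_ne_of_odd (h : Odd (Fintype.card K)) : ringChar K ≠ 2 := by
  intro h1
  have h2 := FiniteField.even_card_of_char_two h1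
  obtain ⟨m, hm⟩ := h
  omega

theorem NonSplit.nonsquare (h2 : (2 : K) ≠ 0) {s : K} (hs : NonSplit s) : ¬ IsSquare (s ^ 2 - 4) := by
  rintro ⟨r, hr⟩
  apply hs ((s + r) / 2)
  field_simp
  linear_combination -hr

theorem NonSplit.add_two_ne {s : K} (hs : NonSplit s) : s + 2 ≠ 0 := by
  intro h
  apply hs (-1)
  linear_combination h

theorem NonSplit.sub_two_ne {s : K} (hs : NonSplit s) : s - 2 ≠ 0 := by
  intro h
  apply hs 1
  linear_combination -h

section Rep

variable {k : Type*} [Field k] {V : Type*} [AddCommGroup V] [Module k V]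
  [FiniteDimensional k V] (R : SpecialLinearGroup (Fin 2) K →* Module.End k V) {ψ : AddChar K k}
  (hψ : ψ.IsPrimitive) (hK : (Fintype.card K : k) ≠ 0)

theorem eta_of_sq {a : K} (h : IsSquare a) (ha : a ≠ 0) : eta k a = 1 := by
  unfold eta
  rw [(quadraticChar_one_iff_isSquare ha).2 h, Int.cast_one]

theorem eta_neg_one (h : Odd (Fintype.card K)) : eta k (-1 : K) = -(-1) ^ ((Fintype.card K + 1) / 2) := by
  have h1 : (-1 : K) ≠ 0 := neg_ne_zero.2 one_ne_zero
  by_cases h2 : IsSquare (-1 : K)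
  · rw [eta_of_sq h2 h1]
    rw [FiniteField.isSquare_neg_one_iff] at h2
    obtain ⟨m, hm⟩ := h
    have h3 : Odd ((Fintype.card K + 1) / 2) := by
      rw [Nat.odd_iff]
      omega
    rw [h3.neg_one_pow, neg_neg]
  · rw [eta_nonsquare h2]
    rw [FiniteField.isSquare_neg_one_iff, not_not] at h2
    have h3 : Even ((Fintype.card K + 1) / 2) := by
      rw [Nat.even_iff]
      omega
    rw [h3.neg_one_pow]

include hψ hK in
/-- `ct` on the split traces. -/
theorem ct_split (h3K : 3 ≤ Fintype.card K) (hspan : Submodule.span k (Set.range R) = ⊤)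
    (hall : ∀ b : K, b ≠ 0 → finrank k (LinearMap.range (E R ψ b)) = 1) {a : Kˣ} (ha : a ^ 2 ≠ 1) :
    ct R ((a : K) + ((a⁻¹ : Kˣ) : K)) = LinearMap.trace k V (R (t a) * E R ψ 0) := by
  rw [← chi_t R hψ hK ha, chi_eq R hψ hK h3K hspan hall (g := t a)]
  · rfl
  · intro ε hε h
    apply ha
    have h1 := congrArg (fun g : SpecialLinearGroup (Fin 2) K => g.1 0 0) h
    have h2 : (a : K) = ε := h1
    rw [Units.ext h2, hε]

include hψ hK in
theorem ct_two (h3K : 3 ≤ Fintype.card K) (hspan : Submodule.span k (Set.range R) = ⊤)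
    (hall : ∀ b : K, b ≠ 0 → finrank k (LinearMap.range (E R ψ b)) = 1) :
    ct R 2 = (finrank k (LinearMap.range (E R ψ 0)) : k) - 1 := by
  have h4 := ct_central R hψ hK h3K hspan hall (one_pow 2) (c := 1) (by rw [t_one, map_one, one_smul])
  rw [one_mul, t_val_of_sq (one_pow 2)] at h4
  rw [← h4]
  congr 1
  simp
  norm_num

include hψ hK in
theorem ct_neg_two (h3K : 3 ≤ Fintype.card K) (hspan : Submodule.span k (Set.range R) = ⊤)
    (hall : ∀ b : K, b ≠ 0 → finrank k (LinearMap.range (E R ψ b)) = 1) {ω : k} (hω : R (t (-1)) = ω • 1) :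
    ct R (-2) = ω * ((finrank k (LinearMap.range (E R ψ 0)) : k) - 1) := by
  have hm1 : (-1 : Kˣ) ^ 2 = 1 := by rw [neg_one_sq]
  have h4 := ct_central R hψ hK h3K hspan hall hm1 hω
  rw [t_val_of_sq hm1] at h4
  rw [← h4]
  congr 1
  simp
  norm_num

/-- The central element acts by a sign. -/
theorem omega_sq [Nontrivial V] {ω : k} (hω : R (t (-1)) = ω • 1) : ω ^ 2 = 1 := by
  have hm1 : (-1 : Kˣ) * (-1) = 1 := by rw [← sq, neg_one_sq]
  have h1 : R (t (-1)) * R (t (-1)) = 1 := by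
    rw [← map_mul, ← t_mul, hm1, t_one, map_one]
  rw [hω, smul_mul_smul_comm, one_mul] at h1
  obtain ⟨v, hv⟩ := exists_ne (0 : V)
  have h2 := congrArg (fun f : Module.End k V => f v) h1
  rw [LinearMap.smul_apply, Module.End.one_apply] at h2
  have h3 : (ω * ω - 1) • v = 0 := by rw [sub_smul, one_smul, h2, sub_self]
  rcases smul_eq_zero.1 h3 with h4 | h4
  · linear_combination h4
  · exact absurd h4 hv

theorem finrank_pos_of (hall : ∀ b : K, b ≠ 0 → finrank k (LinearMap.range (E R ψ b)) = 1) : Nontrivial V := by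
  have h1 := hall 1 one_ne_zero
  have h2 : Nontrivial (LinearMap.range (E R ψ 1)) := Module.nontrivial_of_finrank_pos (R := k) (by rw [h1]; norm_num)
  obtain ⟨x, hx⟩ := exists_ne (0 : LinearMap.range (E R ψ 1))
  exact ⟨⟨x.1, 0, fun h => hx (Subtype.ext h)⟩⟩

variable [IsAlgClosed k]

include hψ hK in
/-- **The traces in degree `q - 1`.** -/
theorem cusp_table (h3K : 3 ≤ Fintype.card K) (hspan : Submodule.span k (Set.range R) = ⊤)
    (hall : ∀ b : K, b ≠ 0 → finrank k (LinearMap.range (E R ψ b)) = 1)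
    (h0 : finrank k (LinearMap.range (E R ψ 0)) = 0) {τ₀ : K} (hg : Gen τ₀) :
    ∃ ζ : k, ζ ≠ 0 ∧ ζ ^ (Fintype.card K + 1) = 1 ∧ (Odd (Fintype.card K) → ζ ≠ -1) ∧
      (ζ = 1 → (Fintype.card K : k) + 1 = 0) ∧
      (Odd (Fintype.card K) → R (t (-1)) = ζ ^ ((Fintype.card K + 1) / 2) • 1) ∧
      (∀ n : ℕ, (Zt τ₀ ^ n).1 1 0 ≠ 0 → chi R (Zt τ₀ ^ n) = -(ζ ^ n + (ζ⁻¹) ^ n)) ∧
      (∀ a : Kˣ, a ^ 2 ≠ 1 → chi R (t a) = 0) ∧ (∀ x : K, x ≠ 0 → chi R (u x) = -1) := by
  obtain ⟨ζ, hζ0, hζ⟩ := exists_theta R hψ hK h3K hspan hall h0 hg.ns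
  have hVn : Nontrivial V := finrank_pos_of R hall
  have hE0 : E R ψ 0 = 0 := by
    rw [Submodule.finrank_eq_zero, LinearMap.range_eq_bot] at h0
    exact h0
  have hq1 : ζ ^ (Fintype.card K + 1) = 1 := by
    have h1 := hζ (Fintype.card K + 1)
    rw [hg.pow_card, ← t_one, ff_central R hψ hK hall (c := 1) (by rw [t_one, map_one, one_smul]), inv_pow] at h1
    have h2 : ζ ^ (Fintype.card K + 1) ≠ 0 := pow_ne_zero _ hζ0
    have h3 : (ζ ^ (Fintype.card K + 1) - 1) ^ 2 = 0 := by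
      field_simp at h1
      linear_combination -h1
    exact sub_eq_zero.1 (pow_eq_zero_iff (two_ne_zero) |>.1 h3)
  have hval : ∀ n : ℕ, (Zt τ₀ ^ n).1 1 0 ≠ 0 → chi R (Zt τ₀ ^ n) = -(ζ ^ n + (ζ⁻¹) ^ n) := by
    intro n hn
    rw [← hζ, ff_of_ne R hn, neg_neg]
  have hct : ∀ n : ℕ, (Zt τ₀ ^ n).1 1 0 ≠ 0 →
      ct R ((Zt τ₀ ^ n).1 0 0 + (Zt τ₀ ^ n).1 1 1) = -(ζ ^ n + (ζ⁻¹) ^ n) := by
    intro n hn
    rw [← hval n hn, chi_eq R hψ hK h3K hspan hall]
    intro ε hε h
    apply hn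
    rw [h]
    rfl
  have hm1 : (-1 : Kˣ) ^ 2 = 1 := by rw [neg_one_sq]
  have hcen : Odd (Fintype.card K) → R (t (-1)) = ζ ^ ((Fintype.card K + 1) / 2) • 1 := by
    intro hodd
    obtain ⟨ω, hω⟩ := central_scalar R hspan (t_sq_central hm1)
    have h1 := hζ ((Fintype.card K + 1) / 2)
    rw [hg.neg_one hodd, ff_central R hψ hK hall hω] at h1
    have h2 : (ζ ^ ((Fintype.card K + 1) / 2)) ^ 2 = 1 := by
      rw [← pow_mul]
      have h3 : (Fintype.card K + 1) / 2 * 2 = Fintype.card K + 1 := by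
        obtain ⟨m, hm⟩ := hodd
        omega
      rw [h3, hq1]
    have h3 : (ζ⁻¹) ^ ((Fintype.card K + 1) / 2) = ζ ^ ((Fintype.card K + 1) / 2) := by
      rw [inv_pow, inv_eq_iff_eq_inv, ← mul_eq_one_iff_eq_inv₀ (pow_ne_zero _ hζ0), ← sq, h2]
    rw [h3, ← two_mul] at h1
    have hω2 := omega_sq R hω
    by_cases h2k : (2 : k) = 0
    · have h4 : ω = 1 := by
        have : (ω - 1) ^ 2 = 0 := by linear_combination hω2 + (1 - ω) * h2k
        exact sub_eq_zero.1 (pow_eq_zero_iff (two_ne_zero) |>.1 this)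
      have h5 : ζ ^ ((Fintype.card K + 1) / 2) = 1 := by
        have : (ζ ^ ((Fintype.card K + 1) / 2) - 1) ^ 2 = 0 := by
          linear_combination h2 + (1 - ζ ^ ((Fintype.card K + 1) / 2)) * h2k
        exact sub_eq_zero.1 (pow_eq_zero_iff (two_ne_zero) |>.1 this)
      rw [hω, h4, h5]
    · rw [hω, mul_left_cancel₀ h2k h1]
  have hsplit : ∀ a : Kˣ, a ^ 2 ≠ 1 → ct R ((a : K) + ((a⁻¹ : Kˣ) : K)) = 0 := by
    intro a ha
    rw [ct_split R hψ hK h3K hspan hall ha, hE0, mul_zero, map_zero]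
  have hct2 : ct R 2 = -1 := by
    rw [ct_two R hψ hK h3K hspan hall, h0, Nat.cast_zero, zero_sub]
  refine ⟨ζ, hζ0, hq1, ?_, ?_, hcen, hval, ?_, ?_⟩
  · intro hodd hζ1
    have h2K := two_ne_of_odd hodd
    refine not_sign hψ hK hspan (ringChar_ne_of_odd hodd) h3K hall h0 fun s => ?_
    rcases trace_cases s with hs | rfl | rfl | ⟨a, ha, rfl⟩
    · obtain ⟨n, hn, hn0⟩ := hg.surj s hs
      have h1 := hct n hn0
      rw [hn, hζ1, inv_neg, inv_one, ← two_mul] at h1
      have h2 : eta k (s - 2) * eta k (s + 2) = -1 := by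
        rw [← eta_mul]
        have : (s - 2) * (s + 2) = s ^ 2 - 4 := by ring
        rw [this, eta_nonsquare (hs.nonsquare h2K)]
      have h3 : eta k (s + 2) * eta k (s + 2) = 1 := eta_sq hs.add_two_ne
      have h4 : eta k (s - 2) = -eta k (s + 2) := by
        linear_combination eta k (s + 2) * h2 - eta k (s - 2) * h3
      have h5 : eta k (s + 2) = (-1) ^ n := by
        have h6 := hg.sq hodd n hn0
        rw [hn] at h6
        by_cases hev : Even n
        · rw [eta_of_sq (h6.2 hev) hs.add_two_ne, hev.neg_one_pow]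
        · rw [eta_nonsquare (fun h => hev (h6.1 h)), (Nat.not_even_iff_odd.1 hev).neg_one_pow]
      rw [h1, h4, h5]
      ring
    · rw [hct2, sub_self, eta_zero]
      have h1 : (2 : K) + 2 = 2 * 2 := by ring
      rw [h1, eta_sq' h2K, zero_sub]
    · rw [ct_neg_two R hψ hK h3K hspan hall (hcen hodd), h0, Nat.cast_zero, zero_sub, hζ1, neg_add_cancel, eta_zero]
      have h1 : (-2 : K) - 2 = -1 * (2 * 2) := by ring
      rw [h1, eta_mul, eta_sq' h2K, eta_neg_one hodd]
      ring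
    · rw [hsplit a ha]
      have h1 : (a : K) + ((a⁻¹ : Kˣ) : K) - 2 = ((a⁻¹ : Kˣ) : K) * (((a : K) - 1) * ((a : K) - 1)) := by
        have h3 : (a : K) * ((a⁻¹ : Kˣ) : K) = 1 := by rw [← Units.val_mul, mul_inv_cancel, Units.val_one]
        linear_combination (2 - (a : K)) * h3
      have h2 : (a : K) + ((a⁻¹ : Kˣ) : K) + 2 = ((a⁻¹ : Kˣ) : K) * (((a : K) + 1) * ((a : K) + 1)) := by
        have h3 : (a : K) * ((a⁻¹ : Kˣ) : K) = 1 := by rw [← Units.val_mul, mul_inv_cancel, Units.val_one]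
        linear_combination (-2 - (a : K)) * h3
      have e1 : (a : K) - 1 ≠ 0 := by
        intro h
        apply ha
        have h3 : a = 1 := Units.ext (by rw [Units.val_one]; linear_combination h)
        rw [h3, one_pow]
      have e2 : (a : K) + 1 ≠ 0 := by
        intro h
        apply ha
        have h3 : a = -1 := Units.ext (by rw [Units.val_neg, Units.val_one]; linear_combination h)
        rw [h3, neg_one_sq]
      rw [h1, h2, eta_mul, eta_mul ((a⁻¹ : Kˣ) : K), eta_sq' e1, eta_sq' e2, sub_self]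
  · intro hζ1
    have hone : ∀ n : ℕ, (ζ : k) ^ n + ζ⁻¹ ^ n = 2 := by
      intro n
      rw [hζ1, inv_one, one_pow]
      norm_num
    have h1 : ∀ s : K, ct R s = (nr s : k) - 2 := by
      intro s
      rcases trace_cases s with hs | rfl | rfl | ⟨a, ha, rfl⟩
      · obtain ⟨n, hn, hn0⟩ := hg.surj s hs
        have h1 := hct n hn0
        rw [hn, hone] at h1
        rw [h1, nr_nonsplit hs, Nat.cast_zero, zero_sub]
      · rw [hct2, nr_pm 1 (one_pow 2) (by rw [Units.val_one, mul_one]), Nat.cast_one]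
        norm_num
      · rw [nr_pm (-1) hm1 (by rw [Units.val_neg, Units.val_one, mul_neg, mul_one]), Nat.cast_one]
        by_cases hodd : Odd (Fintype.card K)
        · rw [ct_neg_two R hψ hK h3K hspan hall (hcen hodd), h0, Nat.cast_zero, zero_sub, hζ1, one_pow]
          norm_num
        · have h2 : (2 : K) = 0 := by
            rw [Nat.not_odd_iff_even] at hodd
            have h3 := FiniteField.even_card_iff_char_two.2 (Nat.even_iff.1 hodd)
            have h4 := ringChar.Nat.cast_ringChar (R := K)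
            rw [h3] at h4
            exact_mod_cast h4
          have h3 : (-2 : K) = 2 := by linear_combination -2 * h2
          rw [h3, hct2]
          norm_num
      · rw [hsplit a ha, nr_split ha]
        norm_num
    have h2 := sum_ct R hK (ψ := ψ)
    rw [hE0, mul_zero, map_zero, mul_zero, Finset.sum_congr rfl fun s _ => h1 s, Finset.sum_sub_distrib,
      ← Nat.cast_sum, sum_nr, Finset.sum_const, Finset.card_univ, nsmul_eq_mul, Nat.cast_sub Fintype.card_pos,
      Nat.cast_one] at h2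
    linear_combination h2
  · intro a ha
    rw [chi_t R hψ hK ha, hE0, mul_zero, map_zero]
  · intro x hx
    rw [chi_u R hψ hK hall hx, h0, Nat.cast_zero, zero_sub]

end Rep

end Cfsg.Agent.H464.Sl2
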