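import Cfsg.Agent.H464.L2TrI

/-!
# Traces of `SL₂(q)`, X: the tables in degree `q + 1` and `q` (helper464)
-/

set_option autoImplicit false
set_option linter.unusedSectionVars false

namespace Cfsg.Agent.H464.Sl2

open Matrix Module

variable {K : Type*} [Field K] [Fintype K] [DecidableEq K]

/-- a generator of the split torus -/
def GenS (a₀ : Kˣ) : Prop := ∀ a : Kˣ, ∃ n : ℕ, a₀ ^ n = a

theorem exists_GenS (K : Type*) [Field K] [Fintype K] [DecidableEq K] : ∃ a₀ : Kˣ, GenS a₀ := by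
  obtain ⟨g, hg⟩ := IsCyclic.exists_generator (α := Kˣ)
  refine ⟨g, fun a => ?_⟩
  have h1 := hg a
  rw [mem_zpowers_iff_mem_range_orderOf, Finset.mem_image] at h1
  obtain ⟨n, -, hn⟩ := h1
  exact ⟨n, hn⟩

theorem GenS.orderOf {a₀ : Kˣ} (h : GenS a₀) : orderOf a₀ = Fintype.card K - 1 := by
  rw [← Fintype.card_units, ← Nat.card_eq_fintype_card]
  apply orderOf_eq_card_of_forall_mem_zpowers
  intro a
  obtain ⟨n, hn⟩ := h a
  exact ⟨n, by rw [← hn]; exact zpow_natCast a₀ n⟩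

theorem GenS.neg_one {a₀ : Kˣ} (h : GenS a₀) (hodd : Odd (Fintype.card K)) :
    a₀ ^ ((Fintype.card K - 1) / 2) = -1 := by
  have h1 := h.orderOf
  have hq : 1 < Fintype.card K := Fintype.one_lt_card
  have h2 : (Fintype.card K - 1) / 2 * 2 = Fintype.card K - 1 := by
    obtain ⟨m, hm⟩ := hodd
    omega
  have h3 : (a₀ ^ ((Fintype.card K - 1) / 2)) ^ 2 = 1 := by
    rw [← pow_mul, h2, ← h1, pow_orderOf_eq_one]
  have h4 : ((a₀ ^ ((Fintype.card K - 1) / 2) : Kˣ) : K) * ((a₀ ^ ((Fintype.card K - 1) / 2) : Kˣ) : K) = 1 := by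
    rw [← Units.val_mul, ← sq, h3, Units.val_one]
  rcases mul_self_eq_one_iff.1 h4 with h5 | h5
  · exfalso
    have h6 : a₀ ^ ((Fintype.card K - 1) / 2) = 1 := Units.ext h5
    have h7 := orderOf_dvd_of_pow_eq_one h6
    rw [h1] at h7
    have := Nat.le_of_dvd (by omega) h7
    omega
  · exact Units.ext (by rw [h5, Units.val_neg, Units.val_one])

section Rep

variable {k : Type*} [Field k] {V : Type*} [AddCommGroup V] [Module k V]
  [FiniteDimensional k V] (R : SpecialLinearGroup (Fin 2) K →* Module.End k V) {ψ : AddChar K k}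
  (hψ : ψ.IsPrimitive) (hK : (Fintype.card K : k) ≠ 0) (hspan : Submodule.span k (Set.range R) = ⊤)
  {v : V} {lam : Kˣ →* k}

include hspan in
/-- The centre acts by `lam (-1)`. -/
theorem Hw.omega (h : Hw R ψ v lam) : R (t (-1)) = lam (-1) • 1 := by
  obtain ⟨ω, hω⟩ := central_scalar R hspan (t_sq_central (K := K) (a := -1) neg_one_sq)
  have h1 := h.tor (-1)
  rw [hω, LinearMap.smul_apply, Module.End.one_apply] at h1
  have h2 : (ω - lam (-1)) • v = 0 := by rw [sub_smul, h1, sub_self]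
  rw [hω, sub_eq_zero.1 ((smul_eq_zero.1 h2).resolve_right h.ne)]

variable [IsAlgClosed k]

include hψ hK hspan in
/-- **The traces in degree `q + 1`.** -/
theorem prin_table (h3K : 3 ≤ Fintype.card K)
    (hall : ∀ b : K, b ≠ 0 → finrank k (LinearMap.range (E R ψ b)) = 1)
    (h2 : finrank k (LinearMap.range (E R ψ 0)) = 2) {a₀ : Kˣ} (hg : GenS a₀) :
    ∃ ζ : k, ζ ≠ 0 ∧ ζ ^ (Fintype.card K - 1) = 1 ∧ ζ ^ 2 ≠ 1 ∧
      (Odd (Fintype.card K) → R (t (-1)) = ζ ^ ((Fintype.card K - 1) / 2) • 1) ∧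
      (∀ n : ℕ, (a₀ ^ n) ^ 2 ≠ 1 → chi R (t (a₀ ^ n)) = ζ ^ n + (ζ⁻¹) ^ n) ∧
      (∀ τ, NonSplit τ → ct R τ = 0) ∧ (∀ x : K, x ≠ 0 → chi R (u x) = 1) := by
  obtain ⟨v, lam, h⟩ := exists_hw (R := R) hψ hK (by
    intro h
    rw [h, finrank_bot] at h2
    norm_num at h2)
  have hpow : ∀ n : ℕ, lam (a₀ ^ n) = lam a₀ ^ n := fun n => map_pow lam a₀ n
  refine ⟨lam a₀, lam_ne lam a₀, ?_, ?_, ?_, ?_, fun τ hτ => h.nonsplit_two hψ hK hspan h3K hall h2 hτ, ?_⟩
  · rw [← hpow, ← hg.orderOf, pow_orderOf_eq_one, map_one]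
  · intro h3
    obtain ⟨a, ha⟩ := h.exists_sq_ne hψ hK hspan h2
    apply ha
    obtain ⟨n, rfl⟩ := hg a
    rw [hpow, ← pow_mul, mul_comm, pow_mul, h3, one_pow]
  · intro hodd
    rw [← hpow, hg.neg_one hodd]
    exact h.omega R hspan
  · intro n hn
    rw [chi_t R hψ hK hn, h.trace_two hψ hK hspan h2, hpow, inv_pow]
  · intro x hx
    rw [chi_u R hψ hK hall hx, h2]
    norm_num

include hψ hK hspan in
/-- **The traces in degree `q`**, `char k` does not divide `q + 1`. -/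
theorem stein_table (h3K : 3 ≤ Fintype.card K)
    (hall : ∀ b : K, b ≠ 0 → finrank k (LinearMap.range (E R ψ b)) = 1)
    (h1 : finrank k (LinearMap.range (E R ψ 0)) = 1) :
    (Fintype.card K : k) + 1 ≠ 0 ∧ R (t (-1)) = 1 ∧ (∀ a : Kˣ, a ^ 2 ≠ 1 → chi R (t a) = 1) ∧
      (∀ τ, NonSplit τ → ct R τ = -1) ∧ (∀ x : K, x ≠ 0 → chi R (u x) = 0) := by
  obtain ⟨v, lam, h⟩ := exists_hw (R := R) hψ hK (by
    intro h
    rw [h, finrank_bot] at h1
    exact zero_ne_one h1)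
  have hne : ∀ b : K, b ≠ 0 → E R ψ b ≠ 0 := by
    intro b hb h0
    have h2 := hall b hb
    rw [h0, LinearMap.range_zero, finrank_bot] at h2
    exact zero_ne_one h2
  have hl : ∀ a, lam a = 1 := fun a => h.lam_one hψ hK hspan h1 hne a
  obtain ⟨c, hc0, hc, -, -, htr, -⟩ := h.one hψ hK hspan h1
  have hcq := h.c_eq hψ hK hspan hc hl one_ne_zero (hne 1 one_ne_zero)
  refine ⟨?_, ?_, ?_, fun τ hτ => h.nonsplit_one hψ hK hspan h3K hall h1 hτ, ?_⟩
  · intro hq
    have hc1 : c = 1 := by linear_combination c * hq - hcq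
    have hvs : E R ψ 0 (R (Sl2.w 1) v) = v := by
      have := hc
      rw [hc1, one_smul] at this
      exact this
    apply hne 1 one_ne_zero
    apply h.invariant hspan
    · intro g
      rcases bruhat g with ⟨x, a, rfl⟩ | ⟨x, c', y, rfl⟩
      · rw [map_mul, Module.End.mul_apply, E_zero_u, h.tor, hl, one_smul, h.fix]
      · rw [map_mul, map_mul, Module.End.mul_apply, Module.End.mul_apply, E_zero_u, h.u, h.w, hl, one_smul, hvs]
    · exact E_mul_of_ne R hψ hK (zero_ne_one)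
  · rw [h.omega R hspan, hl, one_smul]
  · intro a ha
    rw [chi_t R hψ hK ha, htr, hl]
  · intro x hx
    rw [chi_u R hψ hK hall hx, h1, Nat.cast_one, sub_self]

end Rep

end Cfsg.Agent.H464.Sl2
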