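import Cfsg.Agent.H464.L2TrJ

/-!
# Traces of `SL₂(q)`, XI: the halves, degree `(q ± 1) / 2` (helper464)
-/

set_option autoImplicit false
set_option linter.unusedSectionVars false

namespace Cfsg.Agent.H464.Sl2

open Matrix Module

variable {K : Type*} [Field K] [Fintype K] [DecidableEq K]

/-- lower unipotent elements -/
def low (c : K) : SpecialLinearGroup (Fin 2) K := ⟨!![1, 0; c, 1], by simp [det_fin_two]⟩

theorem low_conj (c : Kˣ) : low (c : K) * u (-((c⁻¹ : Kˣ) : K)) = u (2 * ((c⁻¹ : Kˣ) : K)) * w c * low (c : K) := by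
  apply Subtype.ext
  change !![1, 0; (c : K), 1] * !![1, -((c⁻¹ : Kˣ) : K); 0, 1] =
    !![1, 2 * ((c⁻¹ : Kˣ) : K); 0, 1] * !![0, -((c⁻¹ : Kˣ) : K); (c : K), 0] * !![1, 0; (c : K), 1]
  ext i j
  fin_cases i <;> fin_cases j <;> simp [Matrix.mul_apply, Fin.sum_univ_two]
  norm_num

theorem neg_uw (y : K) (d : Kˣ) : t (-1) * (u y * w d) = u y * w (-d) := by
  apply Subtype.ext
  change !![((-1 : Kˣ) : K), 0; 0, (((-1)⁻¹ : Kˣ) : K)] *
      (!![1, y; 0, 1] * !![0, -((d⁻¹ : Kˣ) : K); (d : K), 0]) =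
    !![1, y; 0, 1] * !![0, -(((-d)⁻¹ : Kˣ) : K); ((-d : Kˣ) : K), 0]
  ext i j
  fin_cases i <;> fin_cases j <;> simp [Matrix.mul_apply, Fin.sum_univ_two]

section Rep

variable {k : Type*} [Field k] {V : Type*} [AddCommGroup V] [Module k V]
  [FiniteDimensional k V] (R : SpecialLinearGroup (Fin 2) K →* Module.End k V) {ψ : AddChar K k}
  (hψ : ψ.IsPrimitive) (hK : (Fintype.card K : k) ≠ 0) (hspan : Submodule.span k (Set.range R) = ⊤)
  {v : V} {lam : Kˣ →* k}

theorem chi_u_sq (a : Kˣ) (x : K) : chi R (u ((a : K) ^ 2 * x)) = chi R (u x) := by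
  rw [← chi_conj R (t a) (u x), t_mul_u, mul_inv_cancel_right]

theorem chi_u_eq {x y : K} (hx : x ≠ 0) (hy : y ≠ 0) (h : IsSquare (x * y)) : chi R (u x) = chi R (u y) := by
  obtain ⟨r, hr⟩ := h
  have hr0 : r ≠ 0 := by
    rintro rfl
    rw [mul_zero] at hr
    exact mul_ne_zero hx hy hr
  rw [← chi_u_sq R (Units.mk0 r hr0 / Units.mk0 y hy) y]
  congr 2
  rw [Units.val_div_eq_div_val, Units.val_mk0, Units.val_mk0]
  field_simp
  linear_combination hr

include hψ hK in
/-- The two values on the unipotent elements are different. -/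
theorem chi_u_ne {b b' : K} (hb : b ≠ 0) (hE : E R ψ b = 0) (hb' : b' ≠ 0)
    (hE' : finrank k (LinearMap.range (E R ψ b')) = 1) {x y : K} (hxy : ¬ IsSquare (x * y)) :
    chi R (u x) ≠ chi R (u y) := by
  intro h
  have hx : x ≠ 0 := by
    rintro rfl
    exact hxy ⟨0, by simp⟩
  have hy : y ≠ 0 := by
    rintro rfl
    exact hxy ⟨0, by simp⟩
  have hconst : ∀ z : K, z ≠ 0 → chi R (u z) = chi R (u x) := by
    intro z hz
    by_cases h1 : IsSquare (z * x)
    · exact chi_u_eq R hz hx h1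
    · rw [h]
      apply chi_u_eq R hz hy
      rw [← quadraticChar_one_iff_isSquare (mul_ne_zero hz hy)]
      rw [← quadraticChar_neg_one_iff_not_isSquare] at h1 hxy
      have h2 : quadraticChar K (z * x) * quadraticChar K (x * y) = 1 := by rw [h1, hxy]; norm_num
      rw [← map_mul] at h2
      have h3 : z * x * (x * y) = (z * y) * x ^ 2 := by ring
      rw [h3, map_mul, quadraticChar_sq_one' hx, mul_one] at h2
      exact h2
  have key : ∀ c : K, c ≠ 0 → (Fintype.card K : k) * (finrank k (LinearMap.range (E R ψ c)) : k) =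
      (finrank k V : k) - chi R (u x) := by
    intro c hc
    rw [← trace_E R hψ hK, E, map_smul, map_sum, smul_eq_mul, ← mul_assoc, mul_inv_cancel₀ hK, one_mul, sum_units]
    have h1 : ∀ z : Kˣ, LinearMap.trace k V (ψ (-(c * (z : K))) • R (u (z : K))) = ψ (-(c * (z : K))) * chi R (u x) := by
      intro z
      rw [map_smul, smul_eq_mul, ← hconst z z.ne_zero]
      rfl
    rw [Finset.sum_congr rfl fun z _ => h1 z, ← Finset.sum_mul, mul_zero, neg_zero, AddChar.map_zero_eq_one,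
      one_smul, u_zero, map_one, LinearMap.trace_one]
    have h2 : ∑ z : Kˣ, ψ (-(c * (z : K))) = -1 := by
      rw [← sum_units_psi hψ hc, ← Equiv.sum_comp (Equiv.inv Kˣ) (fun z : Kˣ => ψ (-(c * (z : K))))]
      rfl
    rw [h2]
    ring
  have h1 := key b hb
  have h2 := key b' hb'
  rw [← h1, hE, LinearMap.range_zero, finrank_bot, hE', Nat.cast_zero, mul_zero, Nat.cast_one, mul_one] at h2
  exact hK h2

include hψ hK in
/-- **The centre in degree `(q - 1) / 2`.** -/
theorem half_omega_minus (hodd : Odd (Fintype.card K)) {b b' : K} (hb : b ≠ 0) (hE : E R ψ b = 0) (hb' : b' ≠ 0)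
    (hE' : finrank k (LinearMap.range (E R ψ b')) = 1) (h0 : finrank k (LinearMap.range (E R ψ 0)) = 0)
    {ω : k} (hω : R (t (-1)) = ω • 1) : ω = -eta k (-1 : K) := by
  have h2K := two_ne_of_odd hodd
  have hE0 : E R ψ 0 = 0 := by
    rw [Submodule.finrank_eq_zero, LinearMap.range_eq_bot] at h0
    exact h0
  have hsum : ∀ c : Kˣ, ∑ s : K, chi R (u (((c⁻¹ : Kˣ) : K) * s) * w c) = 0 := by
    intro c
    have h1 := trace_E_w R hK c 0 (ψ := ψ)
    rw [hE0, zero_mul, map_zero, mul_zero] at h1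
    rw [h1, ← Equiv.sum_comp (Units.mulLeft c⁻¹) (fun x : K => ψ (-(0 * x)) * chi R (u x * w c))]
    refine Finset.sum_congr rfl fun s _ => ?_
    have h2 : (Units.mulLeft c⁻¹ s : K) = ((c⁻¹ : Kˣ) : K) * s := rfl
    rw [h2, zero_mul, neg_zero, AddChar.map_zero_eq_one, one_mul]
  have h2v : ∀ c : Kˣ, chi R (u (((c⁻¹ : Kˣ) : K) * 2) * w c) = chi R (u (-((c⁻¹ : Kˣ) : K))) := by
    intro c
    rw [← chi_conj R (low (c : K)) (u (-((c⁻¹ : Kˣ) : K))), low_conj, mul_inv_cancel_right, mul_comm]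
  have hm2v : ∀ c : Kˣ, chi R (u (((c⁻¹ : Kˣ) : K) * -2) * w c) = ω * chi R (u ((c⁻¹ : Kˣ) : K)) := by
    intro c
    have h1 := h2v (-c)
    have e2 : (((-c)⁻¹ : Kˣ) : K) = -((c⁻¹ : Kˣ) : K) := by rw [inv_neg, Units.val_neg]
    have e3 : u (((c⁻¹ : Kˣ) : K) * -2) * w c = t (-1) * (u ((((-c)⁻¹ : Kˣ) : K) * 2) * w (-c)) := by
      rw [neg_uw, neg_neg, e2]
      congr 2
      ring
    rw [e3, chi, map_mul, hω, smul_mul_assoc, one_mul, map_smul, smul_eq_mul]
    change ω * chi R _ = _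
    rw [h1, e2, neg_neg]
  have hmid : ∀ (c : Kˣ) (s : K), s ≠ 2 ∧ s ≠ -2 → chi R (u (((c⁻¹ : Kˣ) : K) * s) * w c) = ct R s := by
    intro c s hs
    apply chi_u_mul_w R (τ := s)
    · intro h
      have h1 : (s - 2) * (s + 2) = 0 := by linear_combination h
      rcases mul_eq_zero.1 h1 with h2 | h2
      · exact hs.1 (sub_eq_zero.1 h2)
      · exact hs.2 (eq_neg_of_add_eq_zero_left h2)
    · rw [← mul_assoc, ← Units.val_mul, mul_inv_cancel, Units.val_one, one_mul]
  have hne : (2 : K) ≠ -2 := by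
    intro h
    apply mul_ne_zero h2K h2K
    linear_combination h
  have hval : ∀ c : Kˣ, chi R (u (-((c⁻¹ : Kˣ) : K))) + ω * chi R (u ((c⁻¹ : Kˣ) : K)) =
      chi R (u (-((1⁻¹ : Kˣ) : K))) + ω * chi R (u ((1⁻¹ : Kˣ) : K)) := by
    intro c
    have h1 : ∑ s : K, (chi R (u (((c⁻¹ : Kˣ) : K) * s) * w c) - chi R (u (((1⁻¹ : Kˣ) : K) * s) * w 1)) = 0 := by
      rw [Finset.sum_sub_distrib, hsum, hsum, sub_zero]
    rw [Fintype.sum_eq_add 2 (-2) hne (fun s hs => by rw [hmid c s hs, hmid 1 s hs, sub_self]), h2v, h2v, hm2v,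
      hm2v] at h1
    linear_combination h1
  obtain ⟨ν, hν⟩ := FiniteField.exists_nonsquare (ringChar_ne_of_odd hodd)
  have hν0 : ν ≠ 0 := by
    rintro rfl
    exact hν ⟨0, by simp⟩
  have h1 := hval (Units.mk0 ν hν0)⁻¹
  rw [inv_inv, Units.val_mk0, inv_one, Units.val_one] at h1
  have hm1 : (-1 : K) ≠ 0 := neg_ne_zero.2 one_ne_zero
  have hd : chi R (u ν) ≠ chi R (u 1) := chi_u_ne R hψ hK hb hE hb' hE' (by rwa [mul_one])
  by_cases hs : IsSquare (-1 : K)
  · rw [eta_of_sq hs hm1]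
    have h3 : chi R (u (-ν)) = chi R (u ν) := by
      apply chi_u_eq R (neg_ne_zero.2 hν0) hν0
      have : -ν * ν = -1 * (ν * ν) := by ring
      rw [this]
      exact hs.mul ⟨ν, rfl⟩
    have h4 : chi R (u (-1)) = chi R (u 1) := chi_u_eq R hm1 one_ne_zero (by rwa [mul_one])
    rw [h3, h4] at h1
    have h5 : (1 + ω) * (chi R (u ν) - chi R (u 1)) = 0 := by linear_combination h1
    rcases mul_eq_zero.1 h5 with h6 | h6
    · linear_combination h6
    · exact absurd (sub_eq_zero.1 h6) hd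
  · rw [eta_nonsquare hs, neg_neg]
    have hsq : IsSquare (-ν) := by
      rw [← quadraticChar_one_iff_isSquare (neg_ne_zero.2 hν0), ← neg_one_mul, map_mul,
        quadraticChar_neg_one_iff_not_isSquare.2 hs, quadraticChar_neg_one_iff_not_isSquare.2 hν]
      norm_num
    have h3 : chi R (u (-ν)) = chi R (u 1) := chi_u_eq R (neg_ne_zero.2 hν0) one_ne_zero (by rwa [mul_one])
    have h4 : chi R (u (-1)) = chi R (u ν) := chi_u_eq R hm1 hν0 (by rwa [neg_one_mul])
    rw [h3, h4] at h1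
    have h5 : (ω - 1) * (chi R (u ν) - chi R (u 1)) = 0 := by linear_combination h1
    rcases mul_eq_zero.1 h5 with h6 | h6
    · linear_combination h6
    · exact absurd (sub_eq_zero.1 h6) hd

include hψ hK hspan in
/-- **The centre in degree `(q + 1) / 2`**; the characteristic is odd. -/
theorem half_omega_plus [IsAlgClosed k] {b b' : K} (hb : b ≠ 0) (hE : E R ψ b = 0)
    (hb' : b' ≠ 0) (hE' : finrank k (LinearMap.range (E R ψ b')) = 1)
    (h1 : finrank k (LinearMap.range (E R ψ 0)) = 1) :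
    (2 : k) ≠ 0 ∧ R (t (-1)) = eta k (-1 : K) • 1 ∧ ∀ a : Kˣ, a ^ 2 ≠ 1 → chi R (t a) = eta k (a : K) := by
  obtain ⟨v, lam, h⟩ := exists_hw (R := R) hψ hK (by
    intro h
    rw [h, finrank_bot] at h1
    exact zero_ne_one h1)
  have hE'' : E R ψ b' ≠ 0 := by
    intro h0
    rw [h0, LinearMap.range_zero, finrank_bot] at hE'
    exact zero_ne_one hE'
  obtain ⟨a, ha⟩ := h.lam_ne_one hψ hK hspan h1 hb hE hb' hE''
  obtain ⟨c, -, -, -, hsq, htr, -⟩ := h.one hψ hK hspan h1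
  have h2 : (2 : k) ≠ 0 := by
    intro h2
    apply ha
    have h3 := hsq a
    have h4 : (lam a - 1) ^ 2 = 0 := by linear_combination h3 + (1 - lam a) * h2
    exact sub_eq_zero.1 (pow_eq_zero_iff (two_ne_zero) |>.1 h4)
  obtain ⟨a₀, hg⟩ := exists_GenS K
  have h3 : lam a₀ = -1 := by
    have h4 : lam a₀ * lam a₀ = 1 := by rw [← sq, hsq]
    rcases mul_self_eq_one_iff.1 h4 with h5 | h5
    · exfalso
      apply ha
      obtain ⟨n, rfl⟩ := hg a
      rw [map_pow, h5, one_pow]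
    · exact h5
  have hnsq : ¬ IsSquare (a₀ : K) := by
    rintro ⟨r, hr⟩
    have hr0 : r ≠ 0 := by
      rintro rfl
      rw [mul_zero] at hr
      exact a₀.ne_zero hr
    obtain ⟨n, hn⟩ := hg (Units.mk0 r hr0)
    have h4 : a₀ = Units.mk0 r hr0 * Units.mk0 r hr0 := Units.ext hr
    have h5 := congrArg lam h4
    rw [map_mul, ← sq, hsq, h3] at h5
    apply h2
    linear_combination -h5
  have heta : ∀ a : Kˣ, lam a = eta k (a : K) := by
    intro a
    obtain ⟨n, rfl⟩ := hg a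
    have h4 : ∀ m : ℕ, eta k (((a₀ ^ m : Kˣ) : K)) = (eta k (a₀ : K)) ^ m := by
      intro m
      induction m with
      | zero => rw [pow_zero, pow_zero, Units.val_one, eta_one]
      | succ m ih => rw [pow_succ, Units.val_mul, eta_mul, ih, pow_succ]
    rw [h4, map_pow, h3, eta_nonsquare hnsq]
  refine ⟨h2, ?_, ?_⟩
  · rw [h.omega R hspan, heta, Units.val_neg, Units.val_one]
  · intro a ha
    rw [chi_t R hψ hK ha, htr, heta]

end Rep

end Cfsg.Agent.H464.Sl2
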