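import Cfsg.Agent.H464.Sl2Struct

/-!
# Counting the weights of an irreducible representation of `SL₂(K)` (helper464)
-/

set_option autoImplicit false
set_option linter.unusedSectionVars false

namespace Cfsg.Agent.H464.Sl2

open Matrix Module

section Count

variable {K : Type*} [Field K] [Fintype K] {k : Type*} [Field k] {V : Type*} [AddCommGroup V] [Module k V]
  [FiniteDimensional k V] (R : SpecialLinearGroup (Fin 2) K →* Module.End k V) {ψ : AddChar K k}
  (hψ : ψ.IsPrimitive) (hK : (Fintype.card K : k) ≠ 0)

set_option backward.isDefEq.respectTransparency false in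
theorem exists_prim [IsAlgClosed k] (hK : (Fintype.card K : k) ≠ 0) : ∃ ψ : AddChar K k, ψ.IsPrimitive := by
  have h : ringChar k ≠ ringChar K := by
    intro h
    have h1 : ringChar K ∣ Fintype.card K := by
      rw [← ringChar.spec, Nat.cast_card_eq_zero]
    rw [← h, ← ringChar.spec] at h1
    exact hK h1
  let P := AddChar.FiniteField.primitiveChar K k h
  have hfd : FiniteDimensional k (CyclotomicField P.n k) :=
    inferInstanceAs (FiniteDimensional k (Polynomial.cyclotomic P.n k).SplittingField)
  have halg : Algebra.IsAlgebraic k (CyclotomicField P.n k) := Algebra.IsAlgebraic.of_finite _ _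
  let f : CyclotomicField P.n k →ₐ[k] k := IsAlgClosed.lift
  refine ⟨(f : CyclotomicField P.n k →* k).compAddChar P.char, ?_⟩
  exact P.prim.compMulHom_of_isPrimitive f.toRingHom.injective

include hψ hK in
/-- The weights: either all the non-trivial ones occur (once each), or half of them. -/
theorem mult_cases [DecidableEq K] (hspan : Submodule.span k (Set.range R) = ⊤) (hR : R ≠ 1) :
    (∀ b : K, b ≠ 0 → finrank k (LinearMap.range (E R ψ b)) = 1) ∨
    (Fintype.card K % 2 = 1 ∧ 2 * ∑ b ∈ Finset.univ.erase (0 : K), finrank k (LinearMap.range (E R ψ b)) + 1 =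
      Fintype.card K) := by
  set m : K → ℕ := fun b => finrank k (LinearMap.range (E R ψ b)) with hm
  have hm1 : ∀ b, b ≠ 0 → m b ≤ 1 := fun b hb => finrank_E_le_one R hψ hK hspan hb
  have hsq : ∀ a b : K, a ≠ 0 → m (a ^ 2 * b) = m b := fun a b ha => finrank_E_mul_sq R (ψ := ψ) (Units.mk0 a ha) b
  obtain ⟨b₀, hb₀, hb₀m⟩ := exists_E_ne R hψ hK hR
  by_cases h2 : ringChar K = 2
  · left
    intro b hb
    change m b = 1
    have h3 : m b = m b₀ := by
      obtain ⟨a, ha⟩ := FiniteField.isSquare_of_char_two h2 (b / b₀)
      have ha0 : a ≠ 0 := by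
        rintro rfl
        rw [mul_zero, div_eq_zero_iff] at ha
        rcases ha with h | h
        · exact hb h
        · exact hb₀ h
      have h4 : b = a ^ 2 * b₀ := by
        rw [sq, ← ha, div_mul_cancel₀ _ hb₀]
      rw [h4, hsq a b₀ ha0]
    have h4 := hm1 b hb
    have h5 : m b₀ ≠ 0 := hb₀m
    omega
  · obtain ⟨s, hs⟩ := FiniteField.exists_nonsquare h2
    have hs0 : s ≠ 0 := by
      rintro rfl
      exact hs (IsSquare.zero)
    have h10 : ∀ b, b ≠ 0 → (2 * (m b : ℤ) = ((m 1 : ℤ) + m s) + quadraticChar K b * ((m 1 : ℤ) - m s)) := by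
      intro b hb
      by_cases hbs : IsSquare b
      · rw [(quadraticChar_one_iff_isSquare hb).2 hbs]
        obtain ⟨a, ha⟩ := hbs
        have ha0 : a ≠ 0 := by
          rintro rfl
          rw [mul_zero] at ha
          exact hb ha
        have h4 : m b = m 1 := by
          rw [← hsq a 1 ha0, mul_one, sq, ha]
        rw [h4]
        ring
      · rw [quadraticChar_neg_one_iff_not_isSquare.2 hbs]
        have h4 : IsSquare (b / s) := by
          rw [← quadraticChar_one_iff_isSquare (div_ne_zero hb hs0)]
          have h5 : quadraticChar K (b / s) * quadraticChar K s = quadraticChar K b := by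
            rw [← map_mul, div_mul_cancel₀ _ hs0]
          rw [quadraticChar_neg_one_iff_not_isSquare.2 hs, quadraticChar_neg_one_iff_not_isSquare.2 hbs] at h5
          linarith
        obtain ⟨a, ha⟩ := h4
        have ha0 : a ≠ 0 := by
          rintro rfl
          rw [mul_zero, div_eq_zero_iff] at ha
          rcases ha with h | h
          · exact hb h
          · exact hs0 h
        have h4 : m b = m s := by
          rw [← hsq a s ha0, sq, ← ha, div_mul_cancel₀ _ hs0]
        rw [h4]
        ring
    have h11 := quadraticChar_sum_zero (F := K) h2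
    rw [← Finset.add_sum_erase _ _ (Finset.mem_univ (0 : K)), MulChar.map_zero, zero_add] at h11
    have h12 : 2 * ∑ b ∈ Finset.univ.erase (0 : K), (m b : ℤ) =
        ((Fintype.card K : ℤ) - 1) * ((m 1 : ℤ) + m s) := by
      rw [Finset.mul_sum, Finset.sum_congr rfl fun b hb => h10 b (Finset.ne_of_mem_erase hb), Finset.sum_add_distrib,
        ← Finset.sum_mul, h11, zero_mul, add_zero, Finset.sum_const, Finset.card_erase_of_mem (Finset.mem_univ _),
        Finset.card_univ, nsmul_eq_mul, Nat.cast_sub Fintype.card_pos]
      simp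
    have hm11 := hm1 1 one_ne_zero
    have hms := hm1 s hs0
    have hodd := FiniteField.odd_card_of_char_ne_two h2
    have h13 : m 1 + m s ≠ 0 := by
      intro h
      have h14 : m 1 = 0 := by omega
      have h15 : m s = 0 := by omega
      have h16 := h10 b₀ hb₀
      rw [h14, h15] at h16
      have h17 : m b₀ ≠ 0 := hb₀m
      apply h17
      have : (2 : ℤ) * (m b₀ : ℤ) = 0 := by rw [h16]; simp
      omega
    rcases Nat.lt_or_ge (m 1 + m s) 2 with h | h
    · right
      refine ⟨hodd, ?_⟩
      have h14 : (m 1 : ℤ) + m s = 1 := by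
        have : m 1 + m s = 1 := by omega
        exact_mod_cast this
      rw [h14, mul_one] at h12
      have h15 : (2 * ∑ b ∈ Finset.univ.erase (0 : K), m b : ℕ) + 1 = Fintype.card K := by
        have : ((2 * ∑ b ∈ Finset.univ.erase (0 : K), m b + 1 : ℕ) : ℤ) = Fintype.card K := by
          push_cast
          rw [h12]
          ring
        exact_mod_cast this
      exact h15
    · left
      intro b hb
      change m b = 1
      have h14 : m 1 = 1 := by omega
      have h15 : m s = 1 := by omega
      have h16 := h10 b hb
      rw [h14, h15] at h16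
      have : (2 : ℤ) * (m b : ℤ) = 2 := by rw [h16]; simp
      omega

include hψ hK in
/-- The dimension, with the fixed space separated. -/
theorem finrank_eq [DecidableEq K] : finrank k V = finrank k (LinearMap.range (E R ψ 0)) +
    ∑ b ∈ Finset.univ.erase (0 : K), finrank k (LinearMap.range (E R ψ b)) := by
  rw [finrank_eq_sum R hψ hK, ← Finset.add_sum_erase _ _ (Finset.mem_univ (0 : K))]

include hψ hK in
/-- The two cases for the dimension. -/
theorem dim_cases [IsAlgClosed k] (hspan : Submodule.span k (Set.range R) = ⊤) (hR : R ≠ 1) :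
    ((∀ b : K, b ≠ 0 → finrank k (LinearMap.range (E R ψ b)) = 1) ∧
      (finrank k V + 1 = Fintype.card K ∨ finrank k V = Fintype.card K ∨ finrank k V = Fintype.card K + 1)) ∨
    (Fintype.card K % 2 = 1 ∧ (2 * finrank k V + 1 = Fintype.card K ∨ 2 * finrank k V = Fintype.card K + 1)) := by
  classical
  have h0 := finrank_E_zero_le R hψ hK hspan
  have h1 := finrank_eq R hψ hK
  rcases mult_cases R hψ hK hspan hR with h | ⟨h2, h3⟩
  · left
    refine ⟨h, ?_⟩
    rw [Finset.sum_congr rfl fun b hb => h b (Finset.ne_of_mem_erase hb), Finset.sum_const,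
      Finset.card_erase_of_mem (Finset.mem_univ _), Finset.card_univ, smul_eq_mul, mul_one] at h1
    have h4 : 0 < Fintype.card K := Fintype.card_pos
    omega
  · by_cases h5 : finrank k (LinearMap.range (E R ψ 0)) = 2
    · exfalso
      have h6 : ∀ b : K, b ≠ 0 → finrank k (LinearMap.range (E R ψ b)) = 1 := by
        intro b hb
        have h7 := all_weights R hψ hK hspan h5 b
        have h8 := finrank_E_le_one R hψ hK hspan hb
        omega
      rw [Finset.sum_congr rfl fun b hb => h6 b (Finset.ne_of_mem_erase hb), Finset.sum_const,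
        Finset.card_erase_of_mem (Finset.mem_univ _), Finset.card_univ, smul_eq_mul, mul_one] at h3
      have h4 : 1 < Fintype.card K := Fintype.one_lt_card
      omega
    · right
      refine ⟨h2, ?_⟩
      omega

end Count

end Cfsg.Agent.H464.Sl2
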