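import Cfsg.Agent.H464.Sl2Count
import Cfsg.Agent.H919.AschBurnside
import Cfsg.Agent.H906.SL2Real
import Cfsg.Prelude.Def_GeometricClasses

/-!
# Dimensions and self-duality of irreducible representations of `SL₂(q)` in cross characteristic (helper464)

Tasks 83 (`sl2_dims`) and 84 (`sl2_selfdual`) of the task market.
-/

set_option autoImplicit false
set_option linter.unusedSectionVars false

namespace Cfsg.Agent.H464.Sl2

open Matrix Module Cfsg Cfsg.Geo

section Transfer

variable {G : Type*} [Group G] {F : Type*} [Field F] {n : ℕ} (ρ : G →* GL (Fin n) F)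

/-- An absolutely irreducible group of matrices spans the matrix algebra. -/
theorem span_eq_top (habs : ActsAbsolutelyIrreducibly (matrixSet ρ.range)) :
    Submodule.span F (Set.range fun g : G => (ρ g : Matrix (Fin n) (Fin n) F)) = ⊤ := by
  have h := Cfsg.Agent.H919.adjoin_eq_top_of_absIrr habs
  rw [eq_top_iff]
  intro x _
  have hx : x ∈ Algebra.adjoin F (matrixSet ρ.range) := by rw [h]; trivial
  induction hx using Algebra.adjoin_induction with
  | mem x hx =>
    obtain ⟨_, ⟨g, rfl⟩, rfl⟩ := hx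
    exact Submodule.subset_span ⟨g, rfl⟩
  | algebraMap r =>
    rw [Algebra.algebraMap_eq_smul_one]
    refine Submodule.smul_mem _ _ (Submodule.subset_span ⟨1, ?_⟩)
    simp
  | add x y _ _ hx hy => exact Submodule.add_mem _ (hx trivial) (hy trivial)
  | mul x y _ _ hx hy =>
    have h1 := Submodule.mul_mem_mul (hx trivial) (hy trivial)
    rw [Submodule.span_mul_span] at h1
    refine Submodule.span_mono ?_ h1
    rintro _ ⟨_, ⟨g, rfl⟩, _, ⟨g', rfl⟩, rfl⟩
    exact ⟨g * g', by simp⟩

variable (k : Type*) [Field k] [Algebra F k]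

/-- The representation over an extension field. -/
noncomputable def ext : G →* Module.End k (Fin n → k) :=
  (Matrix.toLinAlgEquiv' : Matrix (Fin n) (Fin n) k ≃ₐ[k] _).toAlgHom.toRingHom.toMonoidHom.comp
    ((algebraMap F k).mapMatrix.toMonoidHom.comp ((Units.coeHom _).comp ρ))

theorem ext_apply (g : G) : ext ρ k g = Matrix.toLin' ((ρ g : Matrix (Fin n) (Fin n) F).map (algebraMap F k)) := rfl

theorem trace_ext (g : G) : LinearMap.trace k _ (ext ρ k g) =
    algebraMap F k ((ρ g : Matrix (Fin n) (Fin n) F).trace) := by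
  rw [ext_apply, Matrix.trace_toLin'_eq]
  simp [Matrix.trace]

theorem span_ext (h : Submodule.span F (Set.range fun g : G => (ρ g : Matrix (Fin n) (Fin n) F)) = ⊤) :
    Submodule.span k (Set.range (ext ρ k)) = ⊤ := by
  classical
  have h1 : ∀ M : Matrix (Fin n) (Fin n) F,
      Matrix.toLin' (M.map (algebraMap F k)) ∈ Submodule.span k (Set.range (ext ρ k)) := by
    intro M
    have hM : M ∈ Submodule.span F (Set.range fun g : G => (ρ g : Matrix (Fin n) (Fin n) F)) := by
      rw [h]; trivial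
    induction hM using Submodule.span_induction with
    | mem x hx =>
      obtain ⟨g, rfl⟩ := hx
      exact Submodule.subset_span ⟨g, rfl⟩
    | zero =>
      rw [Matrix.map_zero _ (map_zero _), map_zero]
      exact Submodule.zero_mem _
    | add x y _ _ hx hy =>
      rw [Matrix.map_add _ (map_add _), map_add]
      exact Submodule.add_mem _ hx hy
    | smul a x _ hx =>
      have h2 : (a • x).map (algebraMap F k) = (algebraMap F k a) • x.map (algebraMap F k) := by
        ext i j
        simp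
      rw [h2, map_smul]
      exact Submodule.smul_mem _ _ hx
  rw [eq_top_iff]
  intro f _
  have h2 : f = Matrix.toLin' (LinearMap.toMatrix' f) := by simp
  rw [h2, Matrix.matrix_eq_sum_single (LinearMap.toMatrix' f), map_sum]
  refine Submodule.sum_mem _ fun i _ => ?_
  rw [map_sum]
  refine Submodule.sum_mem _ fun j _ => ?_
  have h3 : Matrix.single i j (LinearMap.toMatrix' f i j) =
      (LinearMap.toMatrix' f i j) • (Matrix.single i j (1 : F)).map (algebraMap F k) := by
    rw [Matrix.map_single, map_one, Matrix.smul_single, smul_eq_mul, mul_one]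
  rw [h3, map_smul]
  exact Submodule.smul_mem _ _ (h1 _)

theorem ext_ne_one (hρ : ρ ≠ 1) : ext ρ k ≠ 1 := by
  intro h
  apply hρ
  ext1 g
  have h1 : ext ρ k g = 1 := by rw [h]; rfl
  apply Units.ext
  change (ρ g : Matrix (Fin n) (Fin n) F) = 1
  have h2 : (ρ g : Matrix (Fin n) (Fin n) F).map (algebraMap F k) = 1 := by
    apply Matrix.toLin'.injective
    rw [← ext_apply, h1, Matrix.toLin'_one]
    rfl
  ext i j
  have h3 := congrFun (congrFun h2 i) j
  rw [Matrix.map_apply] at h3
  apply (algebraMap F k).injective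
  rw [h3]
  by_cases hij : i = j
  · rw [hij]; simp
  · rw [Matrix.one_apply_ne hij, Matrix.one_apply_ne hij, map_zero]

end Transfer

variable {K : Type*} [Field K] [Fintype K] {F : Type*} [Field F] {n : ℕ}
  (ρ : Matrix.SpecialLinearGroup (Fin 2) K →* GL (Fin n) F)

theorem card_ne_zero {r : ℕ} [CharP K r] (hrF : (r : F) ≠ 0) (k : Type*) [Field k] [Algebra F k] :
    (Fintype.card K : k) ≠ 0 := by
  have hr : r ≠ 0 := by
    rintro rfl
    exact hrF Nat.cast_zero
  have hp : r.Prime := (CharP.char_is_prime_or_zero K r).resolve_right hr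
  have := Fact.mk hp
  obtain ⟨e, -, he⟩ := FiniteField.card K r
  rw [he, Nat.cast_pow]
  refine pow_ne_zero _ ?_
  intro h
  apply hrF
  apply (algebraMap F k).injective
  rw [map_natCast, h, map_zero]

theorem sl2_dims {K : Type*} [Field K] [Fintype K] {r q : ℕ} (_hr : r.Prime) [CharP K r] (hq : Fintype.card K = q)
    (_hq4 : 4 ≤ q) {F : Type*} [Field F] (hrF : (r : F) ≠ 0) {n : ℕ}
    (ρ : Matrix.SpecialLinearGroup (Fin 2) K →* GL (Fin n) F) (hρ : ρ ≠ 1)
    (habs : Cfsg.Geo.ActsAbsolutelyIrreducibly (Cfsg.Geo.matrixSet ρ.range)) :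
    n = q - 1 ∨ n = q ∨ n = q + 1 ∨ (q % 2 = 1 ∧ (n = (q - 1) / 2 ∨ n = (q + 1) / 2)) := by
  have hK := card_ne_zero (K := K) hrF (AlgebraicClosure F)
  obtain ⟨ψ, hψ⟩ := exists_prim (K := K) hK
  have h := dim_cases (ext ρ (AlgebraicClosure F)) hψ hK (span_ext ρ _ (span_eq_top ρ habs)) (ext_ne_one ρ _ hρ)
  rw [Module.finrank_fin_fun, hq] at h
  rcases h with ⟨-, h⟩ | ⟨h1, h2⟩
  · omega
  · omega

/-- Elements of trace `±2` are conjugate to elements `± u(y)`. -/
theorem exists_conj_unip {K : Type*} [Field K] (g : SpecialLinearGroup (Fin 2) K)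
    (ht : (g.1 0 0 + g.1 1 1) ^ 2 - 4 = 0) :
    ∃ (h : SpecialLinearGroup (Fin 2) K) (ε : Kˣ) (y : K), ε ^ 2 = 1 ∧ g = h * (t ε * u y) * h⁻¹ := by
  have hdet : g.1 0 0 * g.1 1 1 - g.1 0 1 * g.1 1 0 = 1 := by
    have := g.2
    rwa [Matrix.det_fin_two] at this
  obtain ⟨ε, hε, hεt⟩ : ∃ ε : K, ε ^ 2 = 1 ∧ 2 * ε = g.1 0 0 + g.1 1 1 := by
    by_cases h2 : (2 : K) = 0
    · refine ⟨1, one_pow 2, ?_⟩
      have h4 : (4 : K) = 0 := by
        have : (4 : K) = 2 * 2 := by norm_num
        rw [this, h2, zero_mul]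
      rw [h4, sub_zero] at ht
      rw [h2, zero_mul]
      exact (pow_eq_zero_iff two_ne_zero |>.1 ht).symm
    · refine ⟨(g.1 0 0 + g.1 1 1) / 2, ?_, by field_simp⟩
      field_simp
      linear_combination ht
  have hε0 : ε ≠ 0 := by
    rintro rfl
    norm_num at hε
  have hinv : ε⁻¹ = ε := inv_eq_of_mul_eq_one_right (by rw [← sq, hε])
  have hεu : (Units.mk0 ε hε0) ^ 2 = 1 := Units.ext (by simpa using hε)
  by_cases hc : g.1 1 0 = 0
  · have h1 : (g.1 0 0 - ε) ^ 2 = 0 := by
      linear_combination -hdet - g.1 0 1 * hc - g.1 0 0 * hεt + hε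
    have h2 : g.1 0 0 = ε := sub_eq_zero.1 (pow_eq_zero_iff two_ne_zero |>.1 h1)
    have h3 : g.1 1 1 = ε := by linear_combination -hεt - h2
    refine ⟨1, Units.mk0 ε hε0, ε * g.1 0 1, hεu, ?_⟩
    rw [one_mul, inv_one, mul_one]
    apply Subtype.ext
    change g.1 = _
    ext i j
    fin_cases i <;> fin_cases j <;> simp [hc, h2, h3, hinv, ← mul_assoc, ← sq, hε]
  · refine ⟨u ((ε - g.1 1 1) / g.1 1 0) * w (Units.mk0 _ hc), Units.mk0 ε hε0, -ε / g.1 1 0, hεu, ?_⟩
    rw [eq_mul_inv_iff_mul_eq]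
    apply Subtype.ext
    change g.1 * ((u ((ε - g.1 1 1) / g.1 1 0)).1 * (w (Units.mk0 _ hc)).1) =
      ((u ((ε - g.1 1 1) / g.1 1 0)).1 * (w (Units.mk0 _ hc)).1) * ((t (Units.mk0 ε hε0)).1 * (u (-ε / g.1 1 0)).1)
    have e1 : (u ((ε - g.1 1 1) / g.1 1 0)).1 = !![1, (ε - g.1 1 1) / g.1 1 0; 0, 1] := rfl
    have e2 : (w (Units.mk0 _ hc)).1 = !![0, -(g.1 1 0)⁻¹; g.1 1 0, 0] := rfl
    have e3 : (t (Units.mk0 ε hε0)).1 = !![ε, 0; 0, ε⁻¹] := rfl
    have e4 : (u (-ε / g.1 1 0)).1 = !![1, -ε / g.1 1 0; 0, 1] := rfl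
    rw [e1, e2, e3, e4, hinv]
    ext i j
    fin_cases i <;> fin_cases j <;> simp [Matrix.mul_apply, Fin.sum_univ_two] <;> field_simp
    · linear_combination -hdet - ε * hεt + hε
    · linear_combination (ε - g.1 1 1) * hε + hεt
    · ring
    · linear_combination hε

/-- Conjugate elements have equal traces. -/
theorem trace_conj {G : Type*} [Group G] {F : Type*} [Field F] {n : ℕ} (ρ : G →* GL (Fin n) F) (h g : G) :
    (ρ (h * g * h⁻¹) : Matrix (Fin n) (Fin n) F).trace = (ρ g : Matrix (Fin n) (Fin n) F).trace := by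
  rw [map_mul, map_mul, Units.val_mul, Units.val_mul, Matrix.trace_mul_comm, ← Matrix.mul_assoc, ← Units.val_mul,
    ← map_mul, inv_mul_cancel, map_one, Units.val_one, Matrix.one_mul]

/-- A central element acts as a scalar. -/
theorem central_scalar {G : Type*} [Group G] {k : Type*} [Field k] {V : Type*} [AddCommGroup V] [Module k V]
    [FiniteDimensional k V] (R : G →* Module.End k V) (hspan : Submodule.span k (Set.range R) = ⊤) {z : G}
    (hz : ∀ g, z * g = g * z) : ∃ c : k, R z = c • 1 := by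
  have h1 : ∀ A : Module.End k V, R z * A = A * R z := by
    intro A
    have hA : A ∈ Submodule.span k (Set.range R) := by rw [hspan]; trivial
    induction hA using Submodule.span_induction with
    | mem x hx =>
      obtain ⟨g, rfl⟩ := hx
      rw [← map_mul, hz, map_mul]
    | zero => simp
    | add x y _ _ hx hy => rw [mul_add, add_mul, hx, hy]
    | smul a x _ hx => simp only [mul_smul_comm, smul_mul_assoc, hx]
  rcases subsingleton_or_nontrivial V with hV | hV
  · exact ⟨1, Subsingleton.elim _ _⟩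
  · obtain ⟨v₀, hv₀⟩ := exists_ne (0 : V)
    obtain ⟨φ, hφ⟩ := exists_dual (k := k) hv₀
    refine ⟨φ (R z v₀), ?_⟩
    ext v
    have h2 := congrArg (fun f : Module.End k V => f v₀) (h1 (φ.smulRight v))
    simp only [Module.End.mul_apply, LinearMap.smulRight_apply, hφ, one_smul] at h2
    rw [h2, LinearMap.smul_apply, Module.End.one_apply]

theorem sl2_selfdual {K : Type*} [Field K] [Fintype K] {r q : ℕ} (_hr : r.Prime) [CharP K r]
    (hq : Fintype.card K = q) (_hq4 : 4 ≤ q) {F : Type*} [Field F] (hrF : (r : F) ≠ 0) {n : ℕ}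
    (ρ : Matrix.SpecialLinearGroup (Fin 2) K →* GL (Fin n) F) (hρ : ρ ≠ 1)
    (habs : Cfsg.Geo.ActsAbsolutelyIrreducibly (Cfsg.Geo.matrixSet ρ.range))
    (h : q % 4 ≠ 3 ∨ (n ≠ (q - 1) / 2 ∧ n ≠ (q + 1) / 2)) :
    ∀ g, ((ρ g⁻¹ : GL (Fin n) F) : Matrix (Fin n) (Fin n) F).trace =
      ((ρ g : GL (Fin n) F) : Matrix (Fin n) (Fin n) F).trace := by
  intro g
  by_cases ht : (g.1 0 0 + g.1 1 1) ^ 2 - 4 = 0
  · obtain ⟨h, ε, y, hε, rfl⟩ := exists_conj_unip g ht
    have hε2 : t ε * t ε = (1 : SpecialLinearGroup (Fin 2) K) := by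
      rw [← t_mul, ← sq, hε, t_one]
    have hcen := t_sq_central (K := K) hε
    have hinv : (t ε * u y)⁻¹ = t ε * u (-y) := by
      rw [inv_eq_iff_mul_eq_one]
      calc t ε * u y * (t ε * u (-y)) = (u y * t ε) * (t ε * u (-y)) := by rw [hcen]
        _ = u y * (t ε * t ε) * u (-y) := by simp only [mul_assoc]
        _ = 1 := by rw [hε2, mul_one, ← u_add, add_neg_cancel, u_zero]
    have e1 : (h * (t ε * u y) * h⁻¹)⁻¹ = h * (t ε * u (-y)) * h⁻¹ := by
      rw [← hinv]
      group
    rw [e1, trace_conj, trace_conj]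
    by_cases h4 : q % 4 = 3
    · -- all the weights occur
      have h5 : n ≠ (q - 1) / 2 ∧ n ≠ (q + 1) / 2 := by
        rcases (‹q % 4 ≠ 3 ∨ (n ≠ (q - 1) / 2 ∧ n ≠ (q + 1) / 2)›) with h6 | h6
        · exact absurd h4 h6
        · exact h6
      have hK := card_ne_zero (K := K) hrF (AlgebraicClosure F)
      obtain ⟨ψ, hψ⟩ := exists_prim (K := K) hK
      have hsp := span_ext ρ (AlgebraicClosure F) (span_eq_top ρ habs)
      have h6 := dim_cases (ext ρ (AlgebraicClosure F)) hψ hK hsp (ext_ne_one ρ _ hρ)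
      rw [Module.finrank_fin_fun, hq] at h6
      have h7 : ∀ b : K, b ≠ 0 →
          finrank (AlgebraicClosure F) (LinearMap.range (E (ext ρ (AlgebraicClosure F)) ψ b)) = 1 := by
        rcases h6 with ⟨h6, -⟩ | ⟨-, h6⟩
        · exact h6
        · omega
      obtain ⟨c, hc⟩ := central_scalar (ext ρ (AlgebraicClosure F)) hsp hcen
      have e5 : ∀ x : K, LinearMap.trace (AlgebraicClosure F) _ (ext ρ (AlgebraicClosure F) (t ε * u x)) =
          c • LinearMap.trace (AlgebraicClosure F) _ (ext ρ (AlgebraicClosure F) (u x)) := by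
        intro x
        rw [MonoidHom.map_mul, hc, smul_mul_assoc, one_mul, map_smul]
      apply (algebraMap F (AlgebraicClosure F)).injective
      rw [← trace_ext, ← trace_ext, e5, e5]
      congr 1
      rw [trace_u _ hψ hK, trace_u _ hψ hK, ← Equiv.sum_comp (Equiv.neg K)]
      refine Finset.sum_congr rfl fun b _ => ?_
      rw [Equiv.neg_apply, neg_mul_neg]
      congr 2
      by_cases hb : b = 0
      · rw [hb, neg_zero]
      · rw [h7 b hb, h7 (-b) (neg_ne_zero.2 hb)]
    · have h5 : IsSquare (-1 : K) := by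
        rw [FiniteField.isSquare_neg_one_iff, hq]
        exact h4
      obtain ⟨a, ha⟩ := h5
      have ha0 : a ≠ 0 := by
        rintro rfl
        rw [mul_zero, neg_eq_zero] at ha
        exact one_ne_zero ha
      have e2 : t ε * u (-y) = t (Units.mk0 a ha0) * (t ε * u y) * (t (Units.mk0 a ha0))⁻¹ := by
        rw [eq_mul_inv_iff_mul_eq]
        have e3 := t_mul_u (Units.mk0 a ha0) y
        rw [Units.val_mk0, sq, ← ha, neg_one_mul] at e3
        calc t ε * u (-y) * t (Units.mk0 a ha0) = t ε * (t (Units.mk0 a ha0) * u y) := by rw [mul_assoc, e3]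
          _ = (t ε * t (Units.mk0 a ha0)) * u y := by rw [mul_assoc]
          _ = (t (Units.mk0 a ha0) * t ε) * u y := by rw [hcen]
          _ = _ := by rw [mul_assoc]
      rw [e2, trace_conj]
  · obtain ⟨h, hh⟩ := Cfsg.Agent.H906.SL2_conj_inv g ht
    rw [← hh, trace_conj]

end Cfsg.Agent.H464.Sl2
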