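import Cfsg.Agent.H464.Sl2Basic

/-!
# Weights of the unipotent group of `SL₂(K)` in cross characteristic (helper464)
-/

set_option autoImplicit false
set_option linter.unusedSectionVars false

namespace Cfsg.Agent.H464.Sl2

open Matrix Module

section Rep

variable {K : Type*} [Field K] [Fintype K] {k : Type*} [Field k] {V : Type*} [AddCommGroup V] [Module k V]
  (R : SpecialLinearGroup (Fin 2) K →* Module.End k V) (ψ : AddChar K k)

/-- The projection onto the weight space of `x ↦ ψ (b x)`. -/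
noncomputable def E (b : K) : Module.End k V := ((Fintype.card K : k))⁻¹ • ∑ x, ψ (-(b * x)) • R (u x)

theorem R_mul_E (b y : K) : R (u y) * E R ψ b = ψ (b * y) • E R ψ b := by
  unfold E
  rw [mul_smul_comm, Finset.mul_sum, smul_comm (ψ (b * y))]
  congr 1
  rw [Finset.smul_sum, ← Equiv.sum_comp (Equiv.addLeft y) (fun x : K => ψ (b * y) • ψ (-(b * x)) • R (u x))]
  refine Finset.sum_congr rfl fun x _ => ?_
  change _ = ψ (b * y) • ψ (-(b * (y + x))) • R (u (y + x))
  rw [mul_smul_comm, smul_smul, u_add, MonoidHom.map_mul, ← AddChar.map_add_eq_mul]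
  congr 2
  ring

theorem E_mul_R (b y : K) : E R ψ b * R (u y) = ψ (b * y) • E R ψ b := by
  rw [← R_mul_E]
  unfold E
  rw [mul_smul_comm, smul_mul_assoc, Finset.mul_sum, Finset.sum_mul]
  congr 1
  refine Finset.sum_congr rfl fun x _ => ?_
  rw [mul_smul_comm, smul_mul_assoc, ← map_mul, ← map_mul, ← u_add, ← u_add, add_comm]

theorem t_mul_E (a : Kˣ) (b : K) : R (t a) * E R ψ b = E R ψ (b / (a : K) ^ 2) * R (t a) := by
  unfold E
  rw [mul_smul_comm, smul_mul_assoc, Finset.mul_sum, Finset.sum_mul]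
  congr 1
  have ha : (a : K) ^ 2 ≠ 0 := pow_ne_zero 2 a.ne_zero
  rw [← Equiv.sum_comp (Equiv.mulLeft₀ ((a : K) ^ 2) ha)
    (fun x : K => (ψ (-(b / (a : K) ^ 2 * x)) • R (u x)) * R (t a))]
  refine Finset.sum_congr rfl fun x _ => ?_
  change _ = (ψ (-(b / (a : K) ^ 2 * ((a : K) ^ 2 * x))) • R (u ((a : K) ^ 2 * x))) * R (t a)
  rw [mul_smul_comm, smul_mul_assoc, ← map_mul, ← map_mul, ← t_mul_u]
  congr 2
  field_simp

variable {ψ} (hψ : ψ.IsPrimitive) (hK : (Fintype.card K : k) ≠ 0)

include hψ hK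

theorem sum_E : ∑ b, E R ψ b = 1 := by
  classical
  unfold E
  rw [← Finset.smul_sum, Finset.sum_comm]
  have h1 : ∀ x : K, ∑ b : K, ψ (-(b * x)) • R (u x) = if x = 0 then (Fintype.card K : k) • (1 : Module.End k V) else 0 := by
    intro x
    rw [← Finset.sum_smul]
    have h2 := AddChar.sum_mulShift (-x) hψ
    have h3 : ∑ b : K, ψ (-(b * x)) = ∑ b : K, ψ (b * -x) := by
      refine Finset.sum_congr rfl fun b _ => ?_
      rw [mul_neg]
    rw [h3, h2]
    by_cases hx : x = 0
    · rw [if_pos (by rw [hx, neg_zero]), if_pos hx, hx, u_zero, map_one]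
    · rw [if_neg (by simpa using hx), if_neg hx, Nat.cast_zero, zero_smul]
  rw [Finset.sum_congr rfl fun x _ => h1 x, Finset.sum_ite_eq' Finset.univ (0 : K), if_pos (Finset.mem_univ _),
    smul_smul, inv_mul_cancel₀ hK, one_smul]

theorem E_mul_E (b c : K) [Decidable (b = c)] : E R ψ b * E R ψ c = if b = c then E R ψ c else 0 := by
  classical
  conv_lhs => rw [E]
  rw [smul_mul_assoc, Finset.sum_mul]
  have h1 : ∀ x : K, (ψ (-(b * x)) • R (u x)) * E R ψ c = ψ (x * (c - b)) • E R ψ c := by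
    intro x
    rw [smul_mul_assoc, R_mul_E, smul_smul, ← AddChar.map_add_eq_mul]
    congr 2
    ring
  rw [Finset.sum_congr rfl fun x _ => h1 x, ← Finset.sum_smul, AddChar.sum_mulShift _ hψ]
  by_cases h : b = c
  · rw [if_pos (by rw [h, sub_self]), if_pos h, smul_smul, inv_mul_cancel₀ hK, one_smul]
  · rw [if_neg (fun h2 => h (sub_eq_zero.1 h2).symm), if_neg h, Nat.cast_zero, zero_smul, smul_zero]

theorem E_mul_self (b : K) : E R ψ b * E R ψ b = E R ψ b := by
  classical
  rw [E_mul_E R hψ hK, if_pos rfl]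

theorem E_mul_of_ne {b c : K} (h : b ≠ c) : E R ψ b * E R ψ c = 0 := by
  classical
  rw [E_mul_E R hψ hK, if_neg h]

/-- The compression of a torus element. -/
theorem E_t_E {b : K} (hb : b ≠ 0) {a : Kˣ} (ha : a ^ 2 ≠ 1) : E R ψ b * R (t a) * E R ψ b = 0 := by
  rw [mul_assoc, t_mul_E, ← mul_assoc, E_mul_of_ne R hψ hK, zero_mul]
  intro h
  apply ha
  have ha0 : (a : K) ^ 2 ≠ 0 := pow_ne_zero 2 a.ne_zero
  rw [eq_div_iff ha0] at h
  have h2 : (a : K) ^ 2 = 1 := by
    apply mul_left_cancel₀ hb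
    rw [h, mul_one]
  exact Units.ext (by simpa using h2)

/-- The key symmetry. -/
theorem E_w_u_w_E {b : K} (hb : b ≠ 0) (c d : Kˣ) (x : K) :
    E R ψ b * R (w c * u x * w d) * E R ψ b = E R ψ b * R (w d * u x * w c) * E R ψ b := by
  by_cases hx : x = 0
  · rw [hx, u_zero, mul_one, mul_one, w_mul_w, w_mul_w]
    by_cases h : (-(d / c)) ^ 2 = 1
    · have h2 : (d / c) = (c / d) := by
        rw [neg_sq, sq] at h
        rw [← inv_div c d] at h ⊢
        rw [← mul_inv, inv_eq_one] at h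
        rw [inv_eq_iff_mul_eq_one]
        exact h
      rw [h2]
    · have h2 : (-(c / d)) ^ 2 ≠ 1 := by
        intro h3
        apply h
        rw [neg_sq] at h3 ⊢
        rw [← inv_div c d, inv_pow, h3, inv_one]
      rw [E_t_E R hψ hK hb h, E_t_E R hψ hK hb h2]
  · obtain ⟨y, rfl⟩ : ∃ y : Kˣ, (y : K) = x := ⟨Units.mk0 x hx, rfl⟩
    rw [w_u_w, w_u_w]
    simp only [map_mul]
    have h1 : ∀ (α β : K) (A : Module.End k V), E R ψ b * (R (u α) * A * R (u β)) * E R ψ b =
        (ψ (b * α) * ψ (b * β)) • (E R ψ b * A * E R ψ b) := by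
      intro α β A
      calc E R ψ b * (R (u α) * A * R (u β)) * E R ψ b = (E R ψ b * R (u α)) * A * (R (u β) * E R ψ b) := by
            simp only [mul_assoc]
        _ = _ := by
            rw [E_mul_R, R_mul_E]
            simp only [smul_mul_assoc, mul_smul_comm, smul_smul]
            rw [mul_comm]
    rw [h1, h1, mul_comm (ψ _) (ψ _), mul_comm d c]

/-- The compressions of group elements commute. -/
theorem E_comm {b : K} (hb : b ≠ 0) (g h : SpecialLinearGroup (Fin 2) K) :
    (E R ψ b * R g * E R ψ b) * (E R ψ b * R h * E R ψ b) =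
      (E R ψ b * R h * E R ψ b) * (E R ψ b * R g * E R ψ b) := by
  -- shapes of compressions
  have hshape : ∀ g : SpecialLinearGroup (Fin 2) K, (∃ (s : k) (z : SpecialLinearGroup (Fin 2) K), (∀ y, z * y = y * z) ∧
      E R ψ b * R g * E R ψ b = s • (E R ψ b * R z * E R ψ b)) ∨
      ∃ (s : k) (c : Kˣ), E R ψ b * R g * E R ψ b = s • (E R ψ b * R (w c) * E R ψ b) := by
    intro g
    rcases bruhat g with ⟨x, a, rfl⟩ | ⟨x, c, y, rfl⟩
    · left
      have h1 : E R ψ b * R (u x * t a) * E R ψ b = ψ (b * x) • (E R ψ b * R (t a) * E R ψ b) := by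
        rw [map_mul, ← mul_assoc, E_mul_R, smul_mul_assoc, smul_mul_assoc]
      by_cases ha : a ^ 2 = 1
      · exact ⟨_, t a, t_sq_central ha, h1⟩
      · refine ⟨0, 1, fun y => by rw [one_mul, mul_one], ?_⟩
        rw [h1, E_t_E R hψ hK hb ha, smul_zero, zero_smul]
    · right
      refine ⟨ψ (b * x) * ψ (b * y), c, ?_⟩
      rw [map_mul, map_mul]
      calc E R ψ b * (R (u x) * R (w c) * R (u y)) * E R ψ b
          = (E R ψ b * R (u x)) * R (w c) * (R (u y) * E R ψ b) := by simp only [mul_assoc]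
        _ = _ := by
            rw [E_mul_R, R_mul_E]
            simp only [smul_mul_assoc, mul_smul_comm, smul_smul]
            rw [mul_comm (ψ (b * y))]
  have hcen : ∀ (z y : SpecialLinearGroup (Fin 2) K), (∀ y, z * y = y * z) →
      (E R ψ b * R z * E R ψ b) * (E R ψ b * R y * E R ψ b) =
      (E R ψ b * R y * E R ψ b) * (E R ψ b * R z * E R ψ b) := by
    intro z y hz
    have hz1 : ∀ y, R z * R y = R y * R z := fun y => by rw [← map_mul, hz, map_mul]
    have hz2 : R z * E R ψ b = E R ψ b * R z := by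
      unfold E
      rw [mul_smul_comm, smul_mul_assoc, Finset.mul_sum, Finset.sum_mul]
      congr 1
      refine Finset.sum_congr rfl fun x _ => ?_
      rw [mul_smul_comm, smul_mul_assoc, hz1]
    have hz3 : E R ψ b * R z * E R ψ b = R z * E R ψ b := by
      rw [← hz2, mul_assoc, E_mul_self R hψ hK]
    have hz4 : E R ψ b * R z * E R ψ b = E R ψ b * R z := by rw [hz3, hz2]
    calc (E R ψ b * R z * E R ψ b) * (E R ψ b * R y * E R ψ b)
        = (E R ψ b * R z) * (E R ψ b * R y * E R ψ b) := by rw [hz4]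
      _ = (R z * E R ψ b) * (E R ψ b * R y * E R ψ b) := by rw [hz2]
      _ = R z * ((E R ψ b * E R ψ b) * R y * E R ψ b) := by simp only [mul_assoc]
      _ = R z * E R ψ b * R y * E R ψ b := by rw [E_mul_self R hψ hK]; simp only [mul_assoc]
      _ = E R ψ b * (R z * R y) * E R ψ b := by rw [hz2]; simp only [mul_assoc]
      _ = E R ψ b * R y * (R z * E R ψ b) := by rw [hz1]; simp only [mul_assoc]
      _ = E R ψ b * R y * (E R ψ b * E R ψ b * R z) := by rw [E_mul_self R hψ hK, hz2]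
      _ = (E R ψ b * R y * E R ψ b) * (E R ψ b * R z) := by simp only [mul_assoc]
      _ = _ := by rw [hz4]
  have hww : ∀ c d : Kˣ, (E R ψ b * R (w c) * E R ψ b) * (E R ψ b * R (w d) * E R ψ b) =
      (E R ψ b * R (w d) * E R ψ b) * (E R ψ b * R (w c) * E R ψ b) := by
    have h1 : ∀ c d : Kˣ, (E R ψ b * R (w c) * E R ψ b) * (E R ψ b * R (w d) * E R ψ b) =
        ((Fintype.card K : k))⁻¹ • ∑ x, ψ (-(b * x)) • (E R ψ b * R (w c * u x * w d) * E R ψ b) := by
      intro c d
      calc (E R ψ b * R (w c) * E R ψ b) * (E R ψ b * R (w d) * E R ψ b)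
          = E R ψ b * R (w c) * (E R ψ b * E R ψ b) * R (w d) * E R ψ b := by simp only [mul_assoc]
        _ = E R ψ b * R (w c) * (((Fintype.card K : k))⁻¹ • ∑ x, ψ (-(b * x)) • R (u x)) * R (w d) * E R ψ b := by
            rw [E_mul_self R hψ hK]
            rfl
        _ = _ := by
            simp only [smul_mul_assoc, mul_smul_comm, Finset.mul_sum, Finset.sum_mul, map_mul, mul_assoc]
    intro c d
    rw [h1, h1]
    congr 1
    refine Finset.sum_congr rfl fun x _ => ?_
    rw [E_w_u_w_E R hψ hK hb]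
  rcases hshape g with ⟨s, z, hz, hg⟩ | ⟨s, c, hg⟩
  · rw [hg, smul_mul_assoc, mul_smul_comm, hcen z h hz]
  · rcases hshape h with ⟨s', z, hz, hh⟩ | ⟨s', d, hh⟩
    · rw [hh, smul_mul_assoc, mul_smul_comm, hcen z g hz]
    · rw [hg, hh]
      simp only [smul_mul_assoc, mul_smul_comm]
      rw [hww c d, smul_comm]

end Rep

end Cfsg.Agent.H464.Sl2
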