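import Cfsg.Agent.H464.Sl2Rep

/-!
# Irreducible representations of `SL₂(K)` in cross characteristic: weight multiplicities (helper464)
-/

set_option autoImplicit false
set_option linter.unusedSectionVars false

namespace Cfsg.Agent.H464.Sl2

open Matrix Module

section Struct

variable {K : Type*} [Field K] [Fintype K] {k : Type*} [Field k] {V : Type*} [AddCommGroup V] [Module k V]
  [FiniteDimensional k V] (R : SpecialLinearGroup (Fin 2) K →* Module.End k V) {ψ : AddChar K k}
  (hψ : ψ.IsPrimitive) (hK : (Fintype.card K : k) ≠ 0)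

theorem exists_dual {v : V} (hv : v ≠ 0) : ∃ φ : V →ₗ[k] k, φ v = 1 := by
  have h1 : ∃ φ : Module.Dual k V, φ v ≠ 0 := by
    by_contra hcon
    push Not at hcon
    exact hv ((Module.forall_dual_apply_eq_zero_iff k v).1 hcon)
  obtain ⟨φ, hφ⟩ := h1
  exact ⟨(φ v)⁻¹ • φ, by simp [hφ]⟩

include hψ hK

/-- Multiplicity one. -/
theorem finrank_E_le_one (hspan : Submodule.span k (Set.range R) = ⊤) {b : K} (hb : b ≠ 0) :
    finrank k (LinearMap.range (E R ψ b)) ≤ 1 := by
  have key1 : ∀ (g : SpecialLinearGroup (Fin 2) K) (B : Module.End k V),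
      (E R ψ b * R g * E R ψ b) * (E R ψ b * B * E R ψ b) =
      (E R ψ b * B * E R ψ b) * (E R ψ b * R g * E R ψ b) := by
    intro g B
    have hB : B ∈ Submodule.span k (Set.range R) := by rw [hspan]; trivial
    induction hB using Submodule.span_induction with
    | mem x hx =>
      obtain ⟨h, rfl⟩ := hx
      exact E_comm R hψ hK hb g h
    | zero => simp
    | add x y _ _ hx hy => rw [mul_add, add_mul, mul_add, hx, hy, add_mul]
    | smul a x _ hx => simp only [mul_smul_comm, smul_mul_assoc, hx]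
  have key : ∀ A B : Module.End k V,
      (E R ψ b * A * E R ψ b) * (E R ψ b * B * E R ψ b) =
      (E R ψ b * B * E R ψ b) * (E R ψ b * A * E R ψ b) := by
    intro A B
    have hA : A ∈ Submodule.span k (Set.range R) := by rw [hspan]; trivial
    induction hA using Submodule.span_induction with
    | mem x hx =>
      obtain ⟨h, rfl⟩ := hx
      exact key1 h B
    | zero => simp
    | add x y _ _ hx hy => rw [mul_add, add_mul, add_mul, hx, hy, mul_add]
    | smul a x _ hx => simp only [mul_smul_comm, smul_mul_assoc, hx]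
  have hE : ∀ v ∈ LinearMap.range (E R ψ b), E R ψ b v = v := by
    rintro _ ⟨x, rfl⟩
    rw [← Module.End.mul_apply, E_mul_self R hψ hK]
  by_cases h0 : LinearMap.range (E R ψ b) = ⊥
  · rw [h0, finrank_bot]
    exact Nat.zero_le _
  · obtain ⟨v, hv, hv0⟩ := Submodule.exists_mem_ne_zero_of_ne_bot h0
    obtain ⟨φ, hφ⟩ := exists_dual (k := k) hv0
    refine finrank_le_one (⟨v, hv⟩ : LinearMap.range (E R ψ b)) ?_
    rintro ⟨y, hy⟩
    refine ⟨φ y, Subtype.ext ?_⟩
    change φ y • v = y
    have h1 := congrArg (fun f : Module.End k V => f v) (key (φ.smulRight v) (φ.smulRight y))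
    simp only [Module.End.mul_apply, LinearMap.smulRight_apply, hE v hv, hE y hy, hφ, one_smul, map_smul] at h1
    exact h1

/-- The weight decomposition. -/
noncomputable def decomp : V ≃ₗ[k] (∀ b : K, LinearMap.range (E R ψ b)) where
  toFun v b := ⟨E R ψ b v, LinearMap.mem_range_self _ _⟩
  map_add' v w := by
    ext b
    simp
  map_smul' c v := by
    ext b
    simp
  invFun f := ∑ b, (f b : V)
  left_inv v := by
    change ∑ b, E R ψ b v = v
    have h1 := congrArg (fun f : Module.End k V => f v) (sum_E R hψ hK)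
    simpa [LinearMap.sum_apply] using h1
  right_inv f := by
    funext b
    apply Subtype.ext
    change E R ψ b (∑ c, (f c : V)) = f b
    rw [map_sum]
    rw [Finset.sum_eq_single b]
    · obtain ⟨x, hx⟩ := (f b).2
      rw [← hx, ← Module.End.mul_apply, E_mul_self R hψ hK]
    · intro c _ hc
      obtain ⟨x, hx⟩ := (f c).2
      rw [← hx, ← Module.End.mul_apply, E_mul_of_ne R hψ hK hc.symm, LinearMap.zero_apply]
    · intro h
      exact absurd (Finset.mem_univ _) h

theorem finrank_eq_sum : finrank k V = ∑ b : K, finrank k (LinearMap.range (E R ψ b)) := by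
  rw [(decomp R hψ hK).finrank_eq, Module.finrank_pi_fintype]

theorem trace_E (b : K) : LinearMap.trace k V (E R ψ b) = (finrank k (LinearMap.range (E R ψ b)) : k) := by
  have h : LinearMap.IsProj (LinearMap.range (E R ψ b)) (E R ψ b) := by
    refine ⟨fun x => LinearMap.mem_range_self _ _, ?_⟩
    rintro _ ⟨x, rfl⟩
    rw [← Module.End.mul_apply, E_mul_self R hψ hK]
  exact h.trace

theorem trace_u (x : K) : LinearMap.trace k V (R (u x)) =
    ∑ b : K, ψ (b * x) * (finrank k (LinearMap.range (E R ψ b)) : k) := by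
  have h1 : R (u x) = ∑ b : K, ψ (b * x) • E R ψ b := by
    rw [← mul_one (R (u x)), ← sum_E R hψ hK, Finset.mul_sum]
    exact Finset.sum_congr rfl fun b _ => R_mul_E R ψ b x
  rw [h1, map_sum]
  refine Finset.sum_congr rfl fun b _ => ?_
  rw [map_smul, trace_E R hψ hK, smul_eq_mul]

omit hψ hK in
theorem R_injective (g : SpecialLinearGroup (Fin 2) K) : Function.Injective (R g) := by
  intro v w h
  have h1 : R g⁻¹ (R g v) = R g⁻¹ (R g w) := by rw [h]
  rwa [← Module.End.mul_apply, ← Module.End.mul_apply, ← map_mul, inv_mul_cancel, map_one,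
    Module.End.one_apply, Module.End.one_apply] at h1

omit hψ hK in
theorem finrank_E_le (a : Kˣ) (b : K) : finrank k (LinearMap.range (E R ψ b)) ≤
    finrank k (LinearMap.range (E R ψ (b / (a : K) ^ 2))) := by
  have h1 : (LinearMap.range (E R ψ b)).map (R (t a)) ≤ LinearMap.range (E R ψ (b / (a : K) ^ 2)) := by
    rintro _ ⟨_, ⟨x, rfl⟩, rfl⟩
    rw [← Module.End.mul_apply, t_mul_E, Module.End.mul_apply]
    exact LinearMap.mem_range_self _ _
  refine le_trans (le_of_eq ?_) (Submodule.finrank_mono h1)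
  exact (Submodule.equivMapOfInjective (R (t a)) (R_injective R (t a)) _).finrank_eq

omit hψ hK in
theorem finrank_E_mul_sq (a : Kˣ) (b : K) : finrank k (LinearMap.range (E R ψ ((a : K) ^ 2 * b))) =
    finrank k (LinearMap.range (E R ψ b)) := by
  have ha : (a : K) ≠ 0 := a.ne_zero
  apply le_antisymm
  · refine (finrank_E_le R a ((a : K) ^ 2 * b)).trans (le_of_eq ?_)
    rw [mul_div_cancel_left₀ b (pow_ne_zero 2 ha)]
  · refine (finrank_E_le R a⁻¹ b).trans (le_of_eq ?_)
    have h2 : b / ((a⁻¹ : Kˣ) : K) ^ 2 = (a : K) ^ 2 * b := by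
      rw [Units.val_inv_eq_inv_val]
      field_simp
    rw [h2]

omit hψ hK in
/-- If `U` acts trivially then so does the group. -/
theorem eq_one_of_u (h : ∀ x, R (u x) = 1) : R = 1 := by
  have hw : ∀ c : Kˣ, R (w c) = 1 := by
    intro c
    have h1 : w c = u (-((c⁻¹ : Kˣ) : K)) * (w 1 * u (-(c : K)) * w (-1)) * u (-((c⁻¹ : Kˣ) : K)) := by
      apply Subtype.ext
      ext i j
      fin_cases i <;> fin_cases j <;> simp
    have h2 : w (1 : Kˣ) * w (-1) = (1 : SpecialLinearGroup (Fin 2) K) := by
      rw [w_mul_w]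
      simp [t_one]
    rw [h1]
    simp only [map_mul, h, one_mul, mul_one]
    rw [← map_mul, h2, map_one]
  have ht : ∀ a : Kˣ, R (t a) = 1 := by
    intro a
    have h1 := w_one_mul_t a
    have h2 : R (w 1) * R (t a) = R (w a) := by rw [← map_mul, h1]
    rw [hw, hw, one_mul] at h2
    exact h2
  ext1 g
  rcases bruhat g with ⟨x, a, rfl⟩ | ⟨x, c, y, rfl⟩
  · rw [map_mul, h, ht, one_mul]; rfl
  · rw [map_mul, map_mul, h, h, hw, one_mul, one_mul]; rfl

/-- A non-trivial representation has a non-trivial weight. -/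
theorem exists_E_ne (hR : R ≠ 1) : ∃ b : K, b ≠ 0 ∧ finrank k (LinearMap.range (E R ψ b)) ≠ 0 := by
  classical
  by_contra hcon
  push Not at hcon
  apply hR
  apply eq_one_of_u
  have h1 : ∀ b : K, b ≠ 0 → E R ψ b = 0 := by
    intro b hb
    have h2 := hcon b hb
    rw [Submodule.finrank_eq_zero] at h2
    exact LinearMap.range_eq_bot.1 h2
  have h2 : E R ψ 0 = 1 := by
    rw [← sum_E R hψ hK, Finset.sum_eq_single (0 : K) (fun b _ hb => h1 b hb)
      (fun h => absurd (Finset.mem_univ _) h)]
  intro x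
  have h3 := R_mul_E R ψ 0 x
  rw [h2, mul_one, zero_mul, AddChar.map_zero_eq_one, one_smul] at h3
  exact h3

/-- A torus eigenvector in the fixed space of `U`. -/
theorem exists_eigen [IsAlgClosed k] (h0 : LinearMap.range (E R ψ 0) ≠ ⊥) :
    ∃ v : V, v ≠ 0 ∧ E R ψ 0 v = v ∧ ∀ a : Kˣ, ∃ c : k, R (t a) v = c • v := by
  obtain ⟨a₀, ha₀⟩ := IsCyclic.exists_generator (α := Kˣ)
  have hmap : ∀ x ∈ LinearMap.range (E R ψ 0), R (t a₀) x ∈ LinearMap.range (E R ψ 0) := by
    rintro _ ⟨x, rfl⟩
    rw [← Module.End.mul_apply, t_mul_E, zero_div, Module.End.mul_apply]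
    exact LinearMap.mem_range_self _ _
  have : Nontrivial (LinearMap.range (E R ψ 0)) := Submodule.nontrivial_iff_ne_bot.2 h0
  obtain ⟨μ, hμ⟩ := Module.End.exists_eigenvalue ((R (t a₀)).restrict hmap)
  obtain ⟨v, hv⟩ := hμ.exists_hasEigenvector
  have hv0 : (v : V) ≠ 0 := fun h => hv.2 (Subtype.ext h)
  refine ⟨v, hv0, ?_, ?_⟩
  · obtain ⟨x, hx⟩ := v.2
    rw [← hx, ← Module.End.mul_apply, E_mul_self R hψ hK]
  · intro a
    have h1 : R (t a₀) (v : V) = μ • (v : V) := congrArg Subtype.val hv.apply_eq_smul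
    have h2 := ha₀ a
    rw [← mem_powers_iff_mem_zpowers] at h2
    obtain ⟨n, rfl⟩ := h2
    refine ⟨μ ^ n, ?_⟩
    have h3 : t (a₀ ^ n) = (t a₀) ^ n := map_pow tHom a₀ n
    change R (t (a₀ ^ n)) _ = _
    rw [h3, map_pow]
    clear h3
    induction n with
    | zero => simp
    | succ n ih => rw [pow_succ', Module.End.mul_apply, ih, map_smul, h1, smul_smul, pow_succ]

/-- If `U` has fixed points then the fixed space is at most two-dimensional. -/
theorem fixed_aux (hspan : Submodule.span k (Set.range R) = ⊤) {v : V} (hv0 : v ≠ 0)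
    (hv : E R ψ 0 v = v) (ht : ∀ a : Kˣ, ∃ c : k, R (t a) v = c • v) :
    LinearMap.range (E R ψ 0) ≤ Submodule.span k {v, E R ψ 0 (R (w 1) v)} := by
  have hu : ∀ x : K, R (u x) v = v := by
    intro x
    have h3 := congrArg (fun f : Module.End k V => f v) (R_mul_E R ψ 0 x)
    simp only [Module.End.mul_apply, hv, zero_mul, AddChar.map_zero_eq_one, one_smul] at h3
    exact h3
  have hg : ∀ g : SpecialLinearGroup (Fin 2) K, E R ψ 0 (R g v) ∈ Submodule.span k {v, E R ψ 0 (R (w 1) v)} := by
    intro g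
    have hE : ∀ (x : K) (y : V), E R ψ 0 (R (u x) y) = E R ψ 0 y := by
      intro x y
      have h3 := congrArg (fun f : Module.End k V => f y) (E_mul_R R ψ 0 x)
      simp only [Module.End.mul_apply, zero_mul, AddChar.map_zero_eq_one, one_smul] at h3
      exact h3
    rcases bruhat g with ⟨x, a, rfl⟩ | ⟨x, c, y, rfl⟩
    · obtain ⟨c, hc⟩ := ht a
      rw [map_mul, Module.End.mul_apply, hE, hc, map_smul, hv]
      exact Submodule.smul_mem _ _ (Submodule.subset_span (by simp))
    · obtain ⟨c', hc'⟩ := ht c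
      rw [map_mul, map_mul, Module.End.mul_apply, Module.End.mul_apply, hE, hu, ← w_one_mul_t c, map_mul,
        Module.End.mul_apply, hc', map_smul, map_smul]
      exact Submodule.smul_mem _ _ (Submodule.subset_span (by simp))
  rintro _ ⟨y, rfl⟩
  obtain ⟨φ, hφ⟩ := exists_dual (k := k) hv0
  have h1 : ∀ A : Module.End k V, E R ψ 0 (A v) ∈ Submodule.span k {v, E R ψ 0 (R (w 1) v)} := by
    intro A
    have hA : A ∈ Submodule.span k (Set.range R) := by rw [hspan]; trivial
    induction hA using Submodule.span_induction with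
    | mem x hx =>
      obtain ⟨h, rfl⟩ := hx
      exact hg h
    | zero => simp
    | add x y _ _ hx hy =>
      rw [LinearMap.add_apply, map_add]
      exact Submodule.add_mem _ hx hy
    | smul a x _ hx =>
      rw [LinearMap.smul_apply, map_smul]
      exact Submodule.smul_mem _ _ hx
  have h2 := h1 (φ.smulRight y)
  rwa [LinearMap.smulRight_apply, hφ, one_smul] at h2

theorem finrank_E_zero_le [IsAlgClosed k] (hspan : Submodule.span k (Set.range R) = ⊤) :
    finrank k (LinearMap.range (E R ψ 0)) ≤ 2 := by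
  classical
  by_cases h0 : LinearMap.range (E R ψ 0) = ⊥
  · rw [h0, finrank_bot]
    exact Nat.zero_le _
  · obtain ⟨v, hv0, hv, ht⟩ := exists_eigen R hψ hK h0
    refine (Submodule.finrank_mono (fixed_aux R hψ hK hspan hv0 hv ht)).trans ?_
    have h1 := finrank_span_finset_le_card (R := k) ({v, E R ψ 0 (R (w 1) v)} : Finset V)
    refine le_trans (le_of_eq ?_) (h1.trans (Finset.card_le_two))
    rw [Finset.coe_insert, Finset.coe_singleton]
    rfl

/-- If the fixed space is two-dimensional then all weights occur. -/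
theorem all_weights [IsAlgClosed k] (hspan : Submodule.span k (Set.range R) = ⊤)
    (h2 : finrank k (LinearMap.range (E R ψ 0)) = 2) (b : K) :
    finrank k (LinearMap.range (E R ψ b)) ≠ 0 := by
  classical
  have h0 : LinearMap.range (E R ψ 0) ≠ ⊥ := by
    intro h
    rw [h, finrank_bot] at h2
    exact absurd h2 (by norm_num)
  obtain ⟨v, hv0, hv, ht⟩ := exists_eigen R hψ hK h0
  have hle := fixed_aux R hψ hK hspan hv0 hv ht
  have hE : ∀ (x : K) (y : V), E R ψ 0 (R (u x) y) = E R ψ 0 y := by
    intro x y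
    have h3 := congrArg (fun f : Module.End k V => f y) (E_mul_R R ψ 0 x)
    simp only [Module.End.mul_apply, zero_mul, AddChar.map_zero_eq_one, one_smul] at h3
    exact h3
  have hu : ∀ x : K, R (u x) v = v := by
    intro x
    have h3 := congrArg (fun f : Module.End k V => f v) (R_mul_E R ψ 0 x)
    simp only [Module.End.mul_apply, hv, zero_mul, AddChar.map_zero_eq_one, one_smul] at h3
    exact h3
  -- `v` is not a multiple of the second vector
  have hind : ∀ c : k, v ≠ c • E R ψ 0 (R (w 1) v) := by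
    intro c hc
    have h3 : Submodule.span k {v, E R ψ 0 (R (w 1) v)} ≤ Submodule.span k {E R ψ 0 (R (w 1) v)} := by
      rw [Submodule.span_le]
      rintro x (rfl | rfl)
      · rw [hc]
        exact Submodule.smul_mem _ _ (by
          rw [← hc]
          exact Submodule.mem_span_singleton_self _)
      · exact Submodule.mem_span_singleton_self _
    have h4 := (Submodule.finrank_mono (hle.trans h3)).trans (finrank_span_le_card _)
    rw [h2] at h4
    simp at h4
  intro hb
  by_cases hb0 : b = 0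
  · rw [hb0, h2] at hb
    exact absurd hb (by norm_num)
  rw [Submodule.finrank_eq_zero, LinearMap.range_eq_bot] at hb
  have h3 : ∑ x : K, ψ (-(b * x)) • R (u x) (R (w 1) v) = 0 := by
    have h4 := congrArg (fun f : Module.End k V => (Fintype.card K : k) • f (R (w 1) v)) hb
    simp only [E, LinearMap.smul_apply, LinearMap.sum_apply, LinearMap.zero_apply, smul_zero, smul_smul,
      mul_inv_cancel₀ hK, one_smul] at h4
    exact h4
  have h4 := congrArg (fun y => E R ψ 0 (R (w (-1)) y)) h3
  simp only [map_sum, map_smul, map_zero] at h4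
  have h5 : ∀ x : K, ∃ c : k, x ≠ 0 → E R ψ 0 (R (w (-1)) (R (u x) (R (w 1) v))) = c • E R ψ 0 (R (w 1) v) := by
    intro x
    by_cases hx : x = 0
    · exact ⟨0, fun h => absurd hx h⟩
    · obtain ⟨y, rfl⟩ : ∃ y : Kˣ, (y : K) = x := ⟨Units.mk0 x hx, rfl⟩
      obtain ⟨c, hc⟩ := ht (-1 * 1 * y)
      refine ⟨c, fun _ => ?_⟩
      rw [← Module.End.mul_apply (R (u _)), ← Module.End.mul_apply (R (w (-1))), ← map_mul, ← map_mul, ← mul_assoc,
        w_u_w, map_mul, map_mul, Module.End.mul_apply, Module.End.mul_apply, hE, hu, ← w_one_mul_t (-1 * 1 * y),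
        map_mul, Module.End.mul_apply, hc, map_smul, map_smul]
  choose c hc using h5
  rw [← Finset.add_sum_erase _ _ (Finset.mem_univ (0 : K))] at h4
  have h6 : E R ψ 0 (R (w (-1)) (R (u 0) (R (w 1) v))) = v := by
    rw [u_zero, map_one, Module.End.one_apply, ← Module.End.mul_apply (R (w (-1))), ← map_mul, w_mul_w]
    have h7 : (-(1 / (-1)) : Kˣ) = 1 := by simp
    rw [h7, t_one, map_one, Module.End.one_apply, hv]
  rw [h6, mul_zero, neg_zero, AddChar.map_zero_eq_one, one_smul] at h4
  apply hind (-∑ x ∈ Finset.univ.erase (0 : K), ψ (-(b * x)) * c x)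
  rw [neg_smul, Finset.sum_smul]
  have h8 : ∑ x ∈ Finset.univ.erase (0 : K), (ψ (-(b * x)) * c x) • E R ψ 0 (R (w 1) v) =
      ∑ x ∈ Finset.univ.erase (0 : K), ψ (-(b * x)) • E R ψ 0 (R (w (-1)) (R (u x) (R (w 1) v))) := by
    refine Finset.sum_congr rfl fun x hx => ?_
    rw [hc x (Finset.ne_of_mem_erase hx), smul_smul]
  rw [h8]
  exact eq_neg_of_add_eq_zero_left h4

end Struct

end Cfsg.Agent.H464.Sl2
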