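import Cfsg.Agent.H464.Sl2Uniq

/-!
# The Weil modules of `SL₂(q)`, `q` odd: Galois conjugation of the traces (helper464)
-/

set_option autoImplicit false
set_option linter.unusedSectionVars false

namespace Cfsg.Agent.H464.Sl2

open Matrix Module Cfsg Cfsg.Geo

section Weil

variable {K : Type*} [Field K] [Fintype K] {F : Type*} [Field F] {n : ℕ}

/-- Half of the weights. -/
theorem exists_missing (ρ : SpecialLinearGroup (Fin 2) K →* GL (Fin n) F) (k : Type*) [Field k] [Algebra F k]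
    [IsAlgClosed k] {ψ : AddChar K k} (hψ : ψ.IsPrimitive) (hK : (Fintype.card K : k) ≠ 0) (hρ : ρ ≠ 1)
    (hsp : Submodule.span F (Set.range fun g => (ρ g : Matrix (Fin n) (Fin n) F)) = ⊤) (h5 : 5 ≤ Fintype.card K)
    (hn : 2 * n + 1 = Fintype.card K ∨ 2 * n = Fintype.card K + 1) :
    (∀ b, finrank k (LinearMap.range (E (ext ρ k) ψ b)) ≤ 1) ∧
      ∃ b : K, b ≠ 0 ∧ E (ext ρ k) ψ b = 0 := by
  classical
  have hspk := span_ext ρ k hsp
  have hne := ext_ne_one ρ k hρ
  have h1 := finrank_eq (ext ρ k) hψ hK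
  rw [Module.finrank_fin_fun] at h1
  have h0 := finrank_E_zero_le (ext ρ k) hψ hK hspk
  have hle : ∀ b : K, b ≠ 0 → finrank k (LinearMap.range (E (ext ρ k) ψ b)) ≤ 1 :=
    fun b hb => finrank_E_le_one (ext ρ k) hψ hK hspk hb
  rcases mult_cases (ext ρ k) hψ hK hspk hne with h | ⟨h2, h3⟩
  · exfalso
    rw [Finset.sum_congr rfl fun b hb => h b (Finset.ne_of_mem_erase hb), Finset.sum_const,
      Finset.card_erase_of_mem (Finset.mem_univ _), Finset.card_univ, smul_eq_mul, mul_one] at h1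
    omega
  · refine ⟨fun b => ?_, ?_⟩
    · by_cases hb : b = 0
      · rw [hb]
        omega
      · exact hle b hb
    · by_contra hcon
      push Not at hcon
      have h : ∀ b : K, b ≠ 0 → finrank k (LinearMap.range (E (ext ρ k) ψ b)) = 1 := by
        intro b hb
        have h6 := hle b hb
        have h7 : finrank k (LinearMap.range (E (ext ρ k) ψ b)) ≠ 0 := by
          rw [Ne, Submodule.finrank_eq_zero, LinearMap.range_eq_bot]
          exact hcon b hb
        omega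
      rw [Finset.sum_congr rfl fun b hb => h b (Finset.ne_of_mem_erase hb), Finset.sum_const,
        Finset.card_erase_of_mem (Finset.mem_univ _), Finset.card_univ, smul_eq_mul, mul_one] at h3
      omega

/-- The trace of a weight projection. -/
theorem trace_E_eq {V : Type*} {k : Type*} [Field k] [AddCommGroup V] [Module k V] [FiniteDimensional k V]
    (R : SpecialLinearGroup (Fin 2) K →* Module.End k V) (ψ : AddChar K k) (b : K) :
    LinearMap.trace k V (E R ψ b) = (Fintype.card K : k)⁻¹ * ∑ x, ψ (-(b * x)) * LinearMap.trace k V (R (u x)) := by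
  unfold E
  rw [map_smul, map_sum, smul_eq_mul]
  congr 1
  refine Finset.sum_congr rfl fun x _ => ?_
  rw [map_smul, smul_eq_mul]

/-- Two Weil modules with the same restriction to `U` and the same central character. -/
theorem weil_trace_eq (ρ₁ ρ₂ : SpecialLinearGroup (Fin 2) K →* GL (Fin n) F) (hK : (Fintype.card K : F) ≠ 0)
    (hρ₁ : ρ₁ ≠ 1) (hρ₂ : ρ₂ ≠ 1)
    (hsp₁ : Submodule.span F (Set.range fun g => (ρ₁ g : Matrix (Fin n) (Fin n) F)) = ⊤)
    (hsp₂ : Submodule.span F (Set.range fun g => (ρ₂ g : Matrix (Fin n) (Fin n) F)) = ⊤)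
    (h5 : 5 ≤ Fintype.card K) (h2 : ringChar K ≠ 2)
    (hn : 2 * n + 1 = Fintype.card K ∨ 2 * n = Fintype.card K + 1)
    (htr : ∀ x, (ρ₁ (u x) : Matrix (Fin n) (Fin n) F).trace = (ρ₂ (u x) : Matrix (Fin n) (Fin n) F).trace)
    (hz : ∃ c : F, (ρ₁ (t (-1)) : Matrix (Fin n) (Fin n) F) = c • 1 ∧
      (ρ₂ (t (-1)) : Matrix (Fin n) (Fin n) F) = c • 1) (g : SpecialLinearGroup (Fin 2) K) :
    (ρ₁ g : Matrix (Fin n) (Fin n) F).trace = (ρ₂ g : Matrix (Fin n) (Fin n) F).trace := by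
  set k := AlgebraicClosure F
  have hKk : (Fintype.card K : k) ≠ 0 := by
    intro h
    apply hK
    apply (algebraMap F k).injective
    rw [map_natCast, h, map_zero]
  obtain ⟨ψ, hψ⟩ := exists_prim (K := K) hKk
  obtain ⟨hle₁, b, hb0, hb⟩ := exists_missing ρ₁ k hψ hKk hρ₁ hsp₁ h5 hn
  obtain ⟨hle₂, -⟩ := exists_missing ρ₂ k hψ hKk hρ₂ hsp₂ h5 hn
  have htrk : ∀ x, LinearMap.trace k _ (ext ρ₁ k (u x)) = LinearMap.trace k _ (ext ρ₂ k (u x)) := by
    intro x
    rw [trace_ext, trace_ext, htr]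
  have hb2 : E (ext ρ₂ k) ψ b = 0 := by
    have h6 : LinearMap.trace k _ (E (ext ρ₂ k) ψ b) = LinearMap.trace k _ (E (ext ρ₁ k) ψ b) := by
      rw [trace_E_eq, trace_E_eq]
      congr 1
      refine Finset.sum_congr rfl fun x _ => ?_
      rw [htrk]
    rw [hb, map_zero, trace_E _ hψ hKk] at h6
    have h7 := hle₂ b
    have h8 : finrank k (LinearMap.range (E (ext ρ₂ k) ψ b)) = 0 := by
      by_contra h9
      have h10 : finrank k (LinearMap.range (E (ext ρ₂ k) ψ b)) = 1 := by omega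
      rw [h10, Nat.cast_one] at h6
      exact one_ne_zero h6
    rw [Submodule.finrank_eq_zero, LinearMap.range_eq_bot] at h8
    exact h8
  have hzk : ∃ c : k, ext ρ₁ k (t (-1)) = c • 1 ∧ ext ρ₂ k (t (-1)) = c • 1 := by
    obtain ⟨c, hc₁, hc₂⟩ := hz
    have key : ∀ ρ : SpecialLinearGroup (Fin 2) K →* GL (Fin n) F,
        (ρ (t (-1)) : Matrix (Fin n) (Fin n) F) = c • 1 → ext ρ k (t (-1)) = algebraMap F k c • 1 := by
      intro ρ h
      rw [ext_apply, h]
      have h9 : ((c • 1 : Matrix (Fin n) (Fin n) F)).map (algebraMap F k) = algebraMap F k c • 1 := by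
        ext i j
        rw [Matrix.map_apply, Matrix.smul_apply, Matrix.smul_apply, smul_eq_mul, map_mul, smul_eq_mul]
        congr 1
        by_cases hij : i = j
        · rw [hij]; simp
        · rw [Matrix.one_apply_ne hij, Matrix.one_apply_ne hij, map_zero]
      rw [h9, map_smul, Matrix.toLin'_one]
      rfl
    exact ⟨_, key ρ₁ hc₁, key ρ₂ hc₂⟩
  have h := trace_eq (ext ρ₁ k) (ext ρ₂ k) hψ hKk h2 htrk hzk hb0 hb hb2 g
  rw [trace_ext, trace_ext] at h
  exact (algebraMap F k).injective h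

variable (ρ : SpecialLinearGroup (Fin 2) K →* GL (Fin n) F)

/-- The Galois twist. -/
def twist (σ : F →+* F) : SpecialLinearGroup (Fin 2) K →* GL (Fin n) F := (GeneralLinearGroup.map σ).comp ρ

theorem twist_coe (σ : F →+* F) (g : SpecialLinearGroup (Fin 2) K) :
    (twist ρ σ g : Matrix (Fin n) (Fin n) F) = (ρ g : Matrix (Fin n) (Fin n) F).map σ := rfl

theorem trace_twist (σ : F →+* F) (g : SpecialLinearGroup (Fin 2) K) :
    (twist ρ σ g : Matrix (Fin n) (Fin n) F).trace = σ (ρ g : Matrix (Fin n) (Fin n) F).trace := by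
  rw [twist_coe]
  simp [Matrix.trace]

theorem span_twist (σ : F →+* F) (hσ : Function.Surjective σ)
    (hsp : Submodule.span F (Set.range fun g => (ρ g : Matrix (Fin n) (Fin n) F)) = ⊤) :
    Submodule.span F (Set.range fun g => (twist ρ σ g : Matrix (Fin n) (Fin n) F)) = ⊤ := by
  have h1 : ∀ M : Matrix (Fin n) (Fin n) F,
      M.map σ ∈ Submodule.span F (Set.range fun g => (twist ρ σ g : Matrix (Fin n) (Fin n) F)) := by
    intro M
    have hM : M ∈ Submodule.span F (Set.range fun g => (ρ g : Matrix (Fin n) (Fin n) F)) := by rw [hsp]; trivial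
    induction hM using Submodule.span_induction with
    | mem x hx =>
      obtain ⟨g, rfl⟩ := hx
      exact Submodule.subset_span ⟨g, rfl⟩
    | zero =>
      rw [Matrix.map_zero _ (map_zero _)]
      exact Submodule.zero_mem _
    | add x y _ _ hx hy =>
      rw [Matrix.map_add _ (map_add _)]
      exact Submodule.add_mem _ hx hy
    | smul a x _ hx =>
      have h2 : (a • x).map σ = (σ a) • x.map σ := by
        ext i j
        simp
      rw [h2]
      exact Submodule.smul_mem _ _ hx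
  rw [eq_top_iff]
  intro M _
  choose τ hτ using hσ
  have h2 : M = (M.map τ).map σ := by
    ext i j
    simp [hτ]
  rw [h2]
  exact h1 _

theorem twist_ne_one (σ : F →+* F) (hρ : ρ ≠ 1) : twist ρ σ ≠ 1 := by
  intro h
  apply hρ
  ext1 g
  apply Units.ext
  have h1 : (twist ρ σ g : Matrix (Fin n) (Fin n) F) = 1 := by rw [h]; rfl
  rw [twist_coe] at h1
  ext i j
  apply σ.injective
  have h2 := congrFun (congrFun h1 i) j
  rw [Matrix.map_apply] at h2
  rw [h2]
  change _ = σ ((1 : Matrix (Fin n) (Fin n) F) i j)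
  by_cases hij : i = j
  · rw [hij]; simp
  · rw [Matrix.one_apply_ne hij, map_zero]

/-- The dual representation. -/
def dual : SpecialLinearGroup (Fin 2) K →* GL (Fin n) F where
  toFun g := ⟨(ρ g⁻¹ : Matrix (Fin n) (Fin n) F)ᵀ, (ρ g : Matrix (Fin n) (Fin n) F)ᵀ, by
    rw [← Matrix.transpose_mul, ← Units.val_mul, ← map_mul, mul_inv_cancel, map_one, Units.val_one,
      Matrix.transpose_one], by
    rw [← Matrix.transpose_mul, ← Units.val_mul, ← map_mul, inv_mul_cancel, map_one, Units.val_one,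
      Matrix.transpose_one]⟩
  map_one' := by
    apply Units.ext
    simp
  map_mul' g h := by
    apply Units.ext
    simp [Matrix.transpose_mul]

theorem dual_coe (g : SpecialLinearGroup (Fin 2) K) :
    (dual ρ g : Matrix (Fin n) (Fin n) F) = (ρ g⁻¹ : Matrix (Fin n) (Fin n) F)ᵀ := rfl

theorem trace_dual (g : SpecialLinearGroup (Fin 2) K) :
    (dual ρ g : Matrix (Fin n) (Fin n) F).trace = (ρ g⁻¹ : Matrix (Fin n) (Fin n) F).trace := by
  rw [dual_coe, Matrix.trace_transpose]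

theorem span_dual (hsp : Submodule.span F (Set.range fun g => (ρ g : Matrix (Fin n) (Fin n) F)) = ⊤) :
    Submodule.span F (Set.range fun g => (dual ρ g : Matrix (Fin n) (Fin n) F)) = ⊤ := by
  have h1 : ∀ M : Matrix (Fin n) (Fin n) F,
      Mᵀ ∈ Submodule.span F (Set.range fun g => (dual ρ g : Matrix (Fin n) (Fin n) F)) := by
    intro M
    have hM : M ∈ Submodule.span F (Set.range fun g => (ρ g : Matrix (Fin n) (Fin n) F)) := by rw [hsp]; trivial
    induction hM using Submodule.span_induction with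
    | mem x hx =>
      obtain ⟨g, rfl⟩ := hx
      refine Submodule.subset_span ⟨g⁻¹, ?_⟩
      change (dual ρ g⁻¹ : Matrix (Fin n) (Fin n) F) = _
      rw [dual_coe, inv_inv]
    | zero =>
      rw [Matrix.transpose_zero]
      exact Submodule.zero_mem _
    | add x y _ _ hx hy =>
      rw [Matrix.transpose_add]
      exact Submodule.add_mem _ hx hy
    | smul a x _ hx =>
      rw [Matrix.transpose_smul]
      exact Submodule.smul_mem _ _ hx
  rw [eq_top_iff]
  intro M _
  have h2 := h1 Mᵀ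
  rwa [Matrix.transpose_transpose] at h2

theorem dual_ne_one (hρ : ρ ≠ 1) : dual ρ ≠ 1 := by
  intro h
  apply hρ
  ext1 g
  apply Units.ext
  have h1 : (dual ρ g⁻¹ : Matrix (Fin n) (Fin n) F) = 1 := by rw [h]; rfl
  rw [dual_coe, inv_inv] at h1
  rw [← Matrix.transpose_transpose (ρ g : Matrix (Fin n) (Fin n) F), h1, Matrix.transpose_one]
  rfl

/-- The central involution acts as `± 1`. -/
theorem exists_central (habs : ActsAbsolutelyIrreducibly (matrixSet ρ.range)) (hn : 0 < n) :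
    ∃ c : F, c ^ 2 = 1 ∧ (ρ (t (-1)) : Matrix (Fin n) (Fin n) F) = c • 1 := by
  have hcen := t_sq_central (K := K) (a := -1) (by simp)
  obtain ⟨c, hc⟩ := habs.2 (ρ (t (-1)) : Matrix (Fin n) (Fin n) F) (by
    rintro _ ⟨_, ⟨g, rfl⟩, rfl⟩
    change (ρ (t (-1)) : Matrix (Fin n) (Fin n) F) * (ρ g : Matrix (Fin n) (Fin n) F) =
      (ρ g : Matrix (Fin n) (Fin n) F) * (ρ (t (-1)) : Matrix (Fin n) (Fin n) F)
    rw [← Units.val_mul, ← Units.val_mul, ← map_mul, ← map_mul, hcen])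
  refine ⟨c, ?_, hc⟩
  have h1 : (ρ (t (-1)) : Matrix (Fin n) (Fin n) F) * (ρ (t (-1)) : Matrix (Fin n) (Fin n) F) = 1 := by
    rw [← Units.val_mul, ← map_mul, ← t_mul]
    have : ((-1 : Kˣ) * -1) = 1 := by simp
    rw [this, t_one, map_one, Units.val_one]
  rw [hc, smul_mul_smul_comm, one_mul, ← sq] at h1
  have h2 := congrFun (congrFun h1 ⟨0, hn⟩) ⟨0, hn⟩
  rw [Matrix.smul_apply, Matrix.one_apply_eq, smul_eq_mul, mul_one] at h2
  exact h2

theorem dual_central {c : F} (hc : (ρ (t (-1)) : Matrix (Fin n) (Fin n) F) = c • 1) :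
    (dual ρ (t (-1)) : Matrix (Fin n) (Fin n) F) = c • 1 := by
  have h1 : (t (-1) : SpecialLinearGroup (Fin 2) K)⁻¹ = t (-1) := by
    rw [inv_eq_iff_mul_eq_one, ← t_mul]
    have : ((-1 : Kˣ) * -1) = 1 := by simp
    rw [this, t_one]
  rw [dual_coe, h1, hc, Matrix.transpose_smul, Matrix.transpose_one]

theorem twist_central (σ : F →+* F) {c : F} (hc2 : c ^ 2 = 1)
    (hc : (ρ (t (-1)) : Matrix (Fin n) (Fin n) F) = c • 1) :
    (twist ρ σ (t (-1)) : Matrix (Fin n) (Fin n) F) = c • 1 := by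
  have h1 : σ c = c := by
    rw [sq] at hc2
    rcases mul_self_eq_one_iff.1 hc2 with h | h
    · rw [h, map_one]
    · rw [h, map_neg, map_one]
  rw [twist_coe, hc]
  ext i j
  rw [Matrix.map_apply, Matrix.smul_apply, smul_eq_mul, map_mul, h1]
  congr 1
  by_cases hij : i = j
  · rw [hij]; simp
  · rw [Matrix.one_apply_ne hij, map_zero]

theorem frob_natCast_ne_zero {p : ℕ} [Fact p.Prime] [CharP F p] (hK : (Fintype.card K : F) ≠ 0) : (p : K) ≠ 0 := by
  have hp : p.Prime := Fact.out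
  intro h
  have h1 : ringChar K ∣ p := (ringChar.spec K p).1 h
  have h3 : ringChar K = p := (Nat.prime_dvd_prime_iff_eq (CharP.char_is_prime K (ringChar K)) hp).1 h1
  have h4 : ringChar K ∣ Fintype.card K := by rw [← ringChar.spec, Nat.cast_card_eq_zero]
  rw [h3, ← CharP.cast_eq_zero_iff F p] at h4
  exact hK h4

/-- The Frobenius on the restriction of the Weil character to `U`. -/
theorem frob_trace_u (k : Type*) [Field k] [Algebra F k] {p : ℕ} [Fact p.Prime] [CharP k p] {ψ : AddChar K k}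
    (hψ : ψ.IsPrimitive) (hKk : (Fintype.card K : k) ≠ 0)
    (hle : ∀ b, finrank k (LinearMap.range (E (ext ρ k) ψ b)) ≤ 1) (e : ℕ) (x : K) :
    algebraMap F k ((ρ (u x) : Matrix (Fin n) (Fin n) F).trace ^ p ^ e) =
      ∑ b : K, ψ ((p : K) ^ e * (b * x)) * (finrank k (LinearMap.range (E (ext ρ k) ψ b)) : k) := by
  have hp : p.Prime := Fact.out
  rw [map_pow, ← trace_ext, trace_u _ hψ hKk, sum_pow_char_pow]
  refine Finset.sum_congr rfl fun b _ => ?_
  rw [mul_pow, ← AddChar.map_nsmul_eq_pow, nsmul_eq_mul, Nat.cast_pow]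
  congr 1
  have h6 := hle b
  generalize finrank k (LinearMap.range (E (ext ρ k) ψ b)) = m at h6 ⊢
  interval_cases m
  · rw [Nat.cast_zero, zero_pow (pow_ne_zero _ hp.ne_zero)]
  · rw [Nat.cast_one, one_pow]

theorem frob_trace_u_pos (k : Type*) [Field k] [Algebra F k] {p : ℕ} [Fact p.Prime] [CharP k p] {ψ : AddChar K k}
    (hψ : ψ.IsPrimitive) (hKk : (Fintype.card K : k) ≠ 0)
    (hle : ∀ b, finrank k (LinearMap.range (E (ext ρ k) ψ b)) ≤ 1) (e : ℕ) {a : K} (ha0 : a ≠ 0)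
    (ha : (p : K) ^ e = a * a) (x : K) :
    (ρ (u x) : Matrix (Fin n) (Fin n) F).trace ^ p ^ e = (ρ (u x) : Matrix (Fin n) (Fin n) F).trace := by
  apply (algebraMap F k).injective
  rw [frob_trace_u ρ k hψ hKk hle, ← trace_ext, trace_u _ hψ hKk]
  have h1 := Equiv.sum_comp (Equiv.mulLeft₀ (a ^ 2) (pow_ne_zero 2 ha0))
    (fun b : K => ψ (b * x) * (finrank k (LinearMap.range (E (ext ρ k) ψ b)) : k))
  rw [← h1]
  refine Finset.sum_congr rfl fun b _ => ?_
  change _ = ψ (a ^ 2 * b * x) * (finrank k (LinearMap.range (E (ext ρ k) ψ (a ^ 2 * b))) : k)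
  have h2 : finrank k (LinearMap.range (E (ext ρ k) ψ (a ^ 2 * b))) =
      finrank k (LinearMap.range (E (ext ρ k) ψ b)) :=
    finrank_E_mul_sq (ext ρ k) (ψ := ψ) (Units.mk0 a ha0) b
  rw [h2, ha, ← sq, mul_assoc]

theorem frob_trace_u_neg (k : Type*) [Field k] [Algebra F k] {p : ℕ} [Fact p.Prime] [CharP k p] {ψ : AddChar K k}
    (hψ : ψ.IsPrimitive) (hKk : (Fintype.card K : k) ≠ 0)
    (hle : ∀ b, finrank k (LinearMap.range (E (ext ρ k) ψ b)) ≤ 1) (e : ℕ) {a : K} (ha0 : a ≠ 0)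
    (ha : -(p : K) ^ e = a * a) (x : K) :
    (ρ (u x) : Matrix (Fin n) (Fin n) F).trace ^ p ^ e = (ρ (u x)⁻¹ : Matrix (Fin n) (Fin n) F).trace := by
  have hux : (u x)⁻¹ = u (-x) := by
    rw [inv_eq_iff_mul_eq_one, ← u_add, add_neg_cancel, u_zero]
  rw [hux]
  apply (algebraMap F k).injective
  rw [frob_trace_u ρ k hψ hKk hle, ← trace_ext, trace_u _ hψ hKk]
  have h1 := Equiv.sum_comp (Equiv.mulLeft₀ (a ^ 2) (pow_ne_zero 2 ha0))
    (fun b : K => ψ (b * -x) * (finrank k (LinearMap.range (E (ext ρ k) ψ b)) : k))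
  rw [← h1]
  refine Finset.sum_congr rfl fun b _ => ?_
  change _ = ψ (a ^ 2 * b * -x) * (finrank k (LinearMap.range (E (ext ρ k) ψ (a ^ 2 * b))) : k)
  have h2 : finrank k (LinearMap.range (E (ext ρ k) ψ (a ^ 2 * b))) =
      finrank k (LinearMap.range (E (ext ρ k) ψ b)) :=
    finrank_E_mul_sq (ext ρ k) (ψ := ψ) (Units.mk0 a ha0) b
  rw [h2]
  congr 2
  linear_combination (-b * x) * ha

theorem frob_exists_ext {p : ℕ} [Fact p.Prime] [CharP F p] (hK : (Fintype.card K : F) ≠ 0)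
    (h5 : 5 ≤ Fintype.card K) (hn : 2 * n + 1 = Fintype.card K ∨ 2 * n = Fintype.card K + 1)
    (hρ : ρ ≠ 1) (hsp : Submodule.span F (Set.range fun g => (ρ g : Matrix (Fin n) (Fin n) F)) = ⊤) (e : ℕ) :
    (∀ a : K, (p : K) ^ e = a * a → ∀ x,
      (ρ (u x) : Matrix (Fin n) (Fin n) F).trace ^ p ^ e = (ρ (u x) : Matrix (Fin n) (Fin n) F).trace) ∧
    (∀ a : K, -(p : K) ^ e = a * a → ∀ x,
      (ρ (u x) : Matrix (Fin n) (Fin n) F).trace ^ p ^ e = (ρ (u x)⁻¹ : Matrix (Fin n) (Fin n) F).trace) := by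
  have hcp : CharP (AlgebraicClosure F) p :=
    charP_of_injective_algebraMap (algebraMap F (AlgebraicClosure F)).injective p
  have hKk : (Fintype.card K : AlgebraicClosure F) ≠ 0 := by
    intro h
    apply hK
    apply (algebraMap F (AlgebraicClosure F)).injective
    rw [map_natCast, h, map_zero]
  obtain ⟨ψ, hψ⟩ := exists_prim (K := K) hKk
  obtain ⟨hle, -⟩ := exists_missing ρ (AlgebraicClosure F) hψ hKk hρ hsp h5 hn
  have hpK : (p : K) ≠ 0 := frob_natCast_ne_zero (F := F) hK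
  refine ⟨fun a ha x => frob_trace_u_pos ρ _ hψ hKk hle e ?_ ha x,
    fun a ha x => frob_trace_u_neg ρ _ hψ hKk hle e ?_ ha x⟩
  · rintro rfl
    rw [mul_zero] at ha
    exact pow_ne_zero e hpK ha
  · rintro rfl
    rw [mul_zero, neg_eq_zero] at ha
    exact pow_ne_zero e hpK ha

theorem weil_frob_pos [Finite F] {p : ℕ} [Fact p.Prime] [CharP F p] (hK : (Fintype.card K : F) ≠ 0)
    (h5 : 5 ≤ Fintype.card K) (h2 : ringChar K ≠ 2) (hn : 2 * n + 1 = Fintype.card K ∨ 2 * n = Fintype.card K + 1)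
    (hρ : ρ ≠ 1) (habs : ActsAbsolutelyIrreducibly (matrixSet ρ.range)) (e : ℕ) (σ : F →+* F)
    (hσ : ∀ y, σ y = y ^ p ^ e) (hsq : IsSquare ((p : K) ^ e)) (g) :
    (ρ g : Matrix (Fin n) (Fin n) F).trace ^ p ^ e = (ρ g : Matrix (Fin n) (Fin n) F).trace := by
  obtain ⟨a, ha⟩ := hsq
  have hsp := span_eq_top ρ habs
  have hn0 : 0 < n := by omega
  obtain ⟨c, hc2, hc⟩ := exists_central ρ habs hn0
  have hσs : Function.Surjective σ := Finite.surjective_of_injective σ.injective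
  have h := (frob_exists_ext ρ (p := p) hK h5 hn hρ hsp e).1 a ha
  rw [← hσ, ← trace_twist]
  refine weil_trace_eq (twist ρ σ) ρ hK (twist_ne_one ρ σ hρ) hρ (span_twist ρ σ hσs hsp) hsp h5 h2 hn ?_
    ⟨c, twist_central ρ σ hc2 hc, hc⟩ g
  intro x
  rw [trace_twist, hσ]
  exact h x

theorem weil_frob_neg [Finite F] {p : ℕ} [Fact p.Prime] [CharP F p] (hK : (Fintype.card K : F) ≠ 0)
    (h5 : 5 ≤ Fintype.card K) (h2 : ringChar K ≠ 2) (hn : 2 * n + 1 = Fintype.card K ∨ 2 * n = Fintype.card K + 1)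
    (hρ : ρ ≠ 1) (habs : ActsAbsolutelyIrreducibly (matrixSet ρ.range)) (e : ℕ) (σ : F →+* F)
    (hσ : ∀ y, σ y = y ^ p ^ e) (hsq : IsSquare (-(p : K) ^ e)) (g) :
    (ρ g : Matrix (Fin n) (Fin n) F).trace ^ p ^ e = (ρ g⁻¹ : Matrix (Fin n) (Fin n) F).trace := by
  obtain ⟨a, ha⟩ := hsq
  have hsp := span_eq_top ρ habs
  have hn0 : 0 < n := by omega
  obtain ⟨c, hc2, hc⟩ := exists_central ρ habs hn0
  have hσs : Function.Surjective σ := Finite.surjective_of_injective σ.injective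
  have h := (frob_exists_ext ρ (p := p) hK h5 hn hρ hsp e).2 a ha
  rw [← hσ, ← trace_twist, ← trace_dual]
  refine weil_trace_eq (twist ρ σ) (dual ρ) hK (twist_ne_one ρ σ hρ) (dual_ne_one ρ hρ)
    (span_twist ρ σ hσs hsp) (span_dual ρ hsp) h5 h2 hn ?_
    ⟨c, twist_central ρ σ hc2 hc, dual_central ρ hc⟩ g
  intro x
  rw [trace_twist, hσ, trace_dual]
  exact h x

/-- **Galois conjugation of the Weil characters**, `q` odd, `q ≥ 5`, dimension `(q - 1) / 2` or `(q + 1) / 2`. -/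
theorem weil_frob [Finite F] {p : ℕ} [Fact p.Prime] [CharP F p] (hK : (Fintype.card K : F) ≠ 0)
    (h5 : 5 ≤ Fintype.card K) (h2 : ringChar K ≠ 2) (hn : 2 * n + 1 = Fintype.card K ∨ 2 * n = Fintype.card K + 1)
    (hρ : ρ ≠ 1) (habs : ActsAbsolutelyIrreducibly (matrixSet ρ.range)) (e : ℕ) :
    (IsSquare ((p : K) ^ e) → ∀ g, (ρ g : Matrix (Fin n) (Fin n) F).trace ^ p ^ e =
      (ρ g : Matrix (Fin n) (Fin n) F).trace) ∧
    (IsSquare (-(p : K) ^ e) → ∀ g, (ρ g : Matrix (Fin n) (Fin n) F).trace ^ p ^ e =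
      (ρ g⁻¹ : Matrix (Fin n) (Fin n) F).trace) :=
  ⟨weil_frob_pos ρ hK h5 h2 hn hρ habs e (iterateFrobenius F p e) fun y => iterateFrobenius_def p e y,
    weil_frob_neg ρ hK h5 h2 hn hρ habs e (iterateFrobenius F p e) fun y => iterateFrobenius_def p e y⟩

/-- The Weil modules of `SL₂(r)`, `r ≡ 3 (mod 4)` prime. -/
theorem sl2_weil {r : ℕ} [Fact r.Prime] (hr4 : r % 4 = 3) (hr7 : 7 ≤ r) {K : Type*} [Field K] [Fintype K]
    (hK : Fintype.card K = r) {F : Type*} [Field F] [Finite F] {p : ℕ} [Fact p.Prime] [CharP F p] (hpr : p ≠ r)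
    {n : ℕ} (hn : n = (r - 1) / 2 ∨ n = (r + 1) / 2) (ρ : SpecialLinearGroup (Fin 2) K →* GL (Fin n) F) (hρ : ρ ≠ 1)
    (habs : ActsAbsolutelyIrreducibly (matrixSet ρ.range)) :
    (IsSquare (p : ZMod r) → ∀ g, (ρ g : Matrix (Fin n) (Fin n) F).trace ^ p =
      (ρ g : Matrix (Fin n) (Fin n) F).trace) ∧
    (¬ IsSquare (p : ZMod r) → ∀ g, (ρ g : Matrix (Fin n) (Fin n) F).trace ^ p =
      (ρ g⁻¹ : Matrix (Fin n) (Fin n) F).trace) := by
  classical
  have hr : r.Prime := Fact.out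
  have hp : p.Prime := Fact.out
  have hKF : (Fintype.card K : F) ≠ 0 := by
    rw [hK]
    intro h
    rw [CharP.cast_eq_zero_iff F p] at h
    exact hpr ((Nat.prime_dvd_prime_iff_eq hp hr).1 h)
  let f : ZMod r ≃+* K := ZMod.ringEquivOfPrime K hr hK
  have hsq : ∀ y : ZMod r, IsSquare y ↔ IsSquare (f y) := fun y =>
    ⟨fun h => h.map f, fun h => by
      have := h.map f.symm
      rwa [RingEquiv.symm_apply_apply] at this⟩
  have hchar : ringChar K ≠ 2 := by
    intro h
    have h1 := FiniteField.even_card_iff_char_two.1 h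
    rw [hK] at h1
    omega
  have h := weil_frob (p := p) ρ hKF (by rw [hK]; omega) hchar (by rw [hK]; omega) hρ habs 1
  rw [pow_one, pow_one] at h
  have hfp : f (p : ZMod r) = (p : K) := map_natCast f p
  constructor
  · intro h1
    apply h.1
    rw [← hfp, ← hsq]
    exact h1
  · intro h1
    apply h.2
    rw [hsq, hfp] at h1
    have h3 : ¬ IsSquare (-1 : K) := by
      rw [FiniteField.isSquare_neg_one_iff, hK, hr4]
      simp
    rw [← quadraticChar_neg_one_iff_not_isSquare] at h1 h3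
    have h4 : quadraticChar K (-(p : K)) = 1 := by
      rw [← neg_one_mul, map_mul, h1, h3]
      norm_num
    have h5 : (-(p : K)) ≠ 0 := by
      intro h5
      rw [h5, MulChar.map_zero] at h4
      exact zero_ne_one h4
    exact (quadraticChar_one_iff_isSquare h5).1 h4

end Weil

end Cfsg.Agent.H464.Sl2
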